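import Mathlib
import Cfsg.Agent.Lib.Helper63.PFrattini

set_option autoImplicit false

/-! Abelian groups of order `p ^ 4`. -/

namespace Cfsg.Agent.H84.AbQuart

section comm

variable {H : Type*} [CommGroup H] [Finite H] {p : ℕ} [Fact p.Prime]

/-- three "independent" elements of a commutative group, of orders dividing `p ^ 2`, `p`, `p` -/
theorem iso_of_basis (hcard : Nat.card H = p ^ 4) (a b c : H) (ha : a ^ p ^ 2 = 1)
    (hb : b ^ p = 1) (hc : c ^ p = 1)
    (hind : ∀ i j k : ℕ, a ^ i * b ^ j * c ^ k = 1 → p ^ 2 ∣ i ∧ p ∣ j ∧ p ∣ k) :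
    Nonempty (H ≃* Multiplicative (ZMod (p ^ 2) × ZMod p × ZMod p)) := by
  have hpp : p.Prime := Fact.out
  haveI : NeZero p := ⟨hpp.ne_zero⟩
  haveI : NeZero (p ^ 2) := ⟨pow_ne_zero 2 hpp.ne_zero⟩
  let ga : ZMod (p ^ 2) →+ Additive H :=
    ZMod.lift (p ^ 2) ⟨zmultiplesHom (Additive H) (Additive.ofMul a), by
      rw [zmultiplesHom_apply, Nat.cast_smul_eq_nsmul, ← ofMul_pow, ha]; rfl⟩
  let gb : ZMod p →+ Additive H :=
    ZMod.lift p ⟨zmultiplesHom (Additive H) (Additive.ofMul b), by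
      rw [zmultiplesHom_apply, Nat.cast_smul_eq_nsmul, ← ofMul_pow, hb]; rfl⟩
  let gc : ZMod p →+ Additive H :=
    ZMod.lift p ⟨zmultiplesHom (Additive H) (Additive.ofMul c), by
      rw [zmultiplesHom_apply, Nat.cast_smul_eq_nsmul, ← ofMul_pow, hc]; rfl⟩
  have hga : ∀ i : ZMod (p ^ 2), ga i = Additive.ofMul (a ^ i.val) := by
    intro i
    have h1 : ((i.val : ℤ) : ZMod (p ^ 2)) = i := by
      rw [Int.cast_natCast, ZMod.natCast_zmod_val]
    calc ga i = ga ((i.val : ℤ) : ZMod (p ^ 2)) := by rw [h1]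
      _ = (i.val : ℤ) • Additive.ofMul a := by rw [ZMod.lift_coe]; rfl
      _ = Additive.ofMul (a ^ i.val) := by rw [natCast_zsmul, ofMul_pow]
  have hgb : ∀ i : ZMod p, gb i = Additive.ofMul (b ^ i.val) := by
    intro i
    have h1 : ((i.val : ℤ) : ZMod p) = i := by
      rw [Int.cast_natCast, ZMod.natCast_zmod_val]
    calc gb i = gb ((i.val : ℤ) : ZMod p) := by rw [h1]
      _ = (i.val : ℤ) • Additive.ofMul b := by rw [ZMod.lift_coe]; rfl
      _ = Additive.ofMul (b ^ i.val) := by rw [natCast_zsmul, ofMul_pow]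
  have hgc : ∀ i : ZMod p, gc i = Additive.ofMul (c ^ i.val) := by
    intro i
    have h1 : ((i.val : ℤ) : ZMod p) = i := by
      rw [Int.cast_natCast, ZMod.natCast_zmod_val]
    calc gc i = gc ((i.val : ℤ) : ZMod p) := by rw [h1]
      _ = (i.val : ℤ) • Additive.ofMul c := by rw [ZMod.lift_coe]; rfl
      _ = Additive.ofMul (c ^ i.val) := by rw [natCast_zsmul, ofMul_pow]
  let g : ZMod (p ^ 2) × ZMod p × ZMod p →+ Additive H := ga.coprod (gb.coprod gc)
  have hg : ∀ x : ZMod (p ^ 2) × ZMod p × ZMod p,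
      g x = Additive.ofMul (a ^ x.1.val * b ^ x.2.1.val * c ^ x.2.2.val) := by
    intro x
    show ga x.1 + (gb x.2.1 + gc x.2.2) = _
    rw [hga, hgb, hgc, mul_assoc]
    rfl
  let φ : Multiplicative (ZMod (p ^ 2) × ZMod p × ZMod p) →* H := AddMonoidHom.toMultiplicativeLeft g
  have hφ : ∀ x : Multiplicative (ZMod (p ^ 2) × ZMod p × ZMod p),
      φ x = a ^ (Multiplicative.toAdd x).1.val * b ^ (Multiplicative.toAdd x).2.1.val *
        c ^ (Multiplicative.toAdd x).2.2.val := by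
    intro x
    exact congrArg Additive.toMul (hg (Multiplicative.toAdd x))
  have hinj : Function.Injective φ := by
    rw [injective_iff_map_eq_one]
    intro x hx
    rw [hφ] at hx
    obtain ⟨h1, h2, h3⟩ := hind _ _ _ hx
    have e1 : (Multiplicative.toAdd x).1 = 0 := by
      rw [← ZMod.natCast_zmod_val (Multiplicative.toAdd x).1]
      exact (ZMod.natCast_eq_zero_iff _ _).mpr h1
    have e2 : (Multiplicative.toAdd x).2.1 = 0 := by
      rw [← ZMod.natCast_zmod_val (Multiplicative.toAdd x).2.1]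
      exact (ZMod.natCast_eq_zero_iff _ _).mpr h2
    have e3 : (Multiplicative.toAdd x).2.2 = 0 := by
      rw [← ZMod.natCast_zmod_val (Multiplicative.toAdd x).2.2]
      exact (ZMod.natCast_eq_zero_iff _ _).mpr h3
    have : Multiplicative.toAdd x = 0 := Prod.ext e1 (Prod.ext e2 e3)
    exact this
  have hcard2 : Nat.card (Multiplicative (ZMod (p ^ 2) × ZMod p × ZMod p)) = Nat.card H := by
    rw [hcard]
    show Nat.card (ZMod (p ^ 2) × ZMod p × ZMod p) = _
    rw [Nat.card_prod, Nat.card_prod, Nat.card_zmod, Nat.card_zmod]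
    ring
  haveI : Finite (Multiplicative (ZMod (p ^ 2) × ZMod p × ZMod p)) :=
    Nat.finite_of_card_ne_zero (by rw [hcard2, hcard]; exact pow_ne_zero 4 hpp.ne_zero)
  have hbij : Function.Bijective φ :=
    (Nat.bijective_iff_injective_and_card φ).mpr ⟨hinj, hcard2⟩
  exact ⟨(MulEquiv.ofBijective φ hbij).symm⟩

/-- if `c ^ k = u⁻¹` with `k` prime to `p` and `c ^ p = u ^ p = 1`, then `c` is a power of `u` -/
theorem eq_pow_of_coprime (c u : H) (k : ℕ) (hk : ¬ p ∣ k) (hc : c ^ p = 1) (hu : u ^ p = 1)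
    (h : c ^ k * u = 1) : ∃ n : ℕ, c = u ^ n := by
  have hpp : p.Prime := Fact.out
  have hcop : Nat.Coprime k p := (Nat.Coprime.symm ((Nat.Prime.coprime_iff_not_dvd hpp).mpr hk))
  obtain ⟨m, hm⟩ := Nat.exists_mul_mod_eq_one_of_coprime hcop hpp.one_lt
  have h1 : c ^ k = u ^ (p - 1) := by
    have h2 : u * u ^ (p - 1) = 1 := by
      rw [← pow_succ', Nat.sub_add_cancel hpp.one_le, hu]
    calc c ^ k = c ^ k * (u * u ^ (p - 1)) := by rw [h2, mul_one]
      _ = (c ^ k * u) * u ^ (p - 1) := by rw [mul_assoc]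
      _ = u ^ (p - 1) := by rw [h, one_mul]
  refine ⟨(p - 1) * m, ?_⟩
  calc c = c ^ (k * m % p) := by rw [hm.2, pow_one]
    _ = c ^ (k * m) := (pow_eq_pow_mod (k * m) hc).symm
    _ = (c ^ k) ^ m := pow_mul c k m
    _ = u ^ ((p - 1) * m) := by rw [h1, ← pow_mul]

end comm

/-- [Q1] abelian groups of order `p ^ 4` -/
theorem abelian_quartic {H : Type*} [Group H] [Finite H] {p : ℕ} [Fact p.Prime]
    (hcard : Nat.card H = p ^ 4) (hc : ∀ a b : H, a * b = b * a) :
    (∀ x : H, x ^ p = 1) ∨ Nonempty (H ≃* Multiplicative (ZMod (p ^ 2) × ZMod p × ZMod p)) ∨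
      (frattini H).index ≤ p ^ 2 := by
  have hpp : p.Prime := Fact.out
  have hP : IsPGroup p H := IsPGroup.of_card hcard
  have hR0 : ∀ x : H, x ^ p ∈ frattini H :=
    fun x => Cfsg.Agent.Lib.Helper63.PFrattini.pow_mem_frattini hP x
  let _ : CommGroup H := { (inferInstance : Group H) with mul_comm := hc }
  obtain ⟨f, hf⟩ : ∃ f : H →* H, ∀ x, f x = x ^ p := ⟨powMonoidHom p, fun x => rfl⟩
  have hR : f.range ≤ frattini H := by
    rintro _ ⟨x, rfl⟩
    rw [hf]; exact hR0 x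
  have hKR : Nat.card f.ker * Nat.card f.range = p ^ 4 := by
    rw [← Subgroup.index_ker, Subgroup.card_mul_index, hcard]
  have hKdvd : Nat.card f.ker ∣ p ^ 4 := Dvd.intro _ hKR
  obtain ⟨k, hk4, hk⟩ := (Nat.dvd_prime_pow hpp).mp hKdvd
  have hRcard : Nat.card f.range = p ^ (4 - k) := by
    rw [hk] at hKR
    have h1 : p ^ k * Nat.card f.range = p ^ k * p ^ (4 - k) := by
      rw [hKR, ← pow_add]; congr 1; omega
    exact Nat.eq_of_mul_eq_mul_left (pow_pos hpp.pos k) h1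
  have hKmem : ∀ x : H, x ∈ f.ker ↔ x ^ p = 1 := by
    intro x; rw [MonoidHom.mem_ker, hf]
  by_cases hk2 : k ≤ 2
  · right; right
    have h1 : (frattini H).index ∣ f.range.index := Subgroup.index_dvd_of_le hR
    have h2 : f.range.index = p ^ k := by
      have h3 := Subgroup.card_mul_index f.range
      rw [hcard, hRcard] at h3
      have h4 : p ^ (4 - k) * f.range.index = p ^ (4 - k) * p ^ k := by
        rw [h3, ← pow_add]; congr 1; omega
      exact Nat.eq_of_mul_eq_mul_left (pow_pos hpp.pos _) h4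
    rw [h2] at h1
    calc (frattini H).index ≤ p ^ k := Nat.le_of_dvd (pow_pos hpp.pos k) h1
      _ ≤ p ^ 2 := Nat.pow_le_pow_right hpp.pos hk2
  by_cases hk4' : k = 4
  · left
    have htop : f.ker = ⊤ := by
      apply Subgroup.eq_top_of_card_eq
      rw [hk, hk4', hcard]
    intro x
    rw [← hKmem, htop]; trivial
  have hk3 : k = 3 := by omega
  subst hk3
  right; left
  have hRp : Nat.card f.range = p := by rw [hRcard]; norm_num
  -- an element of order `p ^ 2`
  obtain ⟨a, haK⟩ : ∃ a : H, a ∉ f.ker := by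
    by_contra hcon
    push_neg at hcon
    have htop : f.ker = ⊤ := (Subgroup.eq_top_iff' _).mpr hcon
    have h1 : Nat.card f.ker = Nat.card H := by rw [htop, Subgroup.card_top]
    rw [hk, hcard] at h1
    have := Nat.pow_right_injective hpp.two_le h1
    omega
  have hap : a ^ p ≠ 1 := fun h => haK ((hKmem a).mpr h)
  have hRpow : ∀ y ∈ f.range, y ^ p = 1 := by
    intro y hy
    have := pow_card_eq_one' (G := f.range) (x := ⟨y, hy⟩)
    rw [hRp] at this
    exact congrArg Subtype.val this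
  have hapR : a ^ p ∈ f.range := ⟨a, hf a⟩
  have happ : (a ^ p) ^ p = 1 := hRpow _ hapR
  have ha2 : a ^ p ^ 2 = 1 := by rw [pow_two, pow_mul]; exact happ
  have hordap : orderOf (a ^ p) = p := orderOf_eq_prime happ hap
  have hcardK : Nat.card f.ker = p ^ 3 := hk
  haveI : NeZero p := ⟨hpp.ne_zero⟩
  -- `b`
  obtain ⟨b, hbK, hb⟩ : ∃ b : H, b ∈ f.ker ∧ ∀ x : ℕ, (a ^ p) ^ x ≠ b := by
    by_contra hcon
    push_neg at hcon
    have hsurj : Function.Surjective (fun i : Fin p => (⟨(a ^ p) ^ (i : ℕ),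
        (hKmem _).mpr (by rw [← pow_mul, mul_comm, pow_mul, happ, one_pow])⟩ : f.ker)) := by
      rintro ⟨y, hy⟩
      obtain ⟨x, hx⟩ := hcon y hy
      refine ⟨⟨x % p, Nat.mod_lt _ hpp.pos⟩, Subtype.ext ?_⟩
      show (a ^ p) ^ (x % p) = y
      rw [← pow_eq_pow_mod x happ, hx]
    have := Nat.card_le_card_of_surjective _ hsurj
    rw [hcardK, Nat.card_fin] at this
    have h2 : p ^ 1 < p ^ 3 := Nat.pow_lt_pow_right hpp.one_lt (by norm_num)
    rw [pow_one] at h2
    omega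
  have hbp : b ^ p = 1 := (hKmem b).mp hbK
  -- `c`
  obtain ⟨c, hcK, hcc⟩ : ∃ c : H, c ∈ f.ker ∧ ∀ x y : ℕ, (a ^ p) ^ x * b ^ y ≠ c := by
    by_contra hcon
    push_neg at hcon
    have hsurj : Function.Surjective (fun i : Fin p × Fin p =>
        (⟨(a ^ p) ^ (i.1 : ℕ) * b ^ (i.2 : ℕ), (hKmem _).mpr (by
          rw [mul_pow, ← pow_mul, mul_comm (i.1 : ℕ) p, pow_mul, happ, one_pow, ← pow_mul,
            mul_comm (i.2 : ℕ) p, pow_mul, hbp, one_pow, one_mul])⟩ : f.ker)) := by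
      rintro ⟨y, hy⟩
      obtain ⟨x, z, hx⟩ := hcon y hy
      refine ⟨(⟨x % p, Nat.mod_lt _ hpp.pos⟩, ⟨z % p, Nat.mod_lt _ hpp.pos⟩), Subtype.ext ?_⟩
      show (a ^ p) ^ (x % p) * b ^ (z % p) = y
      rw [← pow_eq_pow_mod x happ, ← pow_eq_pow_mod z hbp, hx]
    have := Nat.card_le_card_of_surjective _ hsurj
    rw [hcardK, Nat.card_prod, Nat.card_fin] at this
    have h2 : p ^ 2 < p ^ 3 := Nat.pow_lt_pow_right hpp.one_lt (by norm_num)
    have h3 : p * p = p ^ 2 := by ring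
    omega
  have hcp : c ^ p = 1 := (hKmem c).mp hcK
  apply iso_of_basis hcard a b c ha2 hbp hcp
  intro i j k h
  -- `p ∣ i`
  have h1 : (a ^ p) ^ i = 1 := by
    have := congrArg (fun y => y ^ p) h
    simp only [mul_pow, one_pow] at this
    rw [← pow_mul b, mul_comm j p, pow_mul b, hbp, one_pow, mul_one,
      ← pow_mul c, mul_comm k p, pow_mul c, hcp, one_pow, mul_one, ← pow_mul, mul_comm i p,
      pow_mul] at this
    exact this
  have hpi : p ∣ i := by
    rw [← hordap]; exact orderOf_dvd_of_pow_eq_one h1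
  obtain ⟨i', rfl⟩ := hpi
  rw [pow_mul] at h
  -- `p ∣ k`
  have hpk : p ∣ k := by
    by_contra hk'
    have hu : ((a ^ p) ^ i' * b ^ j) ^ p = 1 := by
      rw [mul_pow, ← pow_mul, mul_comm i' p, pow_mul, happ, one_pow, ← pow_mul, mul_comm j p,
        pow_mul, hbp, one_pow, one_mul]
    obtain ⟨n, hn⟩ := eq_pow_of_coprime c ((a ^ p) ^ i' * b ^ j) k hk' hcp hu
      (by rw [mul_comm]; exact h)
    have e : ((a ^ p) ^ i' * b ^ j) ^ n = (a ^ p) ^ (i' * n) * b ^ (j * n) := by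
      rw [mul_pow, pow_mul (a ^ p) i' n, pow_mul b j n]
    exact hcc _ _ (e.symm.trans hn.symm)
  obtain ⟨k', rfl⟩ := hpk
  rw [pow_mul c, hcp, one_pow, mul_one] at h
  -- `p ∣ j`
  have hpj : p ∣ j := by
    by_contra hj'
    have hu : ((a ^ p) ^ i') ^ p = 1 := by
      rw [← pow_mul, mul_comm i' p, pow_mul, happ, one_pow]
    obtain ⟨n, hn⟩ := eq_pow_of_coprime b ((a ^ p) ^ i') j hj' hbp hu
      (by rw [mul_comm]; exact h)
    exact hb _ ((pow_mul (a ^ p) i' n).trans hn.symm)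
  obtain ⟨j', rfl⟩ := hpj
  rw [pow_mul b, hbp, one_pow, mul_one] at h
  have hpi' : p ∣ i' := by
    rw [← hordap]; exact orderOf_dvd_of_pow_eq_one h
  refine ⟨?_, Dvd.intro _ rfl, Dvd.intro _ rfl⟩
  obtain ⟨i'', rfl⟩ := hpi'
  exact ⟨i'', by ring⟩

end Cfsg.Agent.H84.AbQuart
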