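import Cfsg.Agent.H84.PCube

set_option autoImplicit false

/-! A chain of four layers of order `p` preserved by a group of automorphisms. -/

namespace Cfsg.Agent.H84.Chain4

open scoped commutatorElement
open Cfsg.Agent.H84.PCube

theorem relIndex_of_card {H : Type*} [Group H] [Finite H] {p : ℕ} (hp : 0 < p) (K M : Subgroup H)
    (hKM : K ≤ M) (k : ℕ) (hK : Nat.card K = p ^ k) (hM : Nat.card M = p ^ (k + 1)) :
    K.relIndex M = p := by
  have h1 := Subgroup.card_mul_index (K.subgroupOf M)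
  have h2 : Nat.card ↥(K.subgroupOf M) = Nat.card ↥K :=
    Nat.card_congr (Subgroup.subgroupOfEquivOfLe hKM).toEquiv
  rw [h2, hK, hM] at h1
  have h3 : p ^ k * (K.subgroupOf M).index = p ^ k * p := by rw [h1]; ring
  exact Nat.eq_of_mul_eq_mul_left (pow_pos hp k) h3

/-- [Q6] a group of automorphisms of a group of order `p ^ 4` preserving a chain of normal
subgroups of orders `p ^ 3`, `p ^ 2`, `p` has a `p`-group as commutator subgroup -/
theorem commutator_isPGroup_of_chain4 {H : Type*} [Group H] [Finite H] {p : ℕ} [Fact p.Prime]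
    (hcard : Nat.card H = p ^ 4) (C B A : Subgroup H) (hAB : A ≤ B) (hBC : B ≤ C)
    (hC : Nat.card C = p ^ 3) (hB : Nat.card B = p ^ 2) (hA : Nat.card A = p)
    (hCn : C.Normal) (hBn : B.Normal) (hAn : A.Normal) (X : Subgroup (MulAut H))
    (hXC : ∀ α ∈ X, ∀ x ∈ C, α x ∈ C) (hXB : ∀ α ∈ X, ∀ x ∈ B, α x ∈ B)
    (hXA : ∀ α ∈ X, ∀ x ∈ A, α x ∈ A) : IsPGroup p ↥(commutator ↥X) := by
  have hpp : p.Prime := Fact.out
  have hH : IsPGroup p H := IsPGroup.of_card hcard
  have hCidx : C.relIndex ⊤ = p := by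
    apply relIndex_of_card hpp.pos C ⊤ le_top 3 hC
    rw [Subgroup.card_top]; exact hcard
  have hBCidx : B.relIndex C = p := relIndex_of_card hpp.pos B C hBC 2 hB hC
  have hABidx : A.relIndex B = p := relIndex_of_card hpp.pos A B hAB 1 (by rw [hA, pow_one]) hB
  have hAidx : (⊥ : Subgroup H).relIndex A = p := by
    rw [Subgroup.relIndex_bot_left]; exact hA
  let N : Subgroup (MulAut H) :=
    { carrier := {γ | γ ∈ X ∧ (∀ x, x⁻¹ * γ x ∈ C) ∧ (∀ x ∈ C, x⁻¹ * γ x ∈ B) ∧
        (∀ x ∈ B, x⁻¹ * γ x ∈ A) ∧ (∀ x ∈ A, γ x = x)}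
      one_mem' := ⟨X.one_mem, fun x => by simp, fun x _ => by simp, fun x _ => by simp,
        fun x _ => rfl⟩
      mul_mem' := by
        rintro γ δ ⟨hγ, h1, h2, h3, h4⟩ ⟨hδ, k1, k2, k3, k4⟩
        have e : ∀ x, x⁻¹ * (γ * δ) x = (x⁻¹ * γ x) * γ (x⁻¹ * δ x) := by
          intro x
          rw [MulAut.mul_apply, map_mul, map_inv]; group
        refine ⟨X.mul_mem hγ hδ, fun x => ?_, fun x hx => ?_, fun x hx => ?_, fun x hx => ?_⟩
        · rw [e]
          exact C.mul_mem (h1 x) (hXC γ hγ _ (k1 x))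
        · rw [e]
          exact B.mul_mem (h2 x hx) (hXB γ hγ _ (k2 x hx))
        · rw [e]
          exact A.mul_mem (h3 x hx) (hXA γ hγ _ (k3 x hx))
        · rw [MulAut.mul_apply, k4 x hx, h4 x hx]
      inv_mem' := by
        rintro γ ⟨hγ, h1, h2, h3, h4⟩
        have hγi := X.inv_mem hγ
        have e : ∀ x, x⁻¹ * γ⁻¹ x = γ⁻¹ ((x⁻¹ * γ x)⁻¹) := by
          intro x
          rw [mul_inv_rev, inv_inv, map_mul, map_inv, MulAut.inv_apply_self]
        refine ⟨hγi, fun x => ?_, fun x hx => ?_, fun x hx => ?_, fun x hx => ?_⟩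
        · rw [e]
          exact hXC _ hγi _ (C.inv_mem (h1 x))
        · rw [e]
          exact hXB _ hγi _ (B.inv_mem (h2 x hx))
        · rw [e]
          exact hXA _ hγi _ (A.inv_mem (h3 x hx))
        · have h5 := h4 x hx
          calc γ⁻¹ x = γ⁻¹ (γ x) := by rw [h5]
            _ = x := MulAut.inv_apply_self _ γ x }
  have hNp : ∀ γ ∈ N, ∃ k : ℕ, γ ^ (p ^ k) = 1 := by
    rintro γ ⟨hγ, h1, h2, h3, h4⟩
    let D : ℕ → Subgroup H := fun i => match i with
      | 0 => ⊤
      | 1 => C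
      | 2 => B
      | 3 => A
      | _ => ⊥
    refine Cfsg.Agent.Lib.Helper87.StabChain.exists_pow_eq_one hH γ D ?_ ?_ rfl 4 rfl
    · intro i x hx
      rcases i with _ | _ | _ | _ | i
      · exact Subgroup.mem_top _
      · exact hXC γ hγ x hx
      · exact hXB γ hγ x hx
      · exact hXA γ hγ x hx
      · have hx1 : x = 1 := Subgroup.mem_bot.mp hx
        rw [hx1, map_one]
        exact Subgroup.one_mem _
    · intro i x hx
      rcases i with _ | _ | _ | _ | i
      · exact h1 x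
      · exact h2 x hx
      · exact h3 x hx
      · have e : x⁻¹ * γ x = 1 := by rw [h4 x hx, inv_mul_cancel]
        rw [e]
        exact Subgroup.one_mem _
      · have hx1 : x = 1 := Subgroup.mem_bot.mp hx
        have e : x⁻¹ * γ x = 1 := by rw [hx1, map_one, inv_one, one_mul]
        rw [e]
        exact Subgroup.one_mem _
  have hcomm : ⁅X, X⁆ ≤ N := by
    rw [Subgroup.commutator_le]
    intro a ha b hb
    have hai := X.inv_mem ha
    have hbi := X.inv_mem hb
    have key : ∀ x : H, b (a (a⁻¹ (b⁻¹ x))) = x := by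
      intro x
      rw [MulAut.apply_inv_self, MulAut.apply_inv_self]
    have key2 : ∀ x : H, ⁅a, b⁆ x = a (b (a⁻¹ (b⁻¹ x))) := fun x => rfl
    refine ⟨?_, fun x => ?_, fun x hx => ?_, fun x hx => ?_, fun x hx => ?_⟩
    · rw [commutatorElement_def]
      exact X.mul_mem (X.mul_mem (X.mul_mem ha hb) hai) hbi
    · have h := layer_comm (p := p) ⊤ C hCidx a b
        (fun _ _ => Subgroup.mem_top _) (hXC a ha) (fun _ _ => Subgroup.mem_top _) (hXC b hb)
        (a⁻¹ (b⁻¹ x)) (Subgroup.mem_top _)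
      rw [key] at h
      rw [key2]
      exact h
    · have h := layer_comm (p := p) C B hBCidx a b (hXC a ha) (hXB a ha) (hXC b hb) (hXB b hb)
        (a⁻¹ (b⁻¹ x)) (hXC _ hai _ (hXC _ hbi _ hx))
      rw [key] at h
      rw [key2]
      exact h
    · have h := layer_comm (p := p) B A hABidx a b (hXB a ha) (hXA a ha) (hXB b hb) (hXA b hb)
        (a⁻¹ (b⁻¹ x)) (hXB _ hai _ (hXB _ hbi _ hx))
      rw [key] at h
      rw [key2]
      exact h
    · have h := layer_comm (p := p) A ⊥ hAidx a b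
        (hXA a ha) (fun y hy => by rw [Subgroup.mem_bot.mp hy, map_one]; exact Subgroup.one_mem _)
        (hXA b hb) (fun y hy => by rw [Subgroup.mem_bot.mp hy, map_one]; exact Subgroup.one_mem _)
        (a⁻¹ (b⁻¹ x)) (hXA _ hai _ (hXA _ hbi _ hx))
      rw [key] at h
      rw [key2]
      exact (inv_mul_eq_one.mp (Subgroup.mem_bot.mp h)).symm
  intro g
  have hg : ((g : ↥X) : MulAut H) ∈ ⁅X, X⁆ := by
    have h0 : (commutator ↥X).map X.subtype = ⁅X, X⁆ := by
      rw [commutator_def, Subgroup.map_commutator, ← MonoidHom.range_eq_map,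
        Subgroup.range_subtype]
    rw [← h0]
    exact ⟨g, g.2, rfl⟩
  obtain ⟨k, hk⟩ := hNp _ (hcomm hg)
  refine ⟨k, ?_⟩
  apply Subtype.ext
  apply Subtype.ext
  exact hk

end Cfsg.Agent.H84.Chain4
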