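import Cfsg.Agent.H84.FusNormal
import Cfsg.Agent.S5086
import Cfsg.Agent.S5088
import Cfsg.Agent.S5145

set_option autoImplicit false

namespace Cfsg.Agent.H84

open Cfsg Cfsg.FusionSystem
open scoped commutatorElement
open Cfsg.Agent.Lib.Helper87.FSBasic Cfsg.Agent.Lib.Helper87.FSSat
  Cfsg.Agent.Lib.Helper87.FSNormal

variable {Ω : Type*} [Group Ω] {S : Subgroup Ω}

theorem autGroup_le_of_subsystem {T : Subgroup Ω} (E : FusionSystem T) (F : FusionSystem S)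
    (hEF : E.IsSubsystemOf F) (P : Subgroup Ω) : E.autGroup P ≤ F.autGroup P := by
  apply Subgroup.closure_mono
  intro α hα
  exact hEF P hα

section

variable [Finite S] {p : ℕ} [Fact p.Prime]

/-- A subgroup `R ≤ T` normal in the big system `F` lies in every `P ≤ T` with `C_T(P) ≤ P`
whose automorphism group in the subsystem `E` has no normal `p`-subgroup outside `Inn(P)`. -/
theorem le_of_isNormal_sub (hS : IsPGroup p S) {T : Subgroup Ω} (E : FusionSystem T)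
    (F : FusionSystem S) (hEF : E.IsSubsystemOf F) (hTS : T ≤ S) {R P : Subgroup Ω}
    (hN : F.IsNormal R) (hRT : R ≤ T) (hP : P ≤ T) (hC : centralizerIn T P ≤ P)
    (H : ∀ B : Subgroup (E.autGroup P), B.Normal → IsPGroup p B →
      B ≤ (Inn P).subgroupOf (E.autGroup P)) : R ≤ P := by
  by_contra hRP
  have hRS : R ≤ S := hN.1
  have hPS : P ≤ S := hP.trans hTS
  have hSN : S ≤ Subgroup.normalizer (R : Set Ω) :=
    le_normalizer_of_stronglyClosed F (stronglyClosed_of_isNormal F hN)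
  obtain ⟨a, haR, haN, haP⟩ :=
    Cfsg.Agent.Lib.Helper87.FSLocal.exists_mem_normalizer_of_not_le hS hPS hRS (hPS.trans hSN) hRP
  let B : Subgroup (E.autGroup P) := (autInducedBy R P).subgroupOf (E.autGroup P)
  have hBp : IsPGroup p B :=
    (isPGroup_autInducedBy (S := R) (hS.to_le hRS) P).comap_subtype
  have hBn : B.Normal := by
    constructor
    intro β hβ α
    have hβ' : (β : MulAut P) ∈ autInducedBy R P := Subgroup.mem_subgroupOf.mp hβ
    obtain ⟨g, hg, hgβ⟩ := (mem_autInducedBy_iff R P _).mp hβ'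
    have hφ : P.subtype.comp (α : MulAut P).toMonoidHom ∈ F.Hom P :=
      (mem_autGroup_iff F hPS _).mp (autGroup_le_of_subsystem E F hEF P α.2)
    obtain ⟨ψ, hψ, hext, hmap⟩ := hN.2 P _ hφ
    have hg' := maps_into_of_map_eq hmap ⟨g, hg⟩
    apply Subgroup.mem_subgroupOf.mpr
    rw [mem_autInducedBy_iff]
    refine ⟨_, hg', fun x => ?_⟩
    have e1 : ((α * β * α⁻¹ : E.autGroup P) : MulAut P) x =
        (α : MulAut P) ((β : MulAut P) ((α : MulAut P)⁻¹ x)) := rfl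
    have e2 : Subgroup.inclusion (le_sup_left : P ≤ P ⊔ R)
        ((β : MulAut P) ((α : MulAut P)⁻¹ x)) =
        Subgroup.inclusion (le_sup_right : R ≤ P ⊔ R) ⟨g, hg⟩ *
          Subgroup.inclusion (le_sup_left : P ≤ P ⊔ R) ((α : MulAut P)⁻¹ x) *
          (Subgroup.inclusion (le_sup_right : R ≤ P ⊔ R) ⟨g, hg⟩)⁻¹ :=
      Subtype.ext (hgβ _)
    have e3 := hext ((β : MulAut P) ((α : MulAut P)⁻¹ x))
    have e4 := hext ((α : MulAut P)⁻¹ x)
    have e5 : ((P.subtype.comp (α : MulAut P).toMonoidHom) ((α : MulAut P)⁻¹ x) : Ω) = x := by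
      show (((α : MulAut P) ((α : MulAut P)⁻¹ x) : P) : Ω) = x
      rw [MulAut.apply_inv_self]
    rw [e1]
    rw [e2, map_mul, map_mul, map_inv, e4, e5] at e3
    exact e3.symm
  let c : MulAut P := P.normalizerMonoidHom ⟨a, haN⟩
  have hca : ∀ x : P, ((c x : P) : Ω) = a * (x : Ω) * a⁻¹ := fun x => rfl
  have hcT : c ∈ autInducedBy T P := Subgroup.subset_closure ⟨a, hRT haR, hca⟩
  have hcR : c ∈ autInducedBy R P := Subgroup.subset_closure ⟨a, haR, hca⟩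
  have hcA : c ∈ E.autGroup P := autInducedBy_le_autGroup E hP hcT
  have hcB : (⟨c, hcA⟩ : E.autGroup P) ∈ B := Subgroup.mem_subgroupOf.mpr hcR
  have hcI : c ∈ Inn P := Subgroup.mem_subgroupOf.mp (H B hBn hBp hcB)
  exact haP (mem_of_induces_inn hP hC c hcI (hRT haR) hca)

/-- Core step: if `Q` is the largest normal subgroup of the saturated system `F`, `C_S(Q) ≤ Q`,
and `E` is a saturated subsystem on a strongly closed `T`, then `Q ∩ T` is normal and centric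
in `E`. -/
theorem constrained_of_sub (hS : IsPGroup p S) (F : FusionSystem S) (hFsat : F.IsSaturated p)
    {Q : Subgroup Ω} (hQn : F.IsNormal Q) (hCQ : centralizerIn S Q ≤ Q)
    (hmax : ∀ X : Subgroup Ω, F.IsNormal X → X ≤ Q)
    {T : Subgroup Ω} (E : FusionSystem T) (hEsat : E.IsSaturated p) (hEF : E.IsSubsystemOf F)
    (hTsc : F.StronglyClosed T) : E.IsConstrained p := by
  have hTS : T ≤ S := hTsc.1
  have : Finite T := finite_of_le hTS
  have hT : IsPGroup p T := hS.to_le hTS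
  have hQS : Q ≤ S := hQn.1
  have hQsc : F.StronglyClosed Q := stronglyClosed_of_isNormal F hQn
  have hRT : Q ⊓ T ≤ T := inf_le_right
  have hRQ : Q ⊓ T ≤ Q := inf_le_left
  have hRsc : F.StronglyClosed (Q ⊓ T) :=
    ⟨hRT.trans hTS, fun P hP φ hφ x =>
      ⟨hQsc.2 P (hP.trans hRQ) φ hφ x, hTsc.2 P (hP.trans hRT) φ hφ x⟩⟩
  have hRn : F.IsNormal (Q ⊓ T) := by
    rw [Cfsg.Agent.S5086.result p hS F hFsat (Q ⊓ T)]
    exact ⟨hRsc, fun P hc hr =>
      hRQ.trans (((Cfsg.Agent.S5086.result p hS F hFsat Q).mp hQn).2 P hc hr)⟩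
  have hREsc : E.StronglyClosed (Q ⊓ T) :=
    ⟨hRT, fun P hP φ hφ x => hRsc.2 P hP φ (hEF P hφ) x⟩
  have hREn : E.IsNormal (Q ⊓ T) := by
    rw [Cfsg.Agent.S5086.result p hT E hEsat (Q ⊓ T)]
    refine ⟨hREsc, fun P hc hr => ?_⟩
    exact le_of_isNormal_sub hS E F hEF hTS hRn hRT hc.1 (hc.2 P (isConj_refl E hc.1))
      (normal_pSubgroup_le_inn_of_radical E hr)
  -- the centralizer of `R` in `T`
  have hXT : centralizerIn T (Q ⊓ T) ≤ T := inf_le_left
  have hXc : centralizerIn T (Q ⊓ T) ≤ Subgroup.centralizer ((Q ⊓ T : Subgroup Ω) : Set Ω) :=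
    inf_le_right
  have hXsc : F.StronglyClosed (centralizerIn T (Q ⊓ T)) := by
    refine ⟨hXT.trans hTS, fun P hP φ hφ x => ⟨hTsc.2 P (hP.trans hXT) φ hφ x, ?_⟩⟩
    show φ x ∈ Subgroup.centralizer ((Q ⊓ T : Subgroup Ω) : Set Ω)
    rw [Subgroup.mem_centralizer_iff]
    intro r hr
    obtain ⟨ψ, hψ, hext, hmap⟩ := hRn.2 P φ hφ
    have hr' : r ∈ ((Q ⊓ T).subgroupOf (P ⊔ (Q ⊓ T))).map ψ := by
      rw [hmap]; exact hr
    obtain ⟨z, hz, rfl⟩ := hr'
    rw [← hext x, ← map_mul, ← map_mul]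
    congr 1
    apply Subtype.ext
    show (z : Ω) * x = x * z
    exact (Subgroup.mem_centralizer_iff.mp (hXc (hP x.2))) (z : Ω) (Subgroup.mem_subgroupOf.mp hz)
  have hZsc : F.StronglyClosed (centralizerIn T (Q ⊓ T) ⊓ Q) :=
    ⟨inf_le_left.trans hXsc.1, fun P hP φ hφ x =>
      ⟨hXsc.2 P (hP.trans inf_le_left) φ hφ x, hQsc.2 P (hP.trans inf_le_right) φ hφ x⟩⟩
  have hSnQ : S ≤ Subgroup.normalizer (Q : Set Ω) := le_normalizer_of_stronglyClosed F hQsc
  have hSnT : S ≤ Subgroup.normalizer (T : Set Ω) := le_normalizer_of_stronglyClosed F hTsc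
  have h1 : ⁅centralizerIn T (Q ⊓ T), Q⁆ ≤ Q ⊓ T := by
    rw [Subgroup.commutator_le]
    intro x hx q hq
    have hxS : x ∈ S := hTS (hXT hx)
    have hqS : q ∈ S := hQS hq
    refine ⟨?_, ?_⟩
    · have h : x * q * x⁻¹ ∈ Q := (Subgroup.mem_normalizer_iff.mp (hSnQ hxS) q).mp hq
      have e : ⁅x, q⁆ = x * q * x⁻¹ * q⁻¹ := commutatorElement_def x q
      rw [e]
      exact Q.mul_mem h (Q.inv_mem hq)
    · have h : q * x⁻¹ * q⁻¹ ∈ T :=
        (Subgroup.mem_normalizer_iff.mp (hSnT hqS) x⁻¹).mp (T.inv_mem (hXT hx))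
      have e : ⁅x, q⁆ = x * (q * x⁻¹ * q⁻¹) := by
        rw [commutatorElement_def]; group
      rw [e]
      exact T.mul_mem (hXT hx) h
  have h2 : ⁅centralizerIn T (Q ⊓ T), Q ⊓ T⁆ = ⊥ :=
    Subgroup.commutator_eq_bot_iff_le_centralizer.mpr hXc
  have h3 : ⁅⁅centralizerIn T (Q ⊓ T), Q⁆, centralizerIn T (Q ⊓ T)⁆ = ⊥ := by
    rw [eq_bot_iff, ← h2, Subgroup.commutator_comm (centralizerIn T (Q ⊓ T)) (Q ⊓ T)]
    exact Subgroup.commutator_mono h1 le_rfl
  have h4 : ⁅⁅Q, centralizerIn T (Q ⊓ T)⁆, centralizerIn T (Q ⊓ T)⁆ = ⊥ := by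
    rw [Subgroup.commutator_comm Q (centralizerIn T (Q ⊓ T))]; exact h3
  have h5 : ⁅⁅centralizerIn T (Q ⊓ T), centralizerIn T (Q ⊓ T)⁆, Q⁆ = ⊥ :=
    Subgroup.commutator_commutator_eq_bot_of_rotate h3 h4
  have hle : ⁅centralizerIn T (Q ⊓ T), centralizerIn T (Q ⊓ T)⁆ ≤ centralizerIn T (Q ⊓ T) := by
    rw [Subgroup.commutator_le]
    intro x hx y hy
    rw [commutatorElement_def]
    exact Subgroup.mul_mem _ (Subgroup.mul_mem _ (Subgroup.mul_mem _ hx hy)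
      (Subgroup.inv_mem _ hx)) (Subgroup.inv_mem _ hy)
  have h6 : ⁅centralizerIn T (Q ⊓ T), centralizerIn T (Q ⊓ T)⁆ ≤
      centralizerIn T (Q ⊓ T) ⊓ Q := by
    have hc := Subgroup.commutator_eq_bot_iff_le_centralizer.mp h5
    intro g hg
    exact ⟨hle hg, hCQ ⟨hTS (hXT (hle hg)), hc hg⟩⟩
  have h7 : ⁅centralizerIn T (Q ⊓ T), centralizerIn T (Q ⊓ T) ⊓ Q⁆ ≤ ⊥ := by
    rw [← h2]
    exact Subgroup.commutator_mono le_rfl (fun z hz => ⟨hz.2, hXT hz.1⟩)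
  have hXn : F.IsNormal (centralizerIn T (Q ⊓ T)) := by
    rw [Cfsg.Agent.S5088.result p hS F hFsat (centralizerIn T (Q ⊓ T))]
    refine ⟨2, ![⊥, centralizerIn T (Q ⊓ T) ⊓ Q, centralizerIn T (Q ⊓ T)], rfl, rfl, ?_, ?_⟩
    · rw [Fin.monotone_iff_le_succ]
      rw [Fin.forall_fin_two]
      exact ⟨bot_le, inf_le_left⟩
    · rw [Fin.forall_fin_two]
      exact ⟨⟨hZsc, h7⟩, ⟨hXsc, h6⟩⟩
  have hXQ : centralizerIn T (Q ⊓ T) ≤ Q := hmax _ hXn
  refine ⟨hEsat, Q ⊓ T, hREn, hRT, ?_⟩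
  intro R' hconj
  obtain ⟨φ, hφ, hrange⟩ := hconj
  have hle' : φ.range ≤ Q ⊓ T := by
    rintro _ ⟨x, rfl⟩
    exact hREsc.2 (Q ⊓ T) le_rfl φ hφ x
  have : Finite ↥(Q ⊓ T) := finite_of_le (hRT.trans hTS)
  have heq : φ.range = Q ⊓ T :=
    Subgroup.eq_of_le_of_card_ge hle' (card_range E hφ).ge
  rw [← hrange, heq]
  exact fun x hx => ⟨hXQ hx, hXT hx⟩

/-- A weakly normal subsystem of a constrained system is constrained. -/
theorem constrained_of_weaklyNormal (hS : IsPGroup p S) (F : FusionSystem S)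
    (hF : F.IsConstrained p) {T : Subgroup Ω} (E : FusionSystem T)
    (hE : E.IsWeaklyNormalIn F p) : E.IsConstrained p := by
  obtain ⟨hEsat, hFsat, hEF, hTsc, -, -⟩ := hE
  obtain ⟨-, Q₀, hQ₀n, hQ₀c⟩ := hF
  have hQn : F.IsNormal F.core := Cfsg.Agent.S5145.result F
  have hQ₀Q : Q₀ ≤ F.core := le_sSup hQ₀n
  have hCQ : centralizerIn S F.core ≤ F.core := by
    intro x hx
    apply hQ₀Q
    apply hQ₀c.2 Q₀ (isConj_refl F hQ₀c.1)
    exact ⟨hx.1, Subgroup.centralizer_le (SetLike.coe_subset_coe.mpr hQ₀Q) hx.2⟩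
  exact constrained_of_sub hS F hFsat hQn hCQ (fun X hX => le_sSup hX) E hEsat hEF hTsc

end

end Cfsg.Agent.H84
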