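import Mathlib
import Cfsg.Prelude.Def_Transfer
import Cfsg.Agent.Lib.Helper63.PFrattini
import Cfsg.Agent.Lib.Helper24.MetaCoprime
import Cfsg.Agent.H84.Transv
import Cfsg.Agent.S3224

set_option autoImplicit false
open scoped commutatorElement

/-! Groups `G` with `Φ(G) = G'` of order `p` containing an element with elementary abelian
centralizer: they are `D₈ × A` (`p = 2`) or `p₊^{1+2} × A` (`p` odd, given an element of order `p`
outside that centralizer). -/

namespace Cfsg.Agent.H84.GesStruct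

open Cfsg.Agent.H84.Transv

theorem exists_compl_add {p : ℕ} [Fact p.Prime] {M : Type*} [AddCommGroup M] [Module (ZMod p) M]
    (C : AddSubgroup M) : ∃ A : AddSubgroup M, IsCompl C A := by
  obtain ⟨q, hq⟩ := Submodule.exists_isCompl (AddSubgroup.toZModSubmodule p C)
  refine ⟨(AddSubgroup.toZModSubmodule p).symm q, ?_⟩
  rw [(AddSubgroup.toZModSubmodule p).isCompl_iff, OrderIso.apply_symm_apply]
  exact hq

/-- Subgroups of elementary abelian groups have complements. -/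
theorem exists_compl_of_exp {H : Type*} [CommGroup H] {p : ℕ} [Fact p.Prime]
    (hexp : ∀ x : H, x ^ p = 1) (C : Subgroup H) : ∃ A : Subgroup H, IsCompl C A := by
  let _ : Module (ZMod p) (Additive H) := AddCommGroup.zmodModule (n := p) (fun x => by
    exact congrArg Additive.ofMul (hexp (Additive.toMul x)))
  obtain ⟨q, hq⟩ := exists_compl_add (p := p) (Subgroup.toAddSubgroup C)
  refine ⟨Subgroup.toAddSubgroup.symm q, ?_⟩
  rw [Subgroup.toAddSubgroup.isCompl_iff, OrderIso.apply_symm_apply]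
  exact hq

/-- Version for groups that are commutative by hypothesis. -/
theorem exists_compl_of_exp' {H : Type*} [Group H] {p : ℕ} [Fact p.Prime]
    (hcomm : ∀ a b : H, a * b = b * a)
    (hexp : ∀ x : H, x ^ p = 1) (C : Subgroup H) :
    ∃ A : Subgroup H, (∀ x, x ∈ C → x ∈ A → x = 1) ∧
      ∀ x : H, ∃ c ∈ C, ∃ a ∈ A, x = c * a := by
  let _i : CommGroup H := { (inferInstance : Group H) with mul_comm := hcomm }
  obtain ⟨A, hA⟩ := exists_compl_of_exp (H := H) (p := p) hexp C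
  refine ⟨A, ?_, ?_⟩
  · intro x hxC hxA
    have h1 : x ∈ C ⊓ A := ⟨hxC, hxA⟩
    rw [hA.inf_eq_bot] at h1
    exact h1
  · intro x
    have h1 : x ∈ C ⊔ A := by rw [hA.sup_eq_top]; trivial
    obtain ⟨c, hc, a, ha, h⟩ := Subgroup.mem_sup.mp h1
    exact ⟨c, hc, a, ha, h.symm⟩

section heis

variable {E : Type*} [Group E] [Finite E] {p : ℕ} [Fact p.Prime]

theorem heis_basic {t w c : E} (ht : t ^ p = 1) (hw : w ^ p = 1)
    (hc : c = t * w * t⁻¹ * w⁻¹) (hc1 : c ≠ 1) (hcc : ∀ g : E, g * c = c * g)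
    (hnf : ∀ g : E, ∃ i j k : ℤ, g = t ^ i * w ^ j * c ^ k) :
    c ^ p = 1 ∧ Nat.card E = p ^ 3 ∧ Subgroup.center E = Subgroup.zpowers c ∧
      Nat.card (Subgroup.zpowers c) = p := by
  have hp : p.Prime := Fact.out
  have hcE : c = ⁅t, w⁆ := by rw [hc, commutatorElement_def]
  have hcp : c ^ p = 1 := by
    have h1 := Cfsg.Agent.Lib.Helper24.SpecialGroup.commutator_pow_left t w
      (by rw [← hcE]; exact (hcc t).symm) p
    rw [ht, ← hcE] at h1
    rw [← h1]; simp
  have htw : t * w ≠ w * t := by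
    intro h
    apply hc1
    rw [hc, h]; group
  have ht1 : t ≠ 1 := by rintro rfl; exact htw (by simp)
  have hw1 : w ≠ 1 := by rintro rfl; exact htw (by simp)
  have hot : orderOf t = p := orderOf_eq_prime ht ht1
  have how : orderOf w = p := orderOf_eq_prime hw hw1
  have hoc : orderOf c = p := orderOf_eq_prime hcp hc1
  have hcT : Nat.card (Subgroup.zpowers t) = p := by rw [Nat.card_zpowers, hot]
  have hcW : Nat.card (Subgroup.zpowers w) = p := by rw [Nat.card_zpowers, how]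
  have hcC : Nat.card (Subgroup.zpowers c) = p := by rw [Nat.card_zpowers, hoc]
  have hTw : ∀ a ∈ Subgroup.zpowers t, a * w = w * a → a = 1 := by
    intro a ha haw
    rcases inf_eq_bot_or_le (Subgroup.centralizer {w}) hcT with h | h
    · have h2 : a ∈ Subgroup.zpowers t ⊓ Subgroup.centralizer {w} :=
        ⟨ha, Subgroup.mem_centralizer_iff.mpr (fun x hx => by
          rw [Set.mem_singleton_iff.mp hx]; exact haw.symm)⟩
      rw [h] at h2; exact h2
    · exfalso
      have h2 := h (Subgroup.mem_zpowers t)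
      rw [Subgroup.mem_centralizer_iff] at h2
      exact htw (h2 w rfl).symm
  have hWt : ∀ b ∈ Subgroup.zpowers w, b * t = t * b → b = 1 := by
    intro b hb hbt
    rcases inf_eq_bot_or_le (Subgroup.centralizer {t}) hcW with h | h
    · have h2 : b ∈ Subgroup.zpowers w ⊓ Subgroup.centralizer {t} :=
        ⟨hb, Subgroup.mem_centralizer_iff.mpr (fun x hx => by
          rw [Set.mem_singleton_iff.mp hx]; exact hbt.symm)⟩
      rw [h] at h2; exact h2
    · exfalso
      have h2 := h (Subgroup.mem_zpowers w)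
      rw [Subgroup.mem_centralizer_iff] at h2
      exact htw (h2 t rfl)
  have hWw : ∀ b ∈ Subgroup.zpowers w, Commute b w := by
    intro b hb
    obtain ⟨k, rfl⟩ := Subgroup.mem_zpowers_iff.mp hb
    exact (Commute.refl w).zpow_left k
  have hCc : ∀ d ∈ Subgroup.zpowers c, ∀ g : E, Commute d g := by
    intro d hd g
    obtain ⟨k, rfl⟩ := Subgroup.mem_zpowers_iff.mp hd
    exact (show Commute c g from (hcc g).symm).zpow_left k
  let f : Subgroup.zpowers t × Subgroup.zpowers w × Subgroup.zpowers c → E :=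
    fun q => (q.1 : E) * (q.2.1 : E) * (q.2.2 : E)
  have hfs : Function.Surjective f := by
    intro g
    obtain ⟨i, j, k, rfl⟩ := hnf g
    exact ⟨(⟨t ^ i, Subgroup.zpow_mem_zpowers t i⟩, ⟨w ^ j, Subgroup.zpow_mem_zpowers w j⟩,
      ⟨c ^ k, Subgroup.zpow_mem_zpowers c k⟩), rfl⟩
  have hfi : Function.Injective f := by
    rintro ⟨⟨a, ha⟩, ⟨b, hb⟩, ⟨d, hd⟩⟩ ⟨⟨a', ha'⟩, ⟨b', hb'⟩, ⟨d', hd'⟩⟩ h
    have h' : a * b * d = a' * b' * d' := h
    have h1 : a'⁻¹ * a = 1 := by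
      apply hTw _ (Subgroup.mul_mem _ (Subgroup.inv_mem _ ha') ha)
      have e : a'⁻¹ * a = b' * d' * d⁻¹ * b⁻¹ := by
        have e0 : a = a' * b' * d' * d⁻¹ * b⁻¹ := by rw [← h']; group
        rw [e0]; group
      rw [e]
      exact ((((hWw b' hb').mul_left (hCc d' hd' w)).mul_left (hCc d hd w).inv_left).mul_left
        (hWw b hb).inv_left).eq
    have haa : a = a' := (inv_mul_eq_one.mp h1).symm
    subst haa
    have h2 : b * d = b' * d' := by
      rw [mul_assoc, mul_assoc] at h'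
      exact mul_left_cancel h'
    have h3 : b'⁻¹ * b = 1 := by
      apply hWt _ (Subgroup.mul_mem _ (Subgroup.inv_mem _ hb') hb)
      have e : b'⁻¹ * b = d' * d⁻¹ := by
        have e0 : b = b' * d' * d⁻¹ := by rw [← h2]; group
        rw [e0]; group
      rw [e]
      exact ((hCc d' hd' t).mul_left (hCc d hd t).inv_left).eq
    have hbb : b = b' := (inv_mul_eq_one.mp h3).symm
    subst hbb
    have hdd : d = d' := mul_left_cancel h2
    subst hdd
    rfl
  have hcard : Nat.card E = p ^ 3 := by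
    rw [← Nat.card_congr (Equiv.ofBijective f ⟨hfi, hfs⟩), Nat.card_prod, Nat.card_prod, hcT, hcW,
      hcC]
    ring
  have hcen : Subgroup.center E = Subgroup.zpowers c := by
    apply le_antisymm
    · intro g hg
      rw [Subgroup.mem_center_iff] at hg
      obtain ⟨i, j, k, rfl⟩ := hnf g
      have ha := Subgroup.zpow_mem_zpowers t i
      have hb := Subgroup.zpow_mem_zpowers w j
      have hd := Subgroup.zpow_mem_zpowers c k
      have h1 : t ^ i = 1 := by
        apply hTw _ ha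
        have e : t ^ i = (t ^ i * w ^ j * c ^ k) * (c ^ k)⁻¹ * (w ^ j)⁻¹ := by group
        have c1 : Commute (t ^ i * w ^ j * c ^ k) w := (hg w).symm
        rw [e]
        exact ((c1.mul_left (hCc _ hd w).inv_left).mul_left (hWw _ hb).inv_left).eq
      rw [h1, one_mul] at hg ⊢
      have h2 : w ^ j = 1 := by
        apply hWt _ hb
        have e : w ^ j = (w ^ j * c ^ k) * (c ^ k)⁻¹ := by group
        have c1 : Commute (w ^ j * c ^ k) t := (hg t).symm
        rw [e]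
        exact (c1.mul_left (hCc _ hd t).inv_left).eq
      rw [h2, one_mul]
      exact hd
    · intro d hd
      rw [Subgroup.mem_center_iff]
      intro g
      exact (hCc d hd g).symm.eq
  exact ⟨hcp, hcard, hcen, hcC⟩

theorem heis_extraspecial (hp2 : p ≠ 2) {t w c : E} (ht : t ^ p = 1) (hw : w ^ p = 1)
    (hc : c = t * w * t⁻¹ * w⁻¹) (hc1 : c ≠ 1) (hcc : ∀ g : E, g * c = c * g)
    (hnf : ∀ g : E, ∃ i j k : ℤ, g = t ^ i * w ^ j * c ^ k)
    (hcomm : ∀ g h : E, ∃ k : ℤ, g * h * g⁻¹ * h⁻¹ = c ^ k) :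
    Cfsg.IsExtraspecial p E ∧ Nat.card E = p ^ 3 ∧ Monoid.exponent E = p := by
  have hp : p.Prime := Fact.out
  obtain ⟨hcp, hcard, hcen, hcC⟩ := heis_basic ht hw hc hc1 hcc hnf
  have hG : IsPGroup p E := IsPGroup.of_card hcard
  have hcomm_le : commutator E ≤ Subgroup.center E := by
    rw [commutator_def, Subgroup.commutator_le]
    intro g _ h _
    rw [hcen, commutatorElement_def]
    obtain ⟨k, hk⟩ := hcomm g h
    rw [hk]; exact Subgroup.zpow_mem_zpowers c k
  have hcomm_eq : commutator E = Subgroup.center E := by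
    apply le_antisymm hcomm_le
    rw [hcen, Subgroup.zpowers_le, hc, ← commutatorElement_def]
    exact Subgroup.commutator_mem_commutator (Subgroup.mem_top _) (Subgroup.mem_top _)
  have hzp : ∀ (x : E) (n : ℤ), x ^ p = 1 → (x ^ n) ^ p = 1 := by
    intro x n hx
    rw [← zpow_natCast, ← zpow_mul, mul_comm, zpow_mul, zpow_natCast, hx, one_zpow]
  have hexp : ∀ g : E, g ^ p = 1 := by
    intro g
    obtain ⟨i, j, k, rfl⟩ := hnf g
    have hd : Commute (t ^ i * w ^ j) (c ^ k) :=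
      (show Commute (t ^ i * w ^ j) c from hcc _).zpow_right k
    rw [hd.mul_pow, hzp c k hcp, mul_one]
    obtain ⟨m, hm⟩ := hcomm (w ^ j)⁻¹ (t ^ i)⁻¹
    have hrel : w ^ j * t ^ i = t ^ i * w ^ j * c ^ m := by
      rw [← hm]; group
    have hpow := Cfsg.Agent.Lib.Helper24.Coprime.mul_pow_of_central hrel
      ((show Commute (t ^ i) c from hcc _).zpow_right m).symm.eq
      ((show Commute (w ^ j) c from hcc _).zpow_right m).symm.eq p
    rw [hpow, hzp t i ht, hzp w j hw, one_mul, one_mul]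
    have hdvd : p ∣ p.choose 2 := hp.dvd_choose_self (by norm_num) (by
      have := hp.two_le
      omega)
    obtain ⟨q, hq⟩ := hdvd
    rw [hq, pow_mul, hzp c m hcp, one_pow]
  have hfr : frattini E = Subgroup.center E := by
    apply le_antisymm
    · exact Cfsg.Agent.Lib.Helper24.SpecialGroup.frattini_le_of_quotient_elementary p _ hcomm_le
        (fun x => by rw [hexp x]; exact Subgroup.one_mem _)
    · rw [← hcomm_eq]; exact Cfsg.Agent.Lib.Helper63.PFrattini.commutator_le_frattini hG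
  refine ⟨⟨⟨hG, hfr, hcomm_eq⟩, ?_⟩, hcard, ?_⟩
  · rw [hcen]; exact hcC
  · have hdvd : Monoid.exponent E ∣ p := Monoid.exponent_dvd_of_forall_pow_eq_one hexp
    rcases (Nat.dvd_prime hp).mp hdvd with h | h
    · exfalso
      have h1 : t ^ Monoid.exponent E = 1 := Monoid.pow_exponent_eq_one t
      rw [h, pow_one] at h1
      apply hc1; rw [hc, h1]; group
    · exact h

end heis

theorem heis_dihedral {E : Type*} [Group E] [Finite E] {t w c : E} (ht : t ^ 2 = 1)
    (hw : w ^ 2 = 1) (hc : c = t * w * t⁻¹ * w⁻¹) (hc1 : c ≠ 1) (hcc : ∀ g : E, g * c = c * g)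
    (hnf : ∀ g : E, ∃ i j k : ℤ, g = t ^ i * w ^ j * c ^ k) :
    Nonempty (E ≃* DihedralGroup 4) := by
  haveI : Fact (Nat.Prime 2) := ⟨Nat.prime_two⟩
  obtain ⟨hcp, hcard, -, -⟩ := heis_basic (p := 2) ht hw hc hc1 hcc hnf
  have hti : t⁻¹ = t := inv_eq_of_mul_eq_one_left (by rw [← pow_two]; exact ht)
  have hwi : w⁻¹ = w := inv_eq_of_mul_eq_one_left (by rw [← pow_two]; exact hw)
  have htw : t * w = c * w * t := by rw [hc]; group
  have htw' : t * w ≠ w * t := by
    intro h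
    apply hc1
    rw [hc, h]; group
  have hsq : (t * w) ^ 2 = c := by
    have e : t * w * (t * w) = c * (w * (t * t) * w) := by
      nth_rewrite 1 [htw]; simp only [mul_assoc]
    rw [pow_two, e, ← pow_two t, ht, mul_one, ← pow_two, hw, mul_one]
  have h4 : (t * w) ^ 4 = 1 := by
    have e : (t * w) ^ 4 = ((t * w) ^ 2) ^ 2 := by rw [← pow_mul]
    rw [e, hsq, hcp]
  have hord : orderOf (t * w) = 4 :=
    orderOf_eq_prime_pow (p := 2) (n := 1) (by rw [pow_one, hsq]; exact hc1) (by simpa using h4)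
  refine Cfsg.Agent.S3224.dihedral_iso (t * w) t 4 hord (by norm_num) (by rw [hcard]; norm_num)
    (by rw [← pow_two]; exact ht) ?_ ?_
  · intro h
    obtain ⟨k, hk⟩ := Subgroup.mem_zpowers_iff.mp h
    have c1 : Commute t (t * w) := by
      have c0 : Commute ((t * w) ^ k) (t * w) := (Commute.refl (t * w)).zpow_left k
      rwa [hk] at c0
    apply htw'
    have c2 : t * (t * w) = t * w * t := c1
    rw [mul_assoc] at c2
    exact mul_left_cancel c2
  · rw [mul_inv_rev, hti, hwi]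
    have e : t * (t * w) * t = (t * t) * w * t := by simp only [mul_assoc]
    rw [e, ← pow_two, ht, one_mul]

section struct

variable {G : Type*} [Group G] [Finite G] {p : ℕ} [Fact p.Prime]

theorem ges_structure (hG : IsPGroup p G) (hc : Nat.card (commutator G) = p) {t w : G}
    (hBc : ∀ x y : G, x * w = w * x → y * w = w * y → x * y = y * x)
    (hBe : ∀ x : G, x * w = w * x → x ^ p = 1) (htw : t * w ≠ w * t) (htp : t ^ p = 1) :
    ∃ (E0 A0 : Subgroup G), (∀ a ∈ A0, ∀ g : G, g * a = a * g) ∧ (∀ a ∈ A0, a ^ p = 1) ∧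
      Nonempty (G ≃* E0 × A0) ∧
      ∃ t' w' c' : E0, t' ^ p = 1 ∧ w' ^ p = 1 ∧ c' = t' * w' * t'⁻¹ * w'⁻¹ ∧ c' ≠ 1 ∧
        (∀ g : E0, g * c' = c' * g) ∧ (∀ g : E0, ∃ i j k : ℤ, g = t' ^ i * w' ^ j * c' ^ k) ∧
        (∀ g h : E0, ∃ k : ℤ, g * h * g⁻¹ * h⁻¹ = c' ^ k) := by
  have hp : p.Prime := Fact.out
  obtain ⟨c, hcdef⟩ : ∃ c : G, c = t * w * t⁻¹ * w⁻¹ := ⟨_, rfl⟩
  have hc1 : c ≠ 1 := by
    intro h
    apply htw
    rw [hcdef] at h
    calc t * w = (t * w * t⁻¹ * w⁻¹) * w * t := by group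
      _ = w * t := by rw [h, one_mul]
  have hcmem : c ∈ commutator G := by
    rw [hcdef, ← commutatorElement_def]
    exact Subgroup.commutator_mem_commutator (Subgroup.mem_top _) (Subgroup.mem_top _)
  have hZ : Subgroup.zpowers c = commutator G := zpowers_eq_of_prime hc hcmem hc1
  have hcomm_mem : ∀ g h : G, g * h * g⁻¹ * h⁻¹ ∈ Subgroup.zpowers c := by
    intro g h
    rw [hZ, ← commutatorElement_def]
    exact Subgroup.commutator_mem_commutator (Subgroup.mem_top _) (Subgroup.mem_top _)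
  have hcen : commutator G ≤ Subgroup.center G :=
    Cfsg.Agent.Lib.Helper24.MetaCoprime.comm_le_center hG hc
  have hcc : ∀ g : G, g * c = c * g := fun g => Subgroup.mem_center_iff.mp (hcen hcmem) g
  have hCc : ∀ d ∈ Subgroup.zpowers c, ∀ g : G, Commute d g := by
    intro d hd g
    rw [hZ] at hd
    exact (Subgroup.mem_center_iff.mp (hcen hd) g).symm
  have hwp : w ^ p = 1 := hBe w rfl
  have ht1 : t ≠ 1 := by rintro rfl; exact htw (by simp)
  have hw1 : w ≠ 1 := by rintro rfl; exact htw (by simp)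
  have hot : orderOf t = p := orderOf_eq_prime htp ht1
  have how : orderOf w = p := orderOf_eq_prime hwp hw1
  have hcT : Nat.card (Subgroup.zpowers t) = p := by rw [Nat.card_zpowers, hot]
  have hcW : Nat.card (Subgroup.zpowers w) = p := by rw [Nat.card_zpowers, how]
  have hTw : ∀ a ∈ Subgroup.zpowers t, a * w = w * a → a = 1 := by
    intro a ha haw
    rcases inf_eq_bot_or_le (Subgroup.centralizer {w}) hcT with h | h
    · have h2 : a ∈ Subgroup.zpowers t ⊓ Subgroup.centralizer {w} :=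
        ⟨ha, Subgroup.mem_centralizer_iff.mpr (fun x hx => by
          rw [Set.mem_singleton_iff.mp hx]; exact haw.symm)⟩
      rw [h] at h2; exact h2
    · exfalso
      have h2 := h (Subgroup.mem_zpowers t)
      rw [Subgroup.mem_centralizer_iff] at h2
      exact htw (h2 w rfl).symm
  have hWt : ∀ b ∈ Subgroup.zpowers w, b * t = t * b → b = 1 := by
    intro b hb hbt
    rcases inf_eq_bot_or_le (Subgroup.centralizer {t}) hcW with h | h
    · have h2 : b ∈ Subgroup.zpowers w ⊓ Subgroup.centralizer {t} :=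
        ⟨hb, Subgroup.mem_centralizer_iff.mpr (fun x hx => by
          rw [Set.mem_singleton_iff.mp hx]; exact hbt.symm)⟩
      rw [h] at h2; exact h2
    · exfalso
      have h2 := h (Subgroup.mem_zpowers w)
      rw [Subgroup.mem_centralizer_iff] at h2
      exact htw (h2 t rfl)
  have hWw : ∀ b ∈ Subgroup.zpowers w, Commute b w := by
    intro b hb
    obtain ⟨k, rfl⟩ := Subgroup.mem_zpowers_iff.mp hb
    exact (Commute.refl w).zpow_left k
  have hsT : ∀ z ∈ commutator G, ∃ a ∈ Subgroup.zpowers t, a * w * a⁻¹ * w⁻¹ = z := by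
    let f : Subgroup.zpowers t → commutator G :=
      fun a => ⟨(a : G) * w * (a : G)⁻¹ * w⁻¹, by rw [← hZ]; exact hcomm_mem _ _⟩
    have hfi : Function.Injective f := by
      rintro ⟨a, ha⟩ ⟨a', ha'⟩ h
      have h' : a * w * a⁻¹ * w⁻¹ = a' * w * a'⁻¹ * w⁻¹ := congrArg Subtype.val h
      apply Subtype.ext
      show a = a'
      have h1 : a'⁻¹ * a = 1 := by
        apply hTw _ (Subgroup.mul_mem _ (Subgroup.inv_mem _ ha') ha)
        have h2 : a * w * a⁻¹ = a' * w * a'⁻¹ := mul_right_cancel h'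
        calc a'⁻¹ * a * w = a'⁻¹ * (a * w * a⁻¹) * a := by group
          _ = a'⁻¹ * (a' * w * a'⁻¹) * a := by rw [h2]
          _ = w * (a'⁻¹ * a) := by group
      exact (inv_mul_eq_one.mp h1).symm
    have hfb := hfi.bijective_of_nat_card_le (by rw [hc, hcT])
    intro z hz
    obtain ⟨a, ha⟩ := hfb.2 ⟨z, hz⟩
    exact ⟨a.1, a.2, congrArg Subtype.val ha⟩
  have hsW : ∀ z ∈ commutator G, ∃ b ∈ Subgroup.zpowers w, t * b * t⁻¹ * b⁻¹ = z := by
    let f : Subgroup.zpowers w → commutator G :=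
      fun b => ⟨t * (b : G) * t⁻¹ * (b : G)⁻¹, by rw [← hZ]; exact hcomm_mem _ _⟩
    have hfi : Function.Injective f := by
      rintro ⟨b, hb⟩ ⟨b', hb'⟩ h
      have h' : t * b * t⁻¹ * b⁻¹ = t * b' * t⁻¹ * b'⁻¹ := congrArg Subtype.val h
      apply Subtype.ext
      show b = b'
      have h1 : b'⁻¹ * b = 1 := by
        apply hWt _ (Subgroup.mul_mem _ (Subgroup.inv_mem _ hb') hb)
        have h2 : b * t⁻¹ * b⁻¹ = b' * t⁻¹ * b'⁻¹ := by
          have e1 : t * b * t⁻¹ * b⁻¹ = t * (b * t⁻¹ * b⁻¹) := by group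
          have e2 : t * b' * t⁻¹ * b'⁻¹ = t * (b' * t⁻¹ * b'⁻¹) := by group
          rw [e1, e2] at h'
          exact mul_left_cancel h'
        have h3 : b'⁻¹ * b * t⁻¹ = t⁻¹ * (b'⁻¹ * b) := by
          calc b'⁻¹ * b * t⁻¹ = b'⁻¹ * (b * t⁻¹ * b⁻¹) * b := by group
            _ = b'⁻¹ * (b' * t⁻¹ * b'⁻¹) * b := by rw [h2]
            _ = t⁻¹ * (b'⁻¹ * b) := by group
        exact (Commute.inv_right_iff.mp (show Commute (b'⁻¹ * b) t⁻¹ from h3)).eq
      exact (inv_mul_eq_one.mp h1).symm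
    have hfb := hfi.bijective_of_nat_card_le (by rw [hc, hcW])
    intro z hz
    obtain ⟨b, hb⟩ := hfb.2 ⟨z, hz⟩
    exact ⟨b.1, b.2, congrArg Subtype.val hb⟩
  have hS4 : ∀ g : G, ∃ a ∈ Subgroup.zpowers t, (a⁻¹ * g) * w = w * (a⁻¹ * g) := by
    intro g
    obtain ⟨a, ha, hag⟩ := hsT (g * w * g⁻¹ * w⁻¹) (by rw [← hZ]; exact hcomm_mem _ _)
    refine ⟨a, ha, ?_⟩
    have h2 : a * w * a⁻¹ = g * w * g⁻¹ := mul_right_cancel hag
    calc a⁻¹ * g * w = a⁻¹ * (g * w * g⁻¹) * g := by group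
      _ = a⁻¹ * (a * w * a⁻¹) * g := by rw [h2]
      _ = w * (a⁻¹ * g) := by group
  have hS5 : ∀ b : G, b * w = w * b → ∃ b' ∈ Subgroup.zpowers w,
      b'⁻¹ * b ∈ Subgroup.center G := by
    intro b hb
    obtain ⟨b', hb', hbb⟩ := hsW (t * b * t⁻¹ * b⁻¹) (by rw [← hZ]; exact hcomm_mem _ _)
    refine ⟨b', hb', ?_⟩
    have huw : (b'⁻¹ * b) * w = w * (b'⁻¹ * b) :=
      ((hWw b' hb').inv_left.mul_left (show Commute b w from hb)).eq
    have hut : (b'⁻¹ * b) * t = t * (b'⁻¹ * b) := by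
      have h2 : b' * t⁻¹ * b'⁻¹ = b * t⁻¹ * b⁻¹ := by
        have e1 : t * b * t⁻¹ * b⁻¹ = t * (b * t⁻¹ * b⁻¹) := by group
        have e2 : t * b' * t⁻¹ * b'⁻¹ = t * (b' * t⁻¹ * b'⁻¹) := by group
        rw [e1, e2] at hbb
        exact mul_left_cancel hbb
      have h3 : b'⁻¹ * b * t⁻¹ = t⁻¹ * (b'⁻¹ * b) := by
        calc b'⁻¹ * b * t⁻¹ = b'⁻¹ * (b * t⁻¹ * b⁻¹) * b := by group
          _ = b'⁻¹ * (b' * t⁻¹ * b'⁻¹) * b := by rw [h2]
          _ = t⁻¹ * (b'⁻¹ * b) := by group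
      exact (Commute.inv_right_iff.mp (show Commute (b'⁻¹ * b) t⁻¹ from h3)).eq
    rw [Subgroup.mem_center_iff]
    intro g
    obtain ⟨a, ha, hag⟩ := hS4 g
    have e : g = a * (a⁻¹ * g) := by group
    have c1 : Commute (b'⁻¹ * b) a := by
      obtain ⟨k, rfl⟩ := Subgroup.mem_zpowers_iff.mp ha
      exact (show Commute (b'⁻¹ * b) t from hut).zpow_right k
    have c2 : Commute (b'⁻¹ * b) (a⁻¹ * g) := hBc _ _ huw hag
    have c3 : Commute (b'⁻¹ * b) (a * (a⁻¹ * g)) := c1.mul_right c2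
    rw [← e] at c3
    exact c3.symm.eq
  have hS6 : ∀ g : G, ∃ a ∈ Subgroup.zpowers t, ∃ b ∈ Subgroup.zpowers w,
      ∃ u ∈ Subgroup.center G, g = a * b * u := by
    intro g
    obtain ⟨a, ha, hag⟩ := hS4 g
    obtain ⟨b, hb, hu⟩ := hS5 (a⁻¹ * g) hag
    exact ⟨a, ha, b, hb, _, hu, by group⟩
  have hcexp : ∀ u : Subgroup.center G, u ^ p = 1 := fun u => Subtype.ext (by
    have h1 := hBe u.1 ((Subgroup.mem_center_iff.mp u.2 w).symm)
    simpa using h1)
  obtain ⟨A, hAinf, hAsup⟩ := exists_compl_of_exp' (H := Subgroup.center G) (p := p)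
    (fun a b => Subtype.ext (Subgroup.mem_center_iff.mp b.2 a.1)) hcexp
    ((Subgroup.zpowers c).subgroupOf (Subgroup.center G))
  obtain ⟨A0, hA0⟩ : ∃ A0 : Subgroup G, A0 = A.map (Subgroup.center G).subtype := ⟨_, rfl⟩
  have hA0c : A0 ≤ Subgroup.center G := by
    rw [hA0]; rintro _ ⟨x, -, rfl⟩; exact x.2
  have hA0Z : ∀ x ∈ A0, x ∈ Subgroup.zpowers c → x = 1 := by
    intro x hx hxc
    rw [hA0] at hx
    obtain ⟨y, hy, rfl⟩ := hx
    have h1 : y = 1 := hAinf y (Subgroup.mem_subgroupOf.mpr hxc) hy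
    rw [h1]; rfl
  have hA0dec : ∀ u ∈ Subgroup.center G, ∃ d ∈ Subgroup.zpowers c, ∃ a0 ∈ A0, u = d * a0 := by
    intro u hu
    obtain ⟨d, hd, a, ha, hda⟩ := hAsup ⟨u, hu⟩
    refine ⟨d.1, Subgroup.mem_subgroupOf.mp hd, a.1, by rw [hA0]; exact ⟨a, ha, rfl⟩, ?_⟩
    exact congrArg Subtype.val hda
  have hA0comm : ∀ a ∈ A0, ∀ g : G, g * a = a * g :=
    fun a ha g => Subgroup.mem_center_iff.mp (hA0c ha) g
  let E0 : Subgroup G :=
    { carrier := {g | ∃ a ∈ Subgroup.zpowers t, ∃ b ∈ Subgroup.zpowers w,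
        ∃ d ∈ Subgroup.zpowers c, g = a * b * d}
      one_mem' := ⟨1, one_mem _, 1, one_mem _, 1, one_mem _, by simp⟩
      mul_mem' := by
        rintro _ _ ⟨a, ha, b, hb, d, hd, rfl⟩ ⟨a', ha', b', hb', d', hd', rfl⟩
        refine ⟨a * a', mul_mem ha ha', b * b', mul_mem hb hb',
          (a'⁻¹ * b * a'⁻¹⁻¹ * b⁻¹) * d * d', mul_mem (mul_mem (hcomm_mem _ _) hd) hd', ?_⟩
        have k1 := (hCc d hd (a' * b')).eq
        have k2 := (hCc _ (hcomm_mem a'⁻¹ b) (b * b')).eq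
        calc a * b * d * (a' * b' * d') = a * b * (d * (a' * b')) * d' := by group
          _ = a * b * ((a' * b') * d) * d' := by rw [k1]
          _ = a * a' * ((a'⁻¹ * b * a'⁻¹⁻¹ * b⁻¹) * (b * b')) * d * d' := by group
          _ = a * a' * ((b * b') * (a'⁻¹ * b * a'⁻¹⁻¹ * b⁻¹)) * d * d' := by rw [k2]
          _ = a * a' * (b * b') * (a'⁻¹ * b * a'⁻¹⁻¹ * b⁻¹ * d * d') := by group
      inv_mem' := by
        rintro _ ⟨a, ha, b, hb, d, hd, rfl⟩
        refine ⟨a⁻¹, inv_mem ha, b⁻¹, inv_mem hb, (a * b⁻¹ * a⁻¹ * b⁻¹⁻¹) * d⁻¹,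
          mul_mem (hcomm_mem _ _) (inv_mem hd), ?_⟩
        have k1 := (hCc d⁻¹ (inv_mem hd) (b⁻¹ * a⁻¹)).eq
        have k2 := (hCc _ (hcomm_mem a b⁻¹) b⁻¹).eq
        calc (a * b * d)⁻¹ = d⁻¹ * (b⁻¹ * a⁻¹) := by group
          _ = (b⁻¹ * a⁻¹) * d⁻¹ := by rw [k1]
          _ = a⁻¹ * ((a * b⁻¹ * a⁻¹ * b⁻¹⁻¹) * b⁻¹) * d⁻¹ := by group
          _ = a⁻¹ * (b⁻¹ * (a * b⁻¹ * a⁻¹ * b⁻¹⁻¹)) * d⁻¹ := by rw [k2]
          _ = a⁻¹ * b⁻¹ * (a * b⁻¹ * a⁻¹ * b⁻¹⁻¹ * d⁻¹) := by group }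
  have hE0mem : ∀ g : G, g ∈ E0 ↔ ∃ a ∈ Subgroup.zpowers t, ∃ b ∈ Subgroup.zpowers w,
      ∃ d ∈ Subgroup.zpowers c, g = a * b * d := fun g => Iff.rfl
  have hE0A0 : ∀ x, x ∈ E0 → x ∈ A0 → x = 1 := by
    rintro _ ⟨a, ha, b, hb, d, hd, rfl⟩ hx
    have hxc := Subgroup.mem_center_iff.mp (hA0c hx)
    have ha1 : a = 1 := by
      apply hTw a ha
      have e : a = (a * b * d) * d⁻¹ * b⁻¹ := by group
      have c1 : Commute (a * b * d) w := (hxc w).symm
      have c2 : Commute ((a * b * d) * d⁻¹ * b⁻¹) w :=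
        (c1.mul_left (hCc d hd w).inv_left).mul_left (hWw b hb).inv_left
      rw [← e] at c2
      exact c2.eq
    subst ha1
    have hb1 : b = 1 := by
      apply hWt b hb
      have e : b = (1 * b * d) * d⁻¹ := by group
      have c1 : Commute (1 * b * d) t := (hxc t).symm
      have c2 : Commute ((1 * b * d) * d⁻¹) t := c1.mul_left (hCc d hd t).inv_left
      rw [← e] at c2
      exact c2.eq
    subst hb1
    rw [one_mul, one_mul] at hx ⊢
    exact hA0Z d hx hd
  let f : E0 × A0 →* G :=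
    { toFun := fun q => (q.1 : G) * (q.2 : G)
      map_one' := by simp
      map_mul' := by
        rintro ⟨e1, a1⟩ ⟨e2, a2⟩
        show ((e1 : G) * (e2 : G)) * ((a1 : G) * (a2 : G)) = (e1 : G) * a1 * ((e2 : G) * a2)
        have h1 := hA0comm a1.1 a1.2 e2.1
        calc (e1 : G) * e2 * ((a1 : G) * a2) = e1 * ((e2 : G) * a1) * a2 := by group
          _ = e1 * ((a1 : G) * e2) * a2 := by rw [h1]
          _ = (e1 : G) * a1 * ((e2 : G) * a2) := by group }
  have hfi : Function.Injective f := by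
    rw [injective_iff_map_eq_one]
    rintro ⟨e, a⟩ h
    have h' : (e : G) * (a : G) = 1 := h
    have he : (e : G) = (a : G)⁻¹ := eq_inv_of_mul_eq_one_left h'
    have h1 : (e : G) = 1 := hE0A0 _ e.2 (by rw [he]; exact A0.inv_mem a.2)
    have h2 : (a : G) = 1 := by rw [h1, one_mul] at h'; exact h'
    exact Prod.ext (Subtype.ext h1) (Subtype.ext h2)
  have hfs : Function.Surjective f := by
    intro g
    obtain ⟨a, ha, b, hb, u, hu, rfl⟩ := hS6 g
    obtain ⟨d, hd, a0, ha0, rfl⟩ := hA0dec u hu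
    refine ⟨(⟨a * b * d, ⟨a, ha, b, hb, d, hd, rfl⟩⟩, ⟨a0, ha0⟩), ?_⟩
    show a * b * d * a0 = a * b * (d * a0)
    group
  have hiso : Nonempty (G ≃* E0 × A0) := ⟨(MulEquiv.ofBijective f ⟨hfi, hfs⟩).symm⟩
  refine ⟨E0, A0, hA0comm, ?_, hiso,
    ⟨t, ⟨t, Subgroup.mem_zpowers t, 1, one_mem _, 1, one_mem _, by simp⟩⟩,
    ⟨w, ⟨1, one_mem _, w, Subgroup.mem_zpowers w, 1, one_mem _, by simp⟩⟩,
    ⟨c, ⟨1, one_mem _, 1, one_mem _, c, Subgroup.mem_zpowers c, by simp⟩⟩, ?_, ?_, ?_, ?_, ?_, ?_,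
    ?_⟩
  · intro a ha
    exact hBe a ((Subgroup.mem_center_iff.mp (hA0c ha) w).symm)
  · exact Subtype.ext htp
  · exact Subtype.ext hwp
  · exact Subtype.ext hcdef
  · intro h; exact hc1 (congrArg Subtype.val h)
  · intro g; exact Subtype.ext (hcc g.1)
  · rintro ⟨_, a, ha, b, hb, d, hd, rfl⟩
    obtain ⟨i, rfl⟩ := Subgroup.mem_zpowers_iff.mp ha
    obtain ⟨j, rfl⟩ := Subgroup.mem_zpowers_iff.mp hb
    obtain ⟨k, rfl⟩ := Subgroup.mem_zpowers_iff.mp hd
    exact ⟨i, j, k, Subtype.ext (by simp)⟩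
  · intro g h
    obtain ⟨k, hk⟩ := Subgroup.mem_zpowers_iff.mp (hcomm_mem g.1 h.1)
    exact ⟨k, Subtype.ext (by simp [hk])⟩

theorem interface_equiv {E E' : Type*} [Group E] [Group E'] (e : E' ≃* E) {t w c : E}
    (ht : t ^ p = 1) (hw : w ^ p = 1) (hc : c = t * w * t⁻¹ * w⁻¹) (hc1 : c ≠ 1)
    (hcc : ∀ g : E, g * c = c * g)
    (hnf : ∀ g : E, ∃ i j k : ℤ, g = t ^ i * w ^ j * c ^ k)
    (hcomm : ∀ g h : E, ∃ k : ℤ, g * h * g⁻¹ * h⁻¹ = c ^ k) :
    (e.symm t) ^ p = 1 ∧ (e.symm w) ^ p = 1 ∧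
      e.symm c = e.symm t * e.symm w * (e.symm t)⁻¹ * (e.symm w)⁻¹ ∧ e.symm c ≠ 1 ∧
      (∀ g : E', g * e.symm c = e.symm c * g) ∧
      (∀ g : E', ∃ i j k : ℤ, g = (e.symm t) ^ i * (e.symm w) ^ j * (e.symm c) ^ k) ∧
      (∀ g h : E', ∃ k : ℤ, g * h * g⁻¹ * h⁻¹ = (e.symm c) ^ k) := by
  refine ⟨by rw [← map_pow, ht, map_one], by rw [← map_pow, hw, map_one], by rw [hc]; simp,
    ?_, ?_, ?_, ?_⟩
  · intro h; exact hc1 (by simpa using h)
  · intro g
    apply e.injective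
    simp [hcc (e g)]
  · intro g
    obtain ⟨i, j, k, h⟩ := hnf (e g)
    refine ⟨i, j, k, ?_⟩
    apply e.injective
    simp [h]
  · intro g h
    obtain ⟨k, hk⟩ := hcomm (e g) (e h)
    refine ⟨k, ?_⟩
    apply e.injective
    simp [hk]

/-- The exceptional structure: `D₈ × A` or `p₊^{1+2} × A`. -/
theorem ges_exception (hG : IsPGroup p G) (hfr : frattini G = commutator G)
    (hc : Nat.card (commutator G) = p) {t w : G}
    (hBc : ∀ x y : G, x * w = w * x → y * w = w * y → x * y = y * x)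
    (hBe : ∀ x : G, x * w = w * x → x ^ p = 1) (htw : t * w ≠ w * t)
    (htp : p ≠ 2 → t ^ p = 1) :
    (p = 2 → ∃ (A : Type) (_ : CommGroup A), (∀ a : A, a ^ 2 = 1) ∧
      Nonempty (G ≃* DihedralGroup 4 × A)) ∧
    (p ≠ 2 → ∃ (E : Type) (_ : Group E) (A : Type) (_ : CommGroup A),
      Cfsg.IsExtraspecial p E ∧ Nat.card E = p ^ 3 ∧ Monoid.exponent E = p ∧
      (∀ a : A, a ^ p = 1) ∧ Nonempty (G ≃* E × A)) := by
  have hp : p.Prime := Fact.out
  obtain ⟨s, hsw, hsp⟩ : ∃ s : G, s * w ≠ w * s ∧ s ^ p = 1 := by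
    by_cases hp2 : p = 2
    · by_cases ht2 : t ^ p = 1
      · exact ⟨t, htw, ht2⟩
      · have hwp : w ^ p = 1 := hBe w rfl
        obtain ⟨c, hcdef⟩ : ∃ c : G, c = t * w * t⁻¹ * w⁻¹ := ⟨_, rfl⟩
        have hc1 : c ≠ 1 := by
          intro h
          apply htw
          rw [hcdef] at h
          calc t * w = (t * w * t⁻¹ * w⁻¹) * w * t := by group
            _ = w * t := by rw [h, one_mul]
        have hcmem : c ∈ commutator G := by
          rw [hcdef, ← commutatorElement_def]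
          exact Subgroup.commutator_mem_commutator (Subgroup.mem_top _) (Subgroup.mem_top _)
        have htmem : t ^ p ∈ commutator G := by
          rw [← hfr]; exact Cfsg.Agent.Lib.Helper63.PFrattini.pow_mem_frattini hG t
        have hc2' : Nat.card (commutator G) = 2 := by rw [hc, hp2]
        have heq : t ^ p = c := by
          obtain ⟨y, -, hy⟩ := (Nat.card_eq_two_iff' (1 : commutator G)).mp hc2'
          have h1 := hy ⟨t ^ p, htmem⟩ (fun h => ht2 (congrArg Subtype.val h))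
          have h2 := hy ⟨c, hcmem⟩ (fun h => hc1 (congrArg Subtype.val h))
          exact congrArg Subtype.val (h1.trans h2.symm)
        have hcen := Cfsg.Agent.Lib.Helper24.MetaCoprime.comm_le_center hG hc
        have hcc : ∀ g : G, g * c = c * g := fun g => Subgroup.mem_center_iff.mp (hcen hcmem) g
        have hcp : c ^ p = 1 := by
          have h1 : (⟨c, hcmem⟩ : commutator G) ^ Nat.card (commutator G) = 1 := pow_card_eq_one'
          rw [hc] at h1
          exact congrArg Subtype.val h1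
        refine ⟨t * w, ?_, ?_⟩
        · intro h
          apply htw
          have h' : t * w * w = w * t * w := by rw [h, mul_assoc]
          exact mul_right_cancel h'
        · rw [hp2] at heq hcp hwp ⊢
          calc (t * w) ^ 2 = t * w * (t * w) := pow_two _
            _ = (t * w * t⁻¹ * w⁻¹) * w * (t * t) * w := by group
            _ = c * w * t ^ 2 * w := by rw [← hcdef, pow_two]
            _ = c * w * c * w := by rw [heq]
            _ = c * (w * c) * w := by group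
            _ = c * (c * w) * w := by rw [hcc w]
            _ = (c * c) * (w * w) := by group
            _ = 1 := by rw [← pow_two, ← pow_two, hcp, hwp, one_mul]
    · exact ⟨t, htw, htp hp2⟩
  obtain ⟨E0, A0, hA0c, hA0e, ⟨iso⟩, t', w', c', ht', hw', hc', hc1', hcc', hnf', hcomm'⟩ :=
    ges_structure hG hc hBc hBe hsw hsp
  let eA : Shrink.{0} ↥A0 ≃* ↥A0 := Shrink.mulEquiv
  let instA : CommGroup (Shrink.{0} ↥A0) :=
    { (inferInstance : Group (Shrink.{0} ↥A0)) with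
      mul_comm := fun a b => eA.injective (by
        rw [map_mul, map_mul]
        exact Subtype.ext (hA0c (eA b).1 (eA b).2 (eA a).1)) }
  have hAexp : ∀ a : Shrink.{0} ↥A0, a ^ p = 1 := by
    intro a
    apply eA.injective
    rw [map_pow, map_one]
    exact Subtype.ext (hA0e _ (eA a).2)
  constructor
  · intro hp2
    subst hp2
    obtain ⟨e1⟩ := heis_dihedral ht' hw' hc' hc1' hcc' hnf'
    exact ⟨Shrink.{0} ↥A0, instA, hAexp, ⟨iso.trans (MulEquiv.prodCongr e1 eA.symm)⟩⟩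
  · intro hp2
    let eE : Shrink.{0} ↥E0 ≃* ↥E0 := Shrink.mulEquiv
    obtain ⟨i1, i2, i3, i4, i5, i6, i7⟩ := interface_equiv eE ht' hw' hc' hc1' hcc' hnf' hcomm'
    haveI : Finite (Shrink.{0} ↥E0) := Finite.of_equiv _ eE.symm.toEquiv
    obtain ⟨x1, x2, x3⟩ := heis_extraspecial hp2 i1 i2 i3 i4 i5 i6 i7
    exact ⟨Shrink.{0} ↥E0, inferInstance, Shrink.{0} ↥A0, instA, x1, x2, x3, hAexp,
      ⟨iso.trans (MulEquiv.prodCongr eE.symm eA.symm)⟩⟩

end struct

end Cfsg.Agent.H84.GesStruct
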