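import Mathlib

set_option autoImplicit false

/-! Automorphisms of the rank-two group `G(p,n;s)` act on `G/A` by a power map whose exponent
squares to one. -/

namespace Cfsg.Agent.H84.GpnB

theorem core {M : Type*} [CommGroup M] {p : ℕ} [Fact p.Prime] (q s k : ℕ) (hpq : p ∣ q)
    (hs : ¬ p ∣ s) (σ : ℕ → M →* M) (τ : M →* M) (Y Z W : M)
    (hσ0 : ∀ u, σ 0 u = u) (hσs : ∀ j u, σ (j + 1) u = σ 1 (σ j u))
    (hY : σ 1 Y = Y * W ^ s) (hZ : σ 1 Z = Y * Z) (hW : W = Z ^ q) (hYp : Y ^ p = 1)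
    (hWp : W ^ p = 1) (hW1 : W ≠ 1) (hτW1 : τ W ≠ 1)
    (hτZ : ∃ l m : ℤ, τ Z = Y ^ l * Z ^ m)
    (hτY : τ Y = (τ Z)⁻¹ * σ k (τ Z))
    (hτW : (τ W) ^ s = (τ Y)⁻¹ * σ k (τ Y)) :
    k * k ≡ 1 [MOD p] := by
  have hpp : p.Prime := Fact.out
  have hYq : Y ^ q = 1 := by
    obtain ⟨c, rfl⟩ := hpq
    rw [pow_mul, hYp, one_pow]
  have h1W : σ 1 W = W := by
    rw [hW, map_pow, hZ, mul_pow, hYq, one_mul]
  have hjW : ∀ j, σ j W = W := by
    intro j
    induction j with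
    | zero => exact hσ0 W
    | succ j ih => rw [hσs, ih, h1W]
  have hjY : ∀ j, σ j Y = Y * W ^ (s * j) := by
    intro j
    induction j with
    | zero => rw [hσ0]; simp
    | succ j ih =>
      rw [hσs, ih, map_mul, map_pow, hY, h1W, mul_assoc, ← pow_add]
      congr 2
      ring
  have hjZ : ∀ j, ∃ e : ℕ, σ j Z = Z * Y ^ j * W ^ e := by
    intro j
    induction j with
    | zero => exact ⟨0, by rw [hσ0]; simp⟩
    | succ j ih =>
      obtain ⟨e, he⟩ := ih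
      refine ⟨s * j + e, ?_⟩
      rw [hσs, he, map_mul, map_mul, map_pow, map_pow, hZ, hY, h1W]
      apply Additive.ofMul.injective
      simp only [ofMul_mul, ofMul_pow]
      module
  obtain ⟨l, m, hlm⟩ := hτZ
  obtain ⟨e, he⟩ := hjZ k
  have hYqz : ∀ i : ℤ, Y ^ (i * q) = 1 := by
    intro i
    rw [mul_comm, zpow_mul, zpow_natCast, hYq, one_zpow]
  have hτWm : τ W = W ^ m := by
    rw [hW, map_pow, hlm, mul_pow, ← zpow_natCast (Y ^ l), ← zpow_mul, hYqz, one_mul,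
      ← zpow_natCast (Z ^ m), ← zpow_mul, mul_comm, zpow_mul, zpow_natCast]
  have hpm : ¬ (p : ℤ) ∣ m := by
    rintro ⟨c, rfl⟩
    apply hτW1
    rw [hτWm, zpow_mul, zpow_natCast, hWp, one_zpow]
  have hσkZ : σ k (τ Z) = (Y * W ^ (s * k)) ^ l * (Z * Y ^ k * W ^ e) ^ m := by
    rw [hlm, map_mul, map_zpow, map_zpow, hjY, he]
  have hτY' : τ Y = Y ^ ((k : ℤ) * m) * W ^ ((s : ℤ) * k * l + e * m) := by
    rw [hτY, hσkZ, hlm]
    apply Additive.ofMul.injective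
    simp only [ofMul_mul, ofMul_pow, ofMul_zpow, ofMul_inv]
    module
  have hσkY : σ k (τ Y) = (Y * W ^ (s * k)) ^ ((k : ℤ) * m) * W ^ ((s : ℤ) * k * l + e * m) := by
    rw [hτY', map_mul, map_zpow, map_zpow, hjY, hjW]
  have hfin : W ^ ((m : ℤ) * s) = W ^ ((s : ℤ) * k * (k * m)) := by
    have h1 : (τ W) ^ s = W ^ ((m : ℤ) * s) := by
      rw [hτWm, ← zpow_natCast, ← zpow_mul]
    rw [← h1, hτW, hσkY, hτY']
    apply Additive.ofMul.injective
    simp only [ofMul_mul, ofMul_pow, ofMul_zpow, ofMul_inv]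
    module
  have hord : orderOf W = p := orderOf_eq_prime hWp hW1
  have h2 : W ^ ((s : ℤ) * k * (k * m) - m * s) = 1 := by
    rw [zpow_sub, ← hfin, mul_inv_cancel]
  have h3 : (p : ℤ) ∣ (s : ℤ) * k * (k * m) - m * s := by
    rw [← hord]; exact orderOf_dvd_iff_zpow_eq_one.mpr h2
  have h4 : (s : ℤ) * k * (k * m) - m * s = ((s : ℤ) * m) * ((k : ℤ) * k - 1) := by ring
  rw [h4] at h3
  have hps : ¬ (p : ℤ) ∣ (s : ℤ) := by
    intro h; exact hs (Int.natCast_dvd_natCast.mp h)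
  have hpZ : Prime (p : ℤ) := Nat.prime_iff_prime_int.mp hpp
  have h5 : (p : ℤ) ∣ (k : ℤ) * k - 1 := by
    rcases hpZ.dvd_or_dvd h3 with h | h
    · rcases hpZ.dvd_or_dvd h with h' | h'
      · exact absurd h' hps
      · exact absurd h' hpm
    · exact h
  have h6 : (1 : ℕ) ≡ k * k [MOD p] := by
    rw [Nat.modEq_iff_dvd]
    push_cast
    exact h5
  exact h6.symm

theorem core' {M : Type*} [Group M] (hcomm : ∀ a b : M, a * b = b * a) {p : ℕ} [Fact p.Prime]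
    (q s k : ℕ) (hpq : p ∣ q)
    (hs : ¬ p ∣ s) (σ : ℕ → M →* M) (τ : M →* M) (Y Z W : M)
    (hσ0 : ∀ u, σ 0 u = u) (hσs : ∀ j u, σ (j + 1) u = σ 1 (σ j u))
    (hY : σ 1 Y = Y * W ^ s) (hZ : σ 1 Z = Y * Z) (hW : W = Z ^ q) (hYp : Y ^ p = 1)
    (hWp : W ^ p = 1) (hW1 : W ≠ 1) (hτW1 : τ W ≠ 1)
    (hτZ : ∃ l m : ℤ, τ Z = Y ^ l * Z ^ m)
    (hτY : τ Y = (τ Z)⁻¹ * σ k (τ Z))
    (hτW : (τ W) ^ s = (τ Y)⁻¹ * σ k (τ Y)) :
    k * k ≡ 1 [MOD p] := by
  let _ : CommGroup M := { (inferInstance : Group M) with mul_comm := hcomm }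
  exact core q s k hpq hs σ τ Y Z W hσ0 hσs hY hZ hW hYp hWp hW1 hτW1 hτZ hτY hτW

theorem mem_closure_pair_of_commute {G : Type*} [Group G] {y z : G} (hyz : y * z = z * y)
    {a : G} (ha : a ∈ Subgroup.closure ({y, z} : Set G)) : ∃ l m : ℤ, a = y ^ l * z ^ m := by
  have hc : Commute y z := hyz
  induction ha using Subgroup.closure_induction with
  | mem u hu =>
    simp only [Set.mem_insert_iff, Set.mem_singleton_iff] at hu
    rcases hu with rfl | rfl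
    · exact ⟨1, 0, by simp⟩
    · exact ⟨0, 1, by simp⟩
  | one => exact ⟨0, 0, by simp⟩
  | mul u v _ _ hu hv =>
    obtain ⟨l, m, rfl⟩ := hu
    obtain ⟨l', m', rfl⟩ := hv
    refine ⟨l + l', m + m', ?_⟩
    rw [zpow_add, zpow_add]
    have h1 : z ^ m * y ^ l' = y ^ l' * z ^ m := ((hc.zpow_zpow l' m).eq).symm
    calc y ^ l * z ^ m * (y ^ l' * z ^ m') = y ^ l * (z ^ m * y ^ l') * z ^ m' := by group
      _ = y ^ l * (y ^ l' * z ^ m) * z ^ m' := by rw [h1]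
      _ = y ^ l * y ^ l' * (z ^ m * z ^ m') := by group
  | inv u _ hu =>
    obtain ⟨l, m, rfl⟩ := hu
    refine ⟨-l, -m, ?_⟩
    rw [mul_inv_rev, zpow_neg, zpow_neg]
    exact ((hc.zpow_zpow l m).inv_inv.eq).symm

/-- [R1b] automorphisms of G(p,n;s) act on G/A by a power map whose exponent squares to one -/
theorem gpn_structB {G : Type*} [Group G] [Finite G] {p : ℕ} [Fact p.Prime] (hp : p ≠ 2) (n : ℕ)
    (hn : 4 ≤ n) (hG : Nat.card G = p ^ n) (s : ℕ) (x y z : G) (hs : ¬ p ∣ s)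
    (hgen : Subgroup.closure ({x, y, z} : Set G) = ⊤) (hx : x ^ p = 1) (hy : y ^ p = 1)
    (hz : z ^ p ^ (n - 2) = 1) (hyz : y * z = z * y)
    (hxy : x⁻¹ * y * x = y * z ^ (s * p ^ (n - 3))) (hxz : x⁻¹ * z * x = y * z)
    (hord : orderOf z = p ^ (n - 2)) (hxA : x ∉ Subgroup.closure ({y, z} : Set G))
    (hidx : (Subgroup.closure ({y, z} : Set G)).index = p)
    (hchar : ∀ (α : MulAut G), ∀ a ∈ Subgroup.closure ({y, z} : Set G),
      α a ∈ Subgroup.closure ({y, z} : Set G)) :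
    ∀ (α : MulAut G) (g : G) (k : ℕ), g ∉ Subgroup.closure ({y, z} : Set G) →
      α g * (g ^ k)⁻¹ ∈ Subgroup.closure ({y, z} : Set G) → k * k ≡ 1 [MOD p] := by
  have hpp : p.Prime := Fact.out
  intro α g k hgA hαg
  obtain ⟨A, hA⟩ : ∃ A : Subgroup G, A = Subgroup.closure ({y, z} : Set G) := ⟨_, rfl⟩
  rw [← hA] at hxA hidx hchar hgA hαg
  have hyA : y ∈ A := by rw [hA]; exact Subgroup.subset_closure (by simp)
  have hzA : z ∈ A := by rw [hA]; exact Subgroup.subset_closure (by simp)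
  have hAcomm : ∀ a ∈ A, ∀ b ∈ A, a * b = b * a := by
    intro a ha b hb
    rw [hA] at ha hb
    obtain ⟨l, m, rfl⟩ := mem_closure_pair_of_commute hyz ha
    obtain ⟨l', m', rfl⟩ := mem_closure_pair_of_commute hyz hb
    have hc : Commute y z := hyz
    have h1 : Commute (y ^ l * z ^ m) (y ^ l' * z ^ m') :=
      Commute.mul_left (Commute.mul_right ((Commute.refl y).zpow_zpow l l') (hc.zpow_zpow l m'))
        (Commute.mul_right ((hc.zpow_zpow l' m).symm) ((Commute.refl z).zpow_zpow m m'))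
    exact h1.eq
  haveI hnormal : A.Normal := ⟨fun a ha g => hchar (MulAut.conj g) a ha⟩
  -- step 1: `α x` is congruent to `x ^ k` modulo `A`
  have hcardq : Nat.card (G ⧸ A) = p := by rw [← Subgroup.index_eq_card]; exact hidx
  have hg1 : (g : G ⧸ A) ≠ 1 := by
    intro h; exact hgA ((QuotientGroup.eq_one_iff g).mp h)
  have hαA : ∀ u : G, u ∈ A → ((α u : G) : G ⧸ A) = 1 := by
    intro u hu; exact (QuotientGroup.eq_one_iff _).mpr (hchar α u hu)
  have hαgq : ((α g : G) : G ⧸ A) = (g : G ⧸ A) ^ k := by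
    have := (QuotientGroup.eq_one_iff _).mpr hαg
    rw [QuotientGroup.mk_mul, QuotientGroup.mk_inv, mul_inv_eq_one] at this
    rw [this, QuotientGroup.mk_pow]
  have hxk : α x * (x ^ k)⁻¹ ∈ A := by
    have htop : Subgroup.zpowers (g : G ⧸ A) = ⊤ := zpowers_eq_top_of_prime_card hcardq hg1
    have hxm : (x : G ⧸ A) ∈ Subgroup.zpowers (g : G ⧸ A) := by rw [htop]; trivial
    obtain ⟨j, hj⟩ := hxm
    have hj' : (x : G ⧸ A) = (g : G ⧸ A) ^ j := hj.symm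
    have h1 : x * (g ^ j)⁻¹ ∈ A := by
      rw [← QuotientGroup.eq_one_iff, QuotientGroup.mk_mul, QuotientGroup.mk_inv,
        QuotientGroup.mk_zpow, hj', mul_inv_cancel]
    have h2 : α x = α (x * (g ^ j)⁻¹) * (α g) ^ j := by
      rw [← map_zpow, ← map_mul]; congr 1; group
    rw [← QuotientGroup.eq_one_iff, QuotientGroup.mk_mul, QuotientGroup.mk_inv,
      QuotientGroup.mk_pow, h2, QuotientGroup.mk_mul, hαA _ h1, one_mul, QuotientGroup.mk_zpow,
      hαgq, hj', mul_inv_eq_one, ← zpow_natCast, ← zpow_natCast, ← zpow_mul, ← zpow_mul, mul_comm]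
  -- conjugation by `x⁻¹`
  obtain ⟨κ, hκ⟩ : ∃ κ : MulAut G, κ = MulAut.conj x⁻¹ := ⟨_, rfl⟩
  have hκ1 : ∀ u : G, κ u = x⁻¹ * u * x := by
    intro u; rw [hκ, MulAut.conj_apply, inv_inv]
  have hκk : ∀ u : G, (κ ^ k) u = (x ^ k)⁻¹ * u * x ^ k := by
    intro u; rw [hκ, ← map_pow, MulAut.conj_apply, inv_pow, inv_inv]
  have hconj : ∀ v ∈ A, (α x)⁻¹ * v * α x = (κ ^ k) v := by
    intro v hv
    rw [hκk]
    have e1 : α x = (α x * (x ^ k)⁻¹) * x ^ k := by group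
    have e2 := hAcomm _ hxk v hv
    calc (α x)⁻¹ * v * α x
        = (x ^ k)⁻¹ * ((α x * (x ^ k)⁻¹)⁻¹ * (v * (α x * (x ^ k)⁻¹))) * x ^ k := by group
      _ = (x ^ k)⁻¹ * ((α x * (x ^ k)⁻¹)⁻¹ * ((α x * (x ^ k)⁻¹) * v)) * x ^ k := by rw [e2]
      _ = (x ^ k)⁻¹ * v * x ^ k := by group
  -- restrictions to `A`
  let σ : ℕ → A →* A := fun j =>
    MonoidHom.mk' (fun a : A => ⟨(κ ^ j) a, hchar (κ ^ j) a a.2⟩)
      (by intro a b; apply Subtype.ext; simp)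
  let τ : A →* A :=
    MonoidHom.mk' (fun a : A => ⟨α a, hchar α a a.2⟩) (by intro a b; apply Subtype.ext; simp)
  have hσc : ∀ j (a : A), ((σ j a : A) : G) = (κ ^ j) a := fun _ _ => rfl
  have hτc : ∀ a : A, ((τ a : A) : G) = α a := fun _ => rfl
  have hq1 : n - 3 + 1 = n - 2 := by omega
  have hzq : z ^ p ^ (n - 3) ≠ 1 := by
    intro h
    have := orderOf_dvd_of_pow_eq_one h
    rw [hord] at this
    have := (Nat.pow_dvd_pow_iff_le_right hpp.one_lt).mp this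
    omega
  have hy' : y = z⁻¹ * (x⁻¹ * z * x) := by
    rw [hxz, hyz]; group
  have hw' : (z ^ p ^ (n - 3)) ^ s = y⁻¹ * (x⁻¹ * y * x) := by
    rw [hxy, ← pow_mul, mul_comm (p ^ (n - 3)) s]; group
  refine core' (M := A) (fun a b => Subtype.ext (hAcomm a a.2 b b.2)) (p ^ (n - 3)) s k
    (dvd_pow_self p (by omega)) hs σ τ ⟨y, hyA⟩ ⟨z, hzA⟩ (⟨z, hzA⟩ ^ p ^ (n - 3))
    ?_ ?_ ?_ ?_ rfl ?_ ?_ ?_ ?_ ?_ ?_ ?_
  · intro u; apply Subtype.ext; rw [hσc]; simp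
  · intro j u; apply Subtype.ext
    rw [hσc, hσc, hσc, pow_succ', MulAut.mul_apply, pow_one]
  · apply Subtype.ext
    rw [hσc, pow_one, hκ1, hxy, Subgroup.coe_mul, Subgroup.coe_pow, Subgroup.coe_pow, ← pow_mul,
      mul_comm (p ^ (n - 3)) s]
  · apply Subtype.ext
    rw [hσc, pow_one, hκ1, hxz]; rfl
  · apply Subtype.ext; exact hy
  · apply Subtype.ext
    rw [← pow_mul, ← pow_succ, hq1]; exact hz
  · intro h
    exact hzq (congrArg Subtype.val h)
  · intro h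
    have h1 : α (z ^ p ^ (n - 3)) = 1 := congrArg Subtype.val h
    exact hzq ((map_eq_one_iff α α.injective).mp h1)
  · have hαz : α z ∈ Subgroup.closure ({y, z} : Set G) := by rw [← hA]; exact hchar α z hzA
    obtain ⟨l, m, hlm⟩ := mem_closure_pair_of_commute hyz hαz
    refine ⟨l, m, Subtype.ext ?_⟩
    rw [hτc, Subgroup.coe_mul, Subgroup.coe_zpow, Subgroup.coe_zpow]
    exact hlm
  · apply Subtype.ext
    rw [Subgroup.coe_mul, Subgroup.coe_inv, hσc, hτc, hτc]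
    show α y = (α z)⁻¹ * (κ ^ k) (α z)
    rw [← hconj _ (hchar α z hzA)]
    conv_lhs => rw [hy']
    simp only [map_mul, map_inv]
  · apply Subtype.ext
    rw [Subgroup.coe_mul, Subgroup.coe_inv, Subgroup.coe_pow, hσc, hτc, hτc]
    show (α (z ^ p ^ (n - 3))) ^ s = (α y)⁻¹ * (κ ^ k) (α y)
    rw [← hconj _ (hchar α y hyA), ← map_pow, hw']
    simp only [map_mul, map_inv]

end Cfsg.Agent.H84.GpnB
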