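import Mathlib
import Cfsg.Prelude.Def_FusionSystem
import Cfsg.Agent.H85.Alperin
import Cfsg.Agent.H85.KL3
import Cfsg.Agent.H84.FusNormal
import Cfsg.Agent.H84.FusEss
import Cfsg.Agent.H84.FusNorm
import Cfsg.Agent.Lib.Helper87.FSNormal
import Cfsg.Agent.Lib.Helper76.SylowTools
import Cfsg.Agent.Lib.Helper64.Frattini

set_option autoImplicit false
set_option linter.unusedSectionVars false
set_option linter.unusedVariables false

/-! # Kessar–Linckelmann generation `F = ⟨S C_F(Q), N_F(Q C_S(Q))⟩`, in the form of stability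
of maps modulo a subgroup `𝔇`. -/

namespace Cfsg.Agent.H84.KLGen

open Cfsg Cfsg.FusionSystem Cfsg.Agent.H84

variable {p : ℕ} [Fact p.Prime] {Ω : Type*} [Group Ω] {S : Subgroup Ω}

/-- An element normalizing two subgroups normalizes their join. -/
theorem mem_normalizer_sup {H K : Subgroup Ω} {s : Ω}
    (hH : s ∈ Subgroup.normalizer (H : Set Ω)) (hK : s ∈ Subgroup.normalizer (K : Set Ω)) :
    s ∈ Subgroup.normalizer ((H ⊔ K : Subgroup Ω) : Set Ω) := by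
  have key : ∀ t : Ω, t ∈ Subgroup.normalizer (H : Set Ω) → t ∈ Subgroup.normalizer (K : Set Ω) →
      ∀ x ∈ H ⊔ K, t * x * t⁻¹ ∈ H ⊔ K := by
    intro t htH htK x hx
    have hle : H ⊔ K ≤ (H ⊔ K).comap (MulAut.conj t).toMonoidHom := by
      refine sup_le ?_ ?_
      · intro h hh
        exact Subgroup.mem_sup_left ((Subgroup.mem_normalizer_iff.1 htH h).1 hh)
      · intro k hk
        exact Subgroup.mem_sup_right ((Subgroup.mem_normalizer_iff.1 htK k).1 hk)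
    exact hle hx
  rw [Subgroup.mem_normalizer_iff]
  intro x
  refine ⟨key s hH hK x, fun hx => ?_⟩
  have h3 := key s⁻¹ (Subgroup.inv_mem _ hH) (Subgroup.inv_mem _ hK) _ hx
  have e : s⁻¹ * (s * x * s⁻¹) * s⁻¹⁻¹ = x := by group
  rwa [e] at h3

/-- `C_S(Q)` is normalized by `S` when `Q` is. -/
theorem centralizerIn_conj_mem {Q : Subgroup Ω} (hSQ : S ≤ Subgroup.normalizer (Q : Set Ω))
    {s z : Ω} (hs : s ∈ S) (hz : z ∈ centralizerIn S Q) : s * z * s⁻¹ ∈ centralizerIn S Q := by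
  refine ⟨S.mul_mem (S.mul_mem hs hz.1) (S.inv_mem hs), ?_⟩
  show _ ∈ Subgroup.centralizer (Q : Set Ω)
  rw [Subgroup.mem_centralizer_iff]
  intro q hq
  have h1 : s⁻¹ * q * s⁻¹⁻¹ ∈ Q :=
    (Subgroup.mem_normalizer_iff.1 (Subgroup.inv_mem _ (hSQ hs)) q).1 hq
  have h2 := (Subgroup.mem_centralizer_iff.1 hz.2) _ h1
  have e1 : q * (s * z * s⁻¹) = s * ((s⁻¹ * q * s⁻¹⁻¹) * z) * s⁻¹ := by group
  have e2 : s * z * s⁻¹ * q = s * (z * (s⁻¹ * q * s⁻¹⁻¹)) * s⁻¹ := by group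
  rw [e1, e2, h2]

theorem le_normalizer_sup_centralizer {Q : Subgroup Ω}
    (hSQ : S ≤ Subgroup.normalizer (Q : Set Ω)) :
    S ≤ Subgroup.normalizer ((Q ⊔ centralizerIn S Q : Subgroup Ω) : Set Ω) := by
  intro s hs
  refine mem_normalizer_sup (hSQ hs) ?_
  rw [Subgroup.mem_normalizer_iff]
  intro z
  refine ⟨fun hz => centralizerIn_conj_mem hSQ hs hz, fun hz => ?_⟩
  have h3 := centralizerIn_conj_mem hSQ (S.inv_mem hs) hz
  have e : s⁻¹ * (s * z * s⁻¹) * s⁻¹⁻¹ = z := by group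
  rwa [e] at h3

/-- Automorphisms of the system of a subgroup containing the normal subgroup `Q` preserve
`C_S(Q)`. -/
theorem aut_centralizer_mem (E : FusionSystem S) {Q T : Subgroup Ω} (hQ : E.IsNormal Q)
    (hTS : T ≤ S) (hQT : Q ≤ T) (β : MulAut T) (hβ : β ∈ E.autGroup T) (t : T)
    (ht : (t : Ω) ∈ centralizerIn S Q) : ((β t : T) : Ω) ∈ centralizerIn S Q := by
  refine ⟨hTS (β t).2, ?_⟩
  show _ ∈ Subgroup.centralizer (Q : Set Ω)
  rw [Subgroup.mem_centralizer_iff]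
  intro q hq
  have hβinv : β⁻¹ ∈ E.autGroup T := Subgroup.inv_mem _ hβ
  have h1 : ((β⁻¹ ⟨q, hQT hq⟩ : T) : Ω) ∈ Q :=
    isNormal_aut_mem E hQ hTS β⁻¹ hβinv ⟨q, hQT hq⟩ hq
  have h2 := (Subgroup.mem_centralizer_iff.1 ht.2) _ h1
  have h3 : β⁻¹ ⟨q, hQT hq⟩ * t = t * β⁻¹ ⟨q, hQT hq⟩ := Subtype.ext h2
  have h4 := congrArg (fun z : T => ((β z : T) : Ω)) h3
  simp only [map_mul, MulAut.apply_inv_self, Subgroup.coe_mul] at h4
  exact h4

/-- Automorphisms of the system of a subgroup containing `Q C_S(Q)` preserve `Q C_S(Q)`. -/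
theorem aut_sup_mem (E : FusionSystem S) {Q T : Subgroup Ω} (hQ : E.IsNormal Q)
    (hTS : T ≤ S) (hQT : Q ≤ T) (hCT : centralizerIn S Q ≤ T) (β : MulAut T)
    (hβ : β ∈ E.autGroup T) (t : T) (ht : (t : Ω) ∈ Q ⊔ centralizerIn S Q) :
    ((β t : T) : Ω) ∈ Q ⊔ centralizerIn S Q := by
  let K : Subgroup Ω := (((Q ⊔ centralizerIn S Q).subgroupOf T).comap β.toMonoidHom).map T.subtype
  have hQK : Q ≤ K := by
    intro q hq
    refine ⟨⟨q, hQT hq⟩, ?_, rfl⟩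
    show ((β ⟨q, hQT hq⟩ : T) : Ω) ∈ Q ⊔ centralizerIn S Q
    exact Subgroup.mem_sup_left (isNormal_aut_mem E hQ hTS β hβ ⟨q, hQT hq⟩ hq)
  have hCK : centralizerIn S Q ≤ K := by
    intro z hz
    refine ⟨⟨z, hCT hz⟩, ?_, rfl⟩
    show ((β ⟨z, hCT hz⟩ : T) : Ω) ∈ Q ⊔ centralizerIn S Q
    exact Subgroup.mem_sup_right (aut_centralizer_mem E hQ hTS hQT β hβ ⟨z, hCT hz⟩ hz)
  obtain ⟨t', ht', htt'⟩ := sup_le hQK hCK ht
  have e : t' = t := Subtype.ext htt'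
  rw [← e]
  exact ht'

/-- Case 1: `Q ≰ T`. -/
theorem stable_of_not_le [Finite S] (E : FusionSystem S) {Q : Subgroup Ω} (hQ : E.IsNormal Q)
    (𝔇 : Subgroup Ω) {T : Subgroup Ω} (hTS : T ≤ S) (α : MulAut T)
    (hα : T.subtype.comp α.toMonoidHom ∈ E.Hom T) (hQT : ¬ Q ≤ T)
    (IH : ∀ (P : Subgroup Ω) (φ : P →* Ω), φ ∈ E.Hom P → Nat.card T < Nat.card P →
      ∀ x : P, (x : Ω)⁻¹ * φ x ∈ 𝔇) :
    ∀ x : T, (x : Ω)⁻¹ * ((α x : T) : Ω) ∈ 𝔇 := by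
  obtain ⟨ψ, hψ, hψe, -⟩ := hQ.2 T _ hα
  have hle : T ⊔ Q ≤ S := sup_le hTS hQ.1
  haveI : Finite ↥(T ⊔ Q) := finite_of_le hle
  have hlt : Nat.card T < Nat.card ↥(T ⊔ Q) := by
    by_contra hlt
    have heq : T = T ⊔ Q := Subgroup.eq_of_le_of_card_ge le_sup_left (not_lt.1 hlt)
    exact hQT (le_sup_right.trans heq.symm.le)
  intro x
  have h3 := IH _ ψ hψ hlt (Subgroup.inclusion le_sup_left x)
  rw [hψe x] at h3
  exact h3

/-- Case 2: `Q C_S(Q) ≤ T`. -/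
theorem stable_of_centralizer_le [Finite S] (E : FusionSystem S) {Q : Subgroup Ω}
    (hQ : E.IsNormal Q) (𝔇 : Subgroup Ω)
    (h1 : ∀ (P : Subgroup Ω) (φ : P →* Ω),
      φ ∈ E.normalizerHom (Q ⊔ centralizerIn S Q) P → ∀ x : P, (x : Ω)⁻¹ * φ x ∈ 𝔇)
    {T : Subgroup Ω} (hTS : T ≤ S) (α : MulAut T) (hα : α ∈ E.autGroup T) (hQT : Q ≤ T)
    (hCT : centralizerIn S Q ≤ T) :
    ∀ x : T, (x : Ω)⁻¹ * ((α x : T) : Ω) ∈ 𝔇 := by
  have hαm : T.subtype.comp α.toMonoidHom ∈ E.Hom T := (mem_autGroup_iff E hTS α).1 hα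
  have hSQ : S ≤ Subgroup.normalizer (Q : Set Ω) :=
    Cfsg.Agent.Lib.Helper87.FSNormal.le_normalizer_of_stronglyClosed E
      (Cfsg.Agent.Lib.Helper87.FSNormal.stronglyClosed_of_isNormal E hQ)
  have hQ'T : Q ⊔ centralizerIn S Q ≤ T := sup_le hQT hCT
  have hSN := le_normalizer_sup_centralizer (S := S) hSQ
  have hsup : T ⊔ (Q ⊔ centralizerIn S Q) = T := sup_eq_left.2 hQ'T
  refine h1 T _ ⟨hαm, fun x hx => ⟨hTS hx, hSN (hTS hx)⟩,
    fun x => ⟨hTS (α x).2, hSN (hTS (α x).2)⟩,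
    (T.subtype.comp α.toMonoidHom).comp (Subgroup.inclusion (le_of_eq hsup)),
    hom_of_eq E hαm hsup, fun x => rfl, ?_⟩
  ext y
  constructor
  · rintro ⟨z, hz, rfl⟩
    exact aut_sup_mem E hQ hTS hQT hCT α hα ⟨z, hsup.le z.2⟩ (Subgroup.mem_subgroupOf.1 hz)
  · intro hy
    have hyT : y ∈ T := hQ'T hy
    have h3 := aut_sup_mem E hQ hTS hQT hCT α⁻¹ (Subgroup.inv_mem _ hα) ⟨y, hyT⟩ hy
    refine ⟨⟨(α⁻¹ ⟨y, hyT⟩ : T), Subgroup.mem_sup_left (α⁻¹ ⟨y, hyT⟩).2⟩,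
      Subgroup.mem_subgroupOf.2 h3, ?_⟩
    show ((α (α⁻¹ ⟨y, hyT⟩) : T) : Ω) = y
    rw [MulAut.apply_inv_self]

/-! ### Case 3: `Q ≤ T`, `C_S(Q) ≰ T` -/

/-- The automorphisms in `Aut_E(T)` fixing `Q` pointwise. -/
def fixQ (E : FusionSystem S) (Q T : Subgroup Ω) : Subgroup ↥(E.autGroup T) where
  carrier := {κ | ∀ q : T, (q : Ω) ∈ Q → (κ : MulAut T) q = q}
  one_mem' := fun q _ => rfl
  mul_mem' := by
    intro a b ha hb q hq
    show (a : MulAut T) ((b : MulAut T) q) = q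
    rw [hb q hq, ha q hq]
  inv_mem' := by
    intro a ha q hq
    show (a : MulAut T)⁻¹ q = q
    calc (a : MulAut T)⁻¹ q = (a : MulAut T)⁻¹ ((a : MulAut T) q) := by rw [ha q hq]
      _ = q := MulAut.inv_apply_self _ _ _

theorem fixQ_normal (E : FusionSystem S) {Q T : Subgroup Ω} (hQ : E.IsNormal Q) (hTS : T ≤ S) :
    (fixQ E Q T).Normal := by
  constructor
  intro n hn g q hq
  show (g : MulAut T) ((n : MulAut T) ((g : MulAut T)⁻¹ q)) = q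
  have h1 : ((((g : MulAut T)⁻¹ q : T)) : Ω) ∈ Q :=
    isNormal_aut_mem E hQ hTS _ (Subgroup.inv_mem _ g.2) q hq
  rw [hn _ h1, MulAut.apply_inv_self]

/-- The automorphisms of `T` that are stable modulo `𝔇`. -/
def stableSub (𝔇 : Subgroup Ω) (T : Subgroup Ω) : Subgroup (MulAut T) where
  carrier := {a | ∀ x : T, (x : Ω)⁻¹ * ((a x : T) : Ω) ∈ 𝔇}
  one_mem' := fun x => by
    show (x : Ω)⁻¹ * (x : Ω) ∈ 𝔇
    rw [inv_mul_cancel]
    exact 𝔇.one_mem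
  mul_mem' := by
    intro a b ha hb x
    have h3 := 𝔇.mul_mem (hb x) (ha (b x))
    have e : (x : Ω)⁻¹ * ((b x : T) : Ω) * (((b x : T) : Ω)⁻¹ * ((a (b x) : T) : Ω)) =
        (x : Ω)⁻¹ * ((a (b x) : T) : Ω) := by group
    rw [e] at h3
    exact h3
  inv_mem' := by
    intro a ha x
    have h3 := 𝔇.inv_mem (ha (a⁻¹ x))
    rw [MulAut.apply_inv_self] at h3
    have e : (((a⁻¹ x : T) : Ω)⁻¹ * (x : Ω))⁻¹ = (x : Ω)⁻¹ * ((a⁻¹ x : T) : Ω) := by group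
    rw [e] at h3
    exact h3

/-- Elements of `fixQ` are stable on `C_T(Q)`. -/
theorem cent_stable (E : FusionSystem S) {Q : Subgroup Ω} (hQ : E.IsNormal Q) (𝔇 : Subgroup Ω)
    (h2 : ∀ (P : Subgroup Ω) (φ : P →* Ω), φ ∈ E.centralizerHom Q P →
      ∀ x : P, (x : Ω)⁻¹ * φ x ∈ 𝔇)
    {T : Subgroup Ω} (hTS : T ≤ S) (hQT : Q ≤ T) (κ : ↥(E.autGroup T)) (hκ : κ ∈ fixQ E Q T)
    (z : T) (hz : (z : Ω) ∈ centralizerIn S Q) :
    (z : Ω)⁻¹ * (((κ : MulAut T) z : T) : Ω) ∈ 𝔇 := by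
  have hκm : T.subtype.comp (κ : MulAut T).toMonoidHom ∈ E.Hom T :=
    (mem_autGroup_iff E hTS _).1 κ.2
  have hPT : T ⊓ centralizerIn S Q ≤ T := inf_le_left
  have hPQT : (T ⊓ centralizerIn S Q) ⊔ Q ≤ T := sup_le hPT hQT
  have hmem : (T.subtype.comp (κ : MulAut T).toMonoidHom).comp (Subgroup.inclusion hPT) ∈
      E.centralizerHom Q (T ⊓ centralizerIn S Q) := by
    refine ⟨hom_restrict E hκm hPT, inf_le_right,
      fun x => aut_centralizer_mem E hQ hTS hQT _ κ.2 _ x.2.2,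
      (T.subtype.comp (κ : MulAut T).toMonoidHom).comp (Subgroup.inclusion hPQT),
      hom_restrict E hκm hPQT, fun x => rfl, fun x => ?_⟩
    show (((κ : MulAut T) ⟨(x : Ω), hQT x.2⟩ : T) : Ω) = x
    rw [hκ ⟨(x : Ω), hQT x.2⟩ x.2]
  exact h2 _ _ hmem ⟨z, z.2, hz⟩

/-- Elements of `fixQ` of order prime to `p` are stable. -/
theorem stable_of_coprime [Finite S] (hS : IsPGroup p S) (E : FusionSystem S) {Q : Subgroup Ω}
    (hQ : E.IsNormal Q) (𝔇 : Subgroup Ω)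
    (hS𝔇 : ∀ s ∈ S, ∀ x ∈ S, x⁻¹ * (s * x * s⁻¹) ∈ 𝔇)
    (h2 : ∀ (P : Subgroup Ω) (φ : P →* Ω), φ ∈ E.centralizerHom Q P →
      ∀ x : P, (x : Ω)⁻¹ * φ x ∈ 𝔇)
    {T : Subgroup Ω} (hTS : T ≤ S) (hQT : Q ≤ T) (κ : ↥(E.autGroup T)) (hκ : κ ∈ fixQ E Q T)
    (hco : (orderOf κ).Coprime p) : (κ : MulAut T) ∈ stableSub 𝔇 T := by
  have hSQ : S ≤ Subgroup.normalizer (Q : Set Ω) :=
    Cfsg.Agent.Lib.Helper87.FSNormal.le_normalizer_of_stronglyClosed E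
      (Cfsg.Agent.Lib.Helper87.FSNormal.stronglyClosed_of_isNormal E hQ)
  intro x
  -- y = x⁻¹ κ(x) centralizes Q
  have hy : ((x⁻¹ * (κ : MulAut T) x : T) : Ω) ∈ centralizerIn S Q := by
    refine ⟨hTS (x⁻¹ * (κ : MulAut T) x).2, ?_⟩
    show _ ∈ Subgroup.centralizer (Q : Set Ω)
    rw [Subgroup.mem_centralizer_iff]
    intro q hq
    have hq' : (x : Ω) * q * (x : Ω)⁻¹ ∈ Q :=
      (Subgroup.mem_normalizer_iff.1 (hSQ (hTS x.2)) q).1 hq
    have h3 := hκ (x * ⟨q, hQT hq⟩ * x⁻¹) hq'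
    rw [map_mul, map_mul, map_inv, hκ ⟨q, hQT hq⟩ hq] at h3
    have h4 : (((κ : MulAut T) x : T) : Ω) * q * (((κ : MulAut T) x : T) : Ω)⁻¹ =
        (x : Ω) * q * (x : Ω)⁻¹ := congrArg Subtype.val h3
    show q * ((x : Ω)⁻¹ * (((κ : MulAut T) x : T) : Ω)) =
      (x : Ω)⁻¹ * (((κ : MulAut T) x : T) : Ω) * q
    have e1 : (x : Ω)⁻¹ * (((κ : MulAut T) x : T) : Ω) * q =
        (x : Ω)⁻¹ * ((((κ : MulAut T) x : T) : Ω) * q * (((κ : MulAut T) x : T) : Ω)⁻¹) *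
          (((κ : MulAut T) x : T) : Ω) := by group
    rw [e1, h4]
    group
  -- the quotient of S by 𝔇 ∩ S
  haveI hDn : (𝔇.subgroupOf S).Normal := by
    constructor
    intro n hn g
    rw [Subgroup.mem_subgroupOf] at hn ⊢
    have h3 := 𝔇.mul_mem hn (hS𝔇 g g.2 n n.2)
    have e : (n : Ω) * ((n : Ω)⁻¹ * ((g : Ω) * (n : Ω) * (g : Ω)⁻¹)) =
        (g : Ω) * (n : Ω) * (g : Ω)⁻¹ := by group
    rw [e] at h3
    exact h3
  let π : ↥T →* ↥S ⧸ 𝔇.subgroupOf S :=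
    (QuotientGroup.mk' (𝔇.subgroupOf S)).comp (Subgroup.inclusion hTS)
  have hπ : ∀ a b : T, (a : Ω)⁻¹ * (b : Ω) ∈ 𝔇 → π a = π b := by
    intro a b hab
    apply QuotientGroup.eq.2
    exact Subgroup.mem_subgroupOf.2 hab
  have hπ1 : ∀ a : T, π a = 1 → (a : Ω) ∈ 𝔇 := by
    intro a ha
    exact Subgroup.mem_subgroupOf.1
      ((QuotientGroup.eq_one_iff (N := 𝔇.subgroupOf S) (Subgroup.inclusion hTS a)).1 ha)
  -- powers of κ
  have hpow : ∀ i : ℕ, π (((κ : MulAut T) ^ i) (x⁻¹ * (κ : MulAut T) x)) =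
      π (x⁻¹ * (κ : MulAut T) x) := by
    intro i
    apply (hπ _ _ _).symm
    have h3 := cent_stable E hQ 𝔇 h2 hTS hQT (κ ^ i) (Subgroup.pow_mem _ hκ i) _ hy
    exact h3
  have htel : ∀ i : ℕ, π (x⁻¹ * ((κ : MulAut T) ^ i) x) = π (x⁻¹ * (κ : MulAut T) x) ^ i := by
    intro i
    induction i with
    | zero => simp
    | succ i ih =>
      have e : x⁻¹ * ((κ : MulAut T) ^ (i + 1)) x =
          (x⁻¹ * ((κ : MulAut T) ^ i) x) * ((κ : MulAut T) ^ i) (x⁻¹ * (κ : MulAut T) x) := by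
        rw [pow_succ, MulAut.mul_apply, map_mul, map_inv]
        group
      rw [e, map_mul, ih, hpow i, pow_succ]
  have hk : π (x⁻¹ * (κ : MulAut T) x) ^ orderOf κ = 1 := by
    rw [← htel]
    have h3 : (κ : MulAut T) ^ orderOf κ = 1 := by
      have := pow_orderOf_eq_one κ
      exact congrArg Subtype.val this
    rw [h3]
    simp
  obtain ⟨m, hm⟩ := hS (Subgroup.inclusion hTS (x⁻¹ * (κ : MulAut T) x))
  have hpm : π (x⁻¹ * (κ : MulAut T) x) ^ p ^ m = 1 := by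
    show (QuotientGroup.mk' (𝔇.subgroupOf S))
      (Subgroup.inclusion hTS (x⁻¹ * (κ : MulAut T) x)) ^ p ^ m = 1
    rw [← map_pow, hm, map_one]
  have hone : π (x⁻¹ * (κ : MulAut T) x) = 1 := by
    have hd1 : orderOf (π (x⁻¹ * (κ : MulAut T) x)) ∣ orderOf κ := orderOf_dvd_of_pow_eq_one hk
    have hd2 : orderOf (π (x⁻¹ * (κ : MulAut T) x)) ∣ p ^ m := orderOf_dvd_of_pow_eq_one hpm
    have hcop : Nat.Coprime (orderOf κ) (p ^ m) := Nat.Coprime.pow_right m hco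
    have hd3 : orderOf (π (x⁻¹ * (κ : MulAut T) x)) ∣ 1 := by
      have := Nat.dvd_gcd hd1 hd2
      rwa [hcop.gcd_eq_one] at this
    exact orderOf_eq_one_iff.1 (Nat.dvd_one.1 hd3)
  exact hπ1 _ hone

/-- An element of `C_S(Q)` outside `T` normalizing `T`. -/
theorem exists_centralizer_normalizing [Finite S] (hS : IsPGroup p S) {Q T : Subgroup Ω}
    (hSQ : S ≤ Subgroup.normalizer (Q : Set Ω)) (hTS : T ≤ S)
    (hCT : ¬ centralizerIn S Q ≤ T) :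
    ∃ c ∈ centralizerIn S Q, c ∉ T ∧ c ∈ Subgroup.normalizer (T : Set Ω) := by
  haveI : Group.IsNilpotent ↥S := hS.isNilpotent
  haveI hn : ((centralizerIn S Q).subgroupOf S).Normal := by
    constructor
    intro n hn g
    rw [Subgroup.mem_subgroupOf] at hn ⊢
    exact centralizerIn_conj_mem hSQ g.2 hn
  have h' : ¬ (centralizerIn S Q).subgroupOf S ≤ T.subgroupOf S := by
    intro hle
    apply hCT
    intro z hz
    exact Subgroup.mem_subgroupOf.1 (hle (Subgroup.mem_subgroupOf.2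
      (show ((⟨z, hz.1⟩ : S) : Ω) ∈ centralizerIn S Q from hz)))
  obtain ⟨d, hd, hdT, hdn⟩ :=
    Cfsg.Agent.Lib.Helper64.Frattini.exists_normalizing_not_mem_of_nilpotent
      (T.subgroupOf S) ((centralizerIn S Q).subgroupOf S) h'
  refine ⟨(d : Ω), Subgroup.mem_subgroupOf.1 hd, fun h => hdT (Subgroup.mem_subgroupOf.2 h), ?_⟩
  haveI : Finite ↥T := finite_of_le hTS
  haveI : Finite (T : Set Ω) := this
  apply Subgroup.mem_normalizer_fintype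
  intro n hn
  have h3 := hdn ⟨n, hTS hn⟩ (Subgroup.mem_subgroupOf.2 hn)
  exact Subgroup.mem_subgroupOf.1 h3

/-- Every element of `fixQ` is stable. -/
theorem fixQ_stable [Finite S] (hS : IsPGroup p S) (E : FusionSystem S) {Q : Subgroup Ω}
    (hQ : E.IsNormal Q) (𝔇 : Subgroup Ω)
    (hS𝔇 : ∀ s ∈ S, ∀ x ∈ S, x⁻¹ * (s * x * s⁻¹) ∈ 𝔇)
    (h2 : ∀ (P : Subgroup Ω) (φ : P →* Ω), φ ∈ E.centralizerHom Q P →
      ∀ x : P, (x : Ω)⁻¹ * φ x ∈ 𝔇)
    {T : Subgroup Ω} (hTS : T ≤ S) (hQT : Q ≤ T)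
    (P₁ : Sylow p ↥(fixQ E Q T))
    (hP₁ : ∀ σ ∈ P₁, ((σ : ↥(E.autGroup T)) : MulAut T) ∈ autInducedBy S T)
    (κ : ↥(E.autGroup T)) (hκ : κ ∈ fixQ E Q T) : (κ : MulAut T) ∈ stableSub 𝔇 T := by
  haveI : Finite ↥T := finite_of_le hTS
  haveI : Finite ↥(E.autGroup T) := inferInstance
  let s : Set ↥(fixQ E Q T) := {κ | (orderOf κ).Coprime p}
  have hNst : ∀ n ∈ Subgroup.normalClosure s,
      (((n : ↥(fixQ E Q T)) : ↥(E.autGroup T)) : MulAut T) ∈ stableSub 𝔇 T := by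
    have hle : Subgroup.normalClosure s ≤
        (stableSub 𝔇 T).comap ((E.autGroup T).subtype.comp (fixQ E Q T).subtype) := by
      show Subgroup.closure (Group.conjugatesOfSet s) ≤ _
      rw [Subgroup.closure_le]
      intro x hx
      obtain ⟨a, ha, hax⟩ := Group.mem_conjugatesOfSet_iff.1 hx
      obtain ⟨c, rfl⟩ := isConj_iff.1 hax
      have ho : orderOf (c * a * c⁻¹) = orderOf a := (MulAut.conj c).orderOf_eq a
      have hco : (orderOf ((c * a * c⁻¹ : ↥(fixQ E Q T)) : ↥(E.autGroup T))).Coprime p := by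
        rw [Subgroup.orderOf_coe, ho]
        exact ha
      exact stable_of_coprime hS E hQ 𝔇 hS𝔇 h2 hTS hQT _ (c * a * c⁻¹).2 hco
    intro n hn
    exact hle hn
  have hquot : IsPGroup p (↥(fixQ E Q T) ⧸ Subgroup.normalClosure s) := by
    intro g
    obtain ⟨κ', rfl⟩ := QuotientGroup.mk_surjective g
    obtain ⟨k, hk⟩ := Cfsg.Agent.H85.exists_pow_coprime (p := p) κ' (isOfFinOrder_of_finite κ')
    refine ⟨k, ?_⟩
    rw [← QuotientGroup.mk_pow, QuotientGroup.eq_one_iff]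
    exact Subgroup.subset_normalClosure hk
  have htop : (P₁ : Subgroup ↥(fixQ E Q T)).map (QuotientGroup.mk' (Subgroup.normalClosure s))
      = ⊤ := by
    have := (P₁.mapSurjective (QuotientGroup.mk'_surjective (Subgroup.normalClosure s))).is_maximal'
      (Q := ⊤) (hquot.to_subgroup ⊤) le_top
    exact this.symm
  have hmem : QuotientGroup.mk' (Subgroup.normalClosure s) ⟨κ, hκ⟩ ∈
      (P₁ : Subgroup ↥(fixQ E Q T)).map (QuotientGroup.mk' (Subgroup.normalClosure s)) := by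
    rw [htop]
    exact Subgroup.mem_top _
  obtain ⟨σ, hσ, hσκ⟩ := hmem
  have hn : σ⁻¹ * ⟨κ, hκ⟩ ∈ Subgroup.normalClosure s := QuotientGroup.eq.1 hσκ
  have hσst : ((σ : ↥(E.autGroup T)) : MulAut T) ∈ stableSub 𝔇 T := by
    obtain ⟨t, ht, htx⟩ := (mem_autInducedBy_iff S T _).1 (hP₁ σ hσ)
    intro x
    rw [htx x]
    exact hS𝔇 t ht x (hTS x.2)
  have h3 := (stableSub 𝔇 T).mul_mem hσst (hNst _ hn)
  have e : ((σ : ↥(E.autGroup T)) : MulAut T) *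
      (((σ⁻¹ * ⟨κ, hκ⟩ : ↥(fixQ E Q T)) : ↥(E.autGroup T)) : MulAut T) = (κ : MulAut T) := by
    show ((σ : ↥(E.autGroup T)) : MulAut T) *
      (((σ : ↥(E.autGroup T)) : MulAut T)⁻¹ * (κ : MulAut T)) = (κ : MulAut T)
    group
  rw [e] at h3
  exact h3

/-- Case 3: `Q ≤ T` and `C_S(Q) ≰ T`. -/
theorem stable_of_not_centralizer_le [Finite S] (hS : IsPGroup p S) (E : FusionSystem S)
    {Q : Subgroup Ω} (hQ : E.IsNormal Q) (𝔇 : Subgroup Ω)
    (hS𝔇 : ∀ s ∈ S, ∀ x ∈ S, x⁻¹ * (s * x * s⁻¹) ∈ 𝔇)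
    (h2 : ∀ (P : Subgroup Ω) (φ : P →* Ω), φ ∈ E.centralizerHom Q P →
      ∀ x : P, (x : Ω)⁻¹ * φ x ∈ 𝔇)
    {T : Subgroup Ω} (hfa : E.IsFullyAutomized p T) (hrec : E.IsReceptive T)
    (α : MulAut T) (hα : α ∈ E.autGroup T) (hQT : Q ≤ T) (hCT : ¬ centralizerIn S Q ≤ T)
    (IH : ∀ (P : Subgroup Ω) (φ : P →* Ω), φ ∈ E.Hom P → Nat.card T < Nat.card P →
      ∀ x : P, (x : Ω)⁻¹ * φ x ∈ 𝔇) :
    α ∈ stableSub 𝔇 T := by
  obtain ⟨hTS, R, hR⟩ := hfa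
  haveI : Finite ↥T := finite_of_le hTS
  haveI : Finite ↥(E.autGroup T) := inferInstance
  have hSQ : S ≤ Subgroup.normalizer (Q : Set Ω) :=
    Cfsg.Agent.Lib.Helper87.FSNormal.le_normalizer_of_stronglyClosed E
      (Cfsg.Agent.Lib.Helper87.FSNormal.stronglyClosed_of_isNormal E hQ)
  obtain ⟨c, hcC, hcT, hcN⟩ := exists_centralizer_normalizing hS hSQ hTS hCT
  haveI hKn : (fixQ E Q T).Normal := fixQ_normal E hQ hTS
  -- the Sylow subgroup of `fixQ`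
  have hsyl := Cfsg.Agent.Lib.Helper76.SylowTools.isSylowIn_inf_normal R (fixQ E Q T)
  let P₁ : Sylow p ↥(fixQ E Q T) :=
    IsPGroup.toSylow (P := ((R : Subgroup ↥(E.autGroup T)) ⊓ fixQ E Q T).subgroupOf (fixQ E Q T))
      hsyl.2.1.comap_subtype hsyl.2.2
  have hP₁coe : ((P₁ : Subgroup ↥(fixQ E Q T)).map (fixQ E Q T).subtype) =
      (R : Subgroup ↥(E.autGroup T)) ⊓ fixQ E Q T := by
    show (((R : Subgroup ↥(E.autGroup T)) ⊓ fixQ E Q T).subgroupOf (fixQ E Q T)).map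
      (fixQ E Q T).subtype = _
    rw [Subgroup.map_subgroupOf_eq_of_le inf_le_right]
  have hP₁ : ∀ σ ∈ P₁, ((σ : ↥(E.autGroup T)) : MulAut T) ∈ autInducedBy S T := by
    intro σ hσ
    have h3 : (σ : ↥(E.autGroup T)) ∈ (R : Subgroup ↥(E.autGroup T)) ⊓ fixQ E Q T := by
      rw [← hP₁coe]
      exact ⟨σ, hσ, rfl⟩
    have h4 := h3.1
    rw [hR] at h4
    exact Subgroup.mem_subgroupOf.1 h4
  -- Frattini
  have hfr := Sylow.normalizer_sup_eq_top P₁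
  have hmem : (⟨α, hα⟩ : ↥(E.autGroup T)) ∈
      Subgroup.normalizer ((((P₁ : Subgroup ↥(fixQ E Q T)).map (fixQ E Q T).subtype :
        Subgroup ↥(E.autGroup T))) : Set ↥(E.autGroup T)) ⊔ fixQ E Q T := by
    rw [hfr]
    exact Subgroup.mem_top _
  obtain ⟨n, hn, κ, hκ, hnκ⟩ := Subgroup.mem_sup_of_normal_right.1 hmem
  have hκst := fixQ_stable hS E hQ 𝔇 hS𝔇 h2 hTS hQT P₁ hP₁ κ hκ
  -- `n` extends to a larger subgroup
  have hnst : (n : MulAut T) ∈ stableSub 𝔇 T := by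
    have hγA : T.normalizerMonoidHom ⟨c, hcN⟩ ∈ E.autGroup T :=
      autInducedBy_le_autGroup E hTS ((mem_autInducedBy_iff S T _).2 ⟨c, hcC.1, fun x => rfl⟩)
    have hγ : (⟨T.normalizerMonoidHom ⟨c, hcN⟩, hγA⟩ : ↥(E.autGroup T)) ∈
        (P₁ : Subgroup ↥(fixQ E Q T)).map (fixQ E Q T).subtype := by
      rw [hP₁coe]
      refine ⟨?_, ?_⟩
      · show _ ∈ (R : Subgroup ↥(E.autGroup T))
        rw [hR]
        exact Subgroup.mem_subgroupOf.2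
          ((mem_autInducedBy_iff S T _).2 ⟨c, hcC.1, fun x => rfl⟩)
      · intro q hq
        apply Subtype.ext
        show c * (q : Ω) * c⁻¹ = q
        have h3 := (Subgroup.mem_centralizer_iff.1 hcC.2) (q : Ω) hq
        rw [← h3]
        group
    have hconj := (Subgroup.mem_normalizer_iff.1 hn _).1 hγ
    rw [hP₁coe] at hconj
    have h4 := hconj.1
    rw [hR] at h4
    obtain ⟨h, hhS, hh⟩ := (mem_autInducedBy_iff S T _).1 (Subgroup.mem_subgroupOf.1 h4)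
    have hnm : T.subtype.comp (n : MulAut T).toMonoidHom ∈ E.Hom T :=
      (mem_autGroup_iff E hTS _).1 n.2
    have hcX : c ∈ extender S T (T.subtype.comp (n : MulAut T).toMonoidHom) := by
      rw [mem_extender_iff]
      refine ⟨hcC.1, hcN, h, hhS, fun x hx => ?_⟩
      have h5 := hh ((n : MulAut T) x)
      show (((n : MulAut T) ⟨c * x * c⁻¹, hx⟩ : T) : Ω) = h * (((n : MulAut T) x : T) : Ω) * h⁻¹
      rw [← h5]
      show _ = (((n : MulAut T) ((T.normalizerMonoidHom ⟨c, hcN⟩)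
        ((n : MulAut T)⁻¹ ((n : MulAut T) x))) : T) : Ω)
      rw [MulAut.inv_apply_self]
      rfl
    obtain ⟨ψ, hψ, hψe⟩ := hrec.2 T _ hnm (range_subtype_comp_aut _)
    have hTX : T ≤ extender S T (T.subtype.comp (n : MulAut T).toMonoidHom) :=
      le_extender S T _ hTS (fun x => hTS ((n : MulAut T) x).2)
    have hXS : extender S T (T.subtype.comp (n : MulAut T).toMonoidHom) ≤ S :=
      fun g hg => ((mem_extender_iff S T _ g).1 hg).1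
    haveI : Finite ↥(extender S T (T.subtype.comp (n : MulAut T).toMonoidHom)) :=
      finite_of_le hXS
    have hlt : Nat.card T <
        Nat.card ↥(extender S T (T.subtype.comp (n : MulAut T).toMonoidHom)) := by
      by_contra hlt
      have heq := Subgroup.eq_of_le_of_card_ge hTX (not_lt.1 hlt)
      exact hcT (heq.symm.le hcX)
    intro x
    have h6 := IH _ ψ hψ hlt ⟨x, hTX x.2⟩
    rw [hψe x x.2 (hTX x.2)] at h6
    exact h6
  have h7 := (stableSub 𝔇 T).mul_mem hnst hκst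
  have e : ((n : ↥(E.autGroup T)) : MulAut T) * ((κ : ↥(E.autGroup T)) : MulAut T) = α :=
    congrArg Subtype.val hnκ
  rw [e] at h7
  exact h7

/-- **Kessar–Linckelmann generation, stable form.**  If `Q ⊴ E`, and the maps of
`N_E(Q C_S(Q))` and of `C_E(Q)` are stable modulo `𝔇` (which contains the commutators of `S`),
then every map of `E` is stable modulo `𝔇`. -/
theorem generation {p : ℕ} [Fact p.Prime] {Ω : Type*} [Group Ω] {S : Subgroup Ω} [Finite S]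
    (hS : IsPGroup p S) (E : Cfsg.FusionSystem S) (hE : E.IsSaturated p) (Q : Subgroup Ω)
    (hQ : E.IsNormal Q) (𝔇 : Subgroup Ω)
    (hS𝔇 : ∀ s ∈ S, ∀ x ∈ S, x⁻¹ * (s * x * s⁻¹) ∈ 𝔇)
    (h1 : ∀ (P : Subgroup Ω) (φ : P →* Ω),
      φ ∈ E.normalizerHom (Q ⊔ Cfsg.FusionSystem.centralizerIn S Q) P →
        ∀ x : P, (x : Ω)⁻¹ * φ x ∈ 𝔇)
    (h2 : ∀ (P : Subgroup Ω) (φ : P →* Ω), φ ∈ E.centralizerHom Q P →
      ∀ x : P, (x : Ω)⁻¹ * φ x ∈ 𝔇) :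
    ∀ (P : Subgroup Ω) (φ : P →* Ω), φ ∈ E.Hom P → ∀ x : P, (x : Ω)⁻¹ * φ x ∈ 𝔇 := by
  refine Cfsg.Agent.H85.alperin_induction hS E hE
    (fun P => {φ | ∀ x : P, (x : Ω)⁻¹ * φ x ∈ 𝔇}) ?_ ?_ ?_ ?_
  · intro P R φ hφ h x
    exact hφ (Subgroup.inclusion h x)
  · intro P Q' φ ψ hφ hψ h x
    have h3 := 𝔇.mul_mem (hφ x) (hψ ⟨φ x, h x⟩)
    have e : (x : Ω)⁻¹ * φ x * ((φ x)⁻¹ * ψ ⟨φ x, h x⟩) = (x : Ω)⁻¹ * ψ ⟨φ x, h x⟩ := by group
    rw [e] at h3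
    exact h3
  · intro P Q' e he h y
    have h3 := 𝔇.inv_mem (h (e.symm y))
    have e1 : (((e.symm y : P) : Ω)⁻¹ * ((e (e.symm y) : Q') : Ω))⁻¹ =
        (y : Ω)⁻¹ * ((e.symm y : P) : Ω) := by
      rw [MulEquiv.apply_symm_apply]
      group
    have h4 : (((e.symm y : P) : Ω)⁻¹ * ((e (e.symm y) : Q') : Ω))⁻¹ ∈ 𝔇 := h3
    rw [e1] at h4
    exact h4
  · intro T hfa hrec α hα hext IH
    have hTS := hfa.1
    by_cases hQT : Q ≤ T
    · by_cases hCT : Cfsg.FusionSystem.centralizerIn S Q ≤ T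
      · exact stable_of_centralizer_le E hQ 𝔇 h1 hTS α hα hQT hCT
      · exact stable_of_not_centralizer_le hS E hQ 𝔇 hS𝔇 h2 hfa hrec α hα hQT hCT IH
    · exact stable_of_not_le E hQ 𝔇 hTS α ((mem_autGroup_iff E hTS α).1 hα) hQT IH

end Cfsg.Agent.H84.KLGen
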