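import Mathlib
import Cfsg.Agent.Lib.Helper64.MetaB
import Cfsg.Agent.Lib.Helper54.CyclicNormal

set_option autoImplicit false
open scoped commutatorElement

/-! Metacyclic `2`-groups: recognition of the dihedral, semidihedral and generalized quaternion
groups among them, and the absence of certain homocyclic configurations. -/

namespace Cfsg.Agent.H84.Meta2

/-- A finite cyclic group has at most one involution. -/
theorem involution_unique {C : Type*} [Group C] [Finite C] [IsCyclic C] {x y : C}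
    (hx : x ^ 2 = 1) (hy : y ^ 2 = 1) (hx1 : x ≠ 1) (hy1 : y ≠ 1) : x = y := by
  classical
  haveI := Fintype.ofFinite C
  by_contra hxy
  have h := IsCyclic.card_pow_eq_one_le (α := C) (n := 2) (by norm_num)
  have hsub : ({1, x, y} : Finset C) ⊆ Finset.univ.filter (fun a : C => a ^ 2 = 1) := by
    intro a ha
    simp only [Finset.mem_insert, Finset.mem_singleton] at ha
    rw [Finset.mem_filter]
    rcases ha with rfl | rfl | rfl
    · exact ⟨Finset.mem_univ _, one_pow 2⟩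
    · exact ⟨Finset.mem_univ _, hx⟩
    · exact ⟨Finset.mem_univ _, hy⟩
  have hcard : ({1, x, y} : Finset C).card = 3 := by
    rw [Finset.card_insert_of_notMem, Finset.card_insert_of_notMem, Finset.card_singleton]
    · simpa using hxy
    · simp only [Finset.mem_insert, Finset.mem_singleton]
      push_neg
      exact ⟨hx1.symm, hy1.symm⟩
  have := Finset.card_le_card hsub
  omega

variable {X : Type*} [Group X]

theorem eq_zpowers (N : Subgroup X) (a : X) (haN : a ∈ N) (hNa : ∀ n ∈ N, ∃ i : ℕ, n = a ^ i) :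
    N = Subgroup.zpowers a := by
  apply le_antisymm
  · intro n hn
    obtain ⟨i, rfl⟩ := hNa n hn
    exact Subgroup.pow_mem _ (Subgroup.mem_zpowers a) i
  · rw [Subgroup.zpowers_le]; exact haN

theorem comm_of_gen (N : Subgroup X) (a : X) (hNa : ∀ n ∈ N, ∃ i : ℕ, n = a ^ i) :
    ∀ x ∈ N, ∀ y ∈ N, x * y = y * x := by
  intro x hx y hy
  obtain ⟨i, rfl⟩ := hNa x hx
  obtain ⟨j, rfl⟩ := hNa y hy
  rw [← pow_add, ← pow_add, add_comm]

/-- If some `s` inverts an element `c` of order `4` of the cyclic normal subgroup `N = ⟨a⟩` with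
cyclic quotient, then every element is `a ^ i * s ^ j`. -/
theorem gen_of_invert [Finite X] (hX : IsPGroup 2 X) (N : Subgroup X) (a b : X) (hNn : N.Normal)
    (haN : a ∈ N) (hNa : ∀ n ∈ N, ∃ i : ℕ, n = a ^ i)
    (hgen : ∀ g : X, ∃ i j : ℕ, g = a ^ i * b ^ j)
    {s c : X} (hcN : c ∈ N) (hc4 : c ^ 4 = 1) (hc2 : c ^ 2 ≠ 1) (hsc : s * c * s⁻¹ = c⁻¹) :
    ∀ g : X, ∃ i j : ℕ, g = a ^ i * s ^ j := by
  have hNz := eq_zpowers N a haN hNa
  have hNcomm := comm_of_gen N a hNa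
  obtain ⟨l, k, hs⟩ := hgen s
  have hzn : (Subgroup.zpowers a).Normal := hNz ▸ hNn
  have hcz : c ∈ Subgroup.zpowers a := hNz ▸ hcN
  have hord : orderOf c = 4 :=
    orderOf_eq_prime_pow (p := 2) (n := 1) (by simpa using hc2) (by simpa using hc4)
  have hc1 : c ≠ 1 := by
    rintro rfl
    exact hc2 (one_pow 2)
  -- conjugation by `b` maps `c` to `c` or `c⁻¹`
  have hbc : b * c * b⁻¹ = c ∨ b * c * b⁻¹ = c⁻¹ := by
    obtain ⟨r, hr⟩ := Cfsg.Agent.Lib.Helper54.CyclicNormal.conj_eq_zpow hzn b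
    have h1 : b * c * b⁻¹ = c ^ r := Cfsg.Agent.Lib.Helper54.CyclicNormal.conj_mem_of_conj hr hcz
    have h2 : c ^ r = c ^ (r % 4) := by
      have := zpow_mod_orderOf c r
      rw [hord] at this
      exact this.symm
    have h3 : 0 ≤ r % 4 := Int.emod_nonneg r (by norm_num)
    have h4 : r % 4 < 4 := Int.emod_lt_of_pos r (by norm_num)
    rw [h2] at h1
    obtain ⟨q, hq⟩ : ∃ q : ℕ, (q : ℤ) = r % 4 := ⟨(r % 4).toNat, Int.toNat_of_nonneg h3⟩
    rw [← hq, zpow_natCast] at h1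
    have hq4 : q < 4 := by omega
    interval_cases q
    · exfalso
      rw [pow_zero] at h1
      apply hc1
      have : c = b⁻¹ * (b * c * b⁻¹) * b := by group
      rw [this, h1]; group
    · left; rw [h1, pow_one]
    · exfalso
      apply hc2
      have h5 : (b * c * b⁻¹) ^ 2 = 1 := by rw [h1, ← pow_mul]; exact hc4
      rw [conj_pow] at h5
      have : c ^ 2 = b⁻¹ * (b * c ^ 2 * b⁻¹) * b := by group
      rw [this, h5]; group
    · right
      rw [h1]
      have : c ^ 3 * c = 1 := by rw [← pow_succ]; exact hc4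
      exact eq_inv_of_mul_eq_one_left this
  have hb2 : b ^ 2 * c * (b ^ 2)⁻¹ = c := by
    have e : b ^ 2 * c * (b ^ 2)⁻¹ = b * (b * c * b⁻¹) * b⁻¹ := by
      rw [pow_two, mul_inv_rev]; simp only [mul_assoc]
    rw [e]
    rcases hbc with h | h
    · rw [h, h]
    · rw [h]
      have e2 : b * c⁻¹ * b⁻¹ = (b * c * b⁻¹)⁻¹ := by group
      rw [e2, h, inv_inv]
  have hb2k : ∀ m : ℕ, b ^ (2 * m) * c * (b ^ (2 * m))⁻¹ = c := by
    intro m
    induction m with
    | zero => simp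
    | succ m ih =>
      have e : b ^ (2 * (m + 1)) * c * (b ^ (2 * (m + 1)))⁻¹ =
          b ^ 2 * (b ^ (2 * m) * c * (b ^ (2 * m))⁻¹) * (b ^ 2)⁻¹ := by
        rw [mul_add, mul_one, pow_add]; group
      rw [e, ih, hb2]
  have hkodd : Odd k := by
    by_contra hk
    rw [Nat.not_odd_iff_even] at hk
    obtain ⟨m, rfl⟩ := hk
    apply hc2
    have h1 : s * c * s⁻¹ = c := by
      rw [hs]
      have e : a ^ l * b ^ (m + m) * c * (a ^ l * b ^ (m + m))⁻¹ =
          a ^ l * (b ^ (2 * m) * c * (b ^ (2 * m))⁻¹) * (a ^ l)⁻¹ := by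
        rw [← two_mul]; group
      rw [e, hb2k m, hNcomm _ (N.pow_mem haN l) c hcN, mul_inv_cancel_right]
    rw [hsc] at h1
    have : c ^ 2 = c * c := pow_two c
    rw [this]
    nth_rewrite 1 [← h1]
    exact inv_mul_cancel c
  -- the quotient
  have hmk_s : (s : X ⧸ N) = (b : X ⧸ N) ^ k := by
    rw [hs, QuotientGroup.mk_mul, QuotientGroup.mk_pow, QuotientGroup.mk_pow,
      (QuotientGroup.eq_one_iff a).mpr haN, one_pow, one_mul]
  obtain ⟨x, hx⟩ := IsPGroup.iff_orderOf.mp (hX.to_quotient N) (b : X ⧸ N)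
  have hcop : k.Coprime (orderOf (b : X ⧸ N)) := by
    rw [hx]
    exact Nat.Coprime.pow_right x (Nat.coprime_two_right.mpr hkodd)
  obtain ⟨m, hm⟩ := exists_pow_eq_self_of_coprime hcop
  intro g
  obtain ⟨i, j, hg⟩ := hgen g
  have h1 : g * (s ^ (m * j))⁻¹ ∈ N := by
    rw [← QuotientGroup.eq_one_iff, QuotientGroup.mk_mul, QuotientGroup.mk_inv,
      QuotientGroup.mk_pow, hmk_s, hg, QuotientGroup.mk_mul, QuotientGroup.mk_pow,
      QuotientGroup.mk_pow, (QuotientGroup.eq_one_iff a).mpr haN, one_pow, one_mul, pow_mul, hm,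
      mul_inv_cancel]
  obtain ⟨i', hi'⟩ := hNa _ h1
  refine ⟨i', m * j, ?_⟩
  rw [← hi']; group

/-- The conclusion: dihedral, generalized quaternion or quasi-dihedral. -/
def DQS (X : Type*) [Group X] : Prop :=
  (∃ m : ℕ, Nonempty (X ≃* DihedralGroup m)) ∨ (∃ m : ℕ, Nonempty (X ≃* QuaternionGroup m)) ∨
    Cfsg.IsQuasiDihedral X

/-- If moreover `s ^ 2 ∈ N`, the group is dihedral, generalized quaternion or quasi-dihedral. -/
theorem trichotomy [Finite X] (hX : IsPGroup 2 X) (N : Subgroup X) (a b : X) (hNn : N.Normal)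
    (haN : a ∈ N) (hNa : ∀ n ∈ N, ∃ i : ℕ, n = a ^ i)
    (hgen : ∀ g : X, ∃ i j : ℕ, g = a ^ i * b ^ j)
    {s c : X} (hcN : c ∈ N) (hc4 : c ^ 4 = 1) (hc2 : c ^ 2 ≠ 1) (hsc : s * c * s⁻¹ = c⁻¹)
    (hs2 : s ^ 2 ∈ N) : DQS X := by
  have hgen' := gen_of_invert hX N a b hNn haN hNa hgen hcN hc4 hc2 hsc
  have hNz := eq_zpowers N a haN hNa
  have hNcomm := comm_of_gen N a hNa
  have hzn : (Subgroup.zpowers a).Normal := hNz ▸ hNn
  have hcz : c ∈ Subgroup.zpowers a := hNz ▸ hcN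
  have hord : orderOf c = 4 :=
    orderOf_eq_prime_pow (p := 2) (n := 1) (by simpa using hc2) (by simpa using hc4)
  have hcc : c ≠ c⁻¹ := by
    intro h
    apply hc2
    rw [pow_two]
    nth_rewrite 1 [h]
    exact inv_mul_cancel c
  obtain ⟨k, hk⟩ := IsPGroup.iff_orderOf.mp hX a
  have hk2 : 2 ≤ k := by
    have hd : orderOf c ∣ orderOf a := orderOf_dvd_of_mem_zpowers hcz
    rw [hord, hk] at hd
    by_contra hlt
    push_neg at hlt
    interval_cases k
    · norm_num at hd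
    · norm_num at hd
  obtain ⟨n, rfl⟩ : ∃ n, k = n + 1 := ⟨k - 1, by omega⟩
  have hn : 1 ≤ n := by omega
  have hs2c : s ^ 2 * c * (s ^ 2)⁻¹ = c := by
    rw [hNcomm _ hs2 c hcN, mul_inv_cancel_right]
  have hs2k : ∀ m : ℕ, s ^ (2 * m) * c * (s ^ (2 * m))⁻¹ = c := by
    intro m
    induction m with
    | zero => simp
    | succ m ih =>
      have e : s ^ (2 * (m + 1)) * c * (s ^ (2 * (m + 1)))⁻¹ =
          s ^ 2 * (s ^ (2 * m) * c * (s ^ (2 * m))⁻¹) * (s ^ 2)⁻¹ := by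
        rw [mul_add, mul_one, pow_add]; group
      rw [e, ih, hs2c]
  have hkey : ∀ y : X, Commute y c → y ∈ Subgroup.zpowers a := by
    intro y hy
    obtain ⟨i, j, rfl⟩ := hgen' y
    have hac : Commute (a ^ i) c := hNcomm _ (N.pow_mem haN i) c hcN
    have h1 : Commute (s ^ j) c := by
      have e : s ^ j = (a ^ i)⁻¹ * (a ^ i * s ^ j) := by group
      rw [e]
      exact hac.inv_left.mul_left hy
    have hj : Even j := by
      by_contra hodd
      rw [Nat.not_even_iff_odd] at hodd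
      obtain ⟨j', rfl⟩ := hodd
      apply hcc
      have h2 : s ^ (2 * j' + 1) * c * (s ^ (2 * j' + 1))⁻¹ = c⁻¹ := by
        have e : s ^ (2 * j' + 1) * c * (s ^ (2 * j' + 1))⁻¹ =
            s ^ (2 * j') * (s * c * s⁻¹) * (s ^ (2 * j'))⁻¹ := by
          rw [pow_succ]; group
        rw [e, hsc]
        have e2 : s ^ (2 * j') * c⁻¹ * (s ^ (2 * j'))⁻¹ =
            (s ^ (2 * j') * c * (s ^ (2 * j'))⁻¹)⁻¹ := by group
        rw [e2, hs2k j']
      have h3 : s ^ (2 * j' + 1) * c * (s ^ (2 * j' + 1))⁻¹ = c := by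
        rw [h1.eq, mul_inv_cancel_right]
      exact h3.symm.trans h2
    obtain ⟨j', rfl⟩ := hj
    rw [← hNz]
    refine N.mul_mem (N.pow_mem haN i) ?_
    rw [← two_mul, pow_mul]
    exact N.pow_mem hs2 j'
  have hC : ∀ x : X, Commute x a → x ∈ Subgroup.zpowers a := by
    intro x hx
    apply hkey
    obtain ⟨i₀, rfl⟩ := hNa c hcN
    exact hx.pow_right i₀
  have hM : n = 1 ∨ ∀ y : X, Commute y (a ^ 2) → y ∈ Subgroup.zpowers a := by
    by_cases hn1 : n = 1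
    · exact Or.inl hn1
    · right
      intro y hy
      apply hkey
      obtain ⟨i₀, rfl⟩ := hNa c hcN
      have h1 : a ^ (i₀ * 4) = 1 := by rw [pow_mul]; exact hc4
      have h2 : 2 ^ (n + 1) ∣ i₀ * 4 := by
        rw [← hk]; exact orderOf_dvd_of_pow_eq_one h1
      have h3 : 2 ^ 3 ∣ i₀ * 4 := dvd_trans (pow_dvd_pow 2 (by omega)) h2
      have h4 : 2 ∣ i₀ := by
        obtain ⟨q, hq⟩ := h3
        exact ⟨q, by omega⟩
      obtain ⟨i₁, rfl⟩ := h4
      rw [pow_mul]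
      exact hy.pow_right i₁
  have hx0 : s ∉ Subgroup.zpowers a := by
    intro h
    rw [← hNz] at h
    apply hcc
    rw [← hsc, hNcomm _ h c hcN, mul_inv_cancel_right]
  obtain ⟨hcard, x, hx, hrel⟩ :=
    Cfsg.Agent.Lib.Helper54.CyclicNormal.nonmodular hX hk hn hzn hC hM hx0
  rcases Cfsg.Agent.Lib.Helper54.CyclicNormal.iso_of_nonmodular hk hcard hx hrel with h | h | h
  · exact Or.inl ⟨_, h⟩
  · exact Or.inr (Or.inl ⟨_, h⟩)
  · exact Or.inr (Or.inr h)

theorem quot_isCyclic (N : Subgroup X) [N.Normal] (a b : X) (haN : a ∈ N)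
    (hgen : ∀ g : X, ∃ i j : ℕ, g = a ^ i * b ^ j) : IsCyclic (X ⧸ N) := by
  refine ⟨⟨(b : X ⧸ N), fun q => ?_⟩⟩
  obtain ⟨g, rfl⟩ := QuotientGroup.mk_surjective q
  obtain ⟨i, j, rfl⟩ := hgen g
  refine Subgroup.mem_zpowers_iff.mpr ⟨j, ?_⟩
  rw [QuotientGroup.mk_mul, QuotientGroup.mk_pow, QuotientGroup.mk_pow,
    (QuotientGroup.eq_one_iff a).mpr haN, one_pow, one_mul, zpow_natCast]

/-- A metacyclic `2`-group containing a quaternion group of order `8` is dihedral, generalized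
quaternion or quasi-dihedral. -/
theorem dqs_of_quaternion [Finite X] (hX : IsPGroup 2 X) (hm : Cfsg.IsMetacyclic X)
    (ι : QuaternionGroup 2 →* X) (hι : Function.Injective ι) : DQS X := by
  obtain ⟨N, a, b, hNn, hNc, haN, hNa, hgen, hcomm⟩ :=
    Cfsg.Agent.Lib.Helper64.MetaB.exists_gens hm
  haveI := hNn
  haveI := quot_isCyclic N a b haN hgen
  obtain ⟨c₀, hc₀⟩ : ∃ c₀ : X, c₀ = ι (QuaternionGroup.a 1) := ⟨_, rfl⟩
  obtain ⟨j₀, hj₀⟩ : ∃ j₀ : X, j₀ = ι (QuaternionGroup.xa 0) := ⟨_, rfl⟩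
  have A4 : c₀ ^ 4 = 1 := by
    rw [hc₀, ← map_pow, show (QuaternionGroup.a 1 : QuaternionGroup 2) ^ 4 = 1 from by decide,
      map_one]
  have A2 : c₀ ^ 2 ≠ 1 := by
    intro h
    rw [hc₀, ← map_pow] at h
    exact absurd (hι (h.trans (map_one ι).symm)) (by decide)
  have J : j₀ * c₀ * j₀⁻¹ = c₀⁻¹ := by
    have h := congrArg ι (show (QuaternionGroup.xa 0 * QuaternionGroup.a 1 *
      (QuaternionGroup.xa 0)⁻¹ : QuaternionGroup 2) = (QuaternionGroup.a 1)⁻¹ from by decide)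
    rw [map_mul, map_mul, map_inv, map_inv] at h
    rw [hj₀, hc₀]; exact h
  have J2 : j₀ ^ 2 = c₀ ^ 2 := by
    have h := congrArg ι (show (QuaternionGroup.xa 0 : QuaternionGroup 2) ^ 2 =
      (QuaternionGroup.a 1) ^ 2 from by decide)
    rw [map_pow, map_pow] at h
    rw [hj₀, hc₀]; exact h
  have J4 : j₀ ^ 4 = 1 := by
    rw [hj₀, ← map_pow, show (QuaternionGroup.xa 0 : QuaternionGroup 2) ^ 4 = 1 from by decide,
      map_one]
  have R2 : c₀ * j₀ * c₀⁻¹ = j₀⁻¹ := by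
    have h := congrArg ι (show (QuaternionGroup.a 1 * QuaternionGroup.xa 0 *
      (QuaternionGroup.a 1)⁻¹ : QuaternionGroup 2) = (QuaternionGroup.xa 0)⁻¹ from by decide)
    rw [map_mul, map_mul, map_inv, map_inv] at h
    rw [hj₀, hc₀]; exact h
  have F4 : (j₀ * c₀) ^ 4 = 1 := by
    rw [hj₀, hc₀, ← map_mul, ← map_pow, show (QuaternionGroup.xa 0 * QuaternionGroup.a 1 :
      QuaternionGroup 2) ^ 4 = 1 from by decide, map_one]
  have F2 : (j₀ * c₀) ^ 2 ≠ 1 := by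
    intro h
    rw [hj₀, hc₀, ← map_mul, ← map_pow] at h
    exact absurd (hι (h.trans (map_one ι).symm)) (by decide)
  have FR : c₀ * (j₀ * c₀) * c₀⁻¹ = (j₀ * c₀)⁻¹ := by
    have h := congrArg ι (show (QuaternionGroup.a 1 * (QuaternionGroup.xa 0 *
      QuaternionGroup.a 1) * (QuaternionGroup.a 1)⁻¹ : QuaternionGroup 2) =
      (QuaternionGroup.xa 0 * QuaternionGroup.a 1)⁻¹ from by decide)
    rw [map_mul, map_mul, map_mul, map_inv, map_inv, map_mul] at h
    rw [hj₀, hc₀]; exact h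
  have hc2N : c₀ ^ 2 ∈ N := by
    have h1 : ⁅j₀, c₀⁆ = (c₀ ^ 2)⁻¹ := by
      rw [commutatorElement_def, J, pow_two, mul_inv_rev]
    have h2 := hcomm j₀ c₀
    rw [h1] at h2
    exact (N.inv_mem_iff).mp h2
  by_cases h1 : c₀ ∈ N
  · exact trichotomy hX N a b hNn haN hNa hgen h1 A4 A2 J (by rw [J2]; exact hc2N)
  by_cases h2 : j₀ ∈ N
  · exact trichotomy hX N a b hNn haN hNa hgen h2 J4 (by rw [J2]; exact A2) R2 hc2N
  have hmc : (c₀ : X ⧸ N) ≠ 1 := fun h => h1 ((QuotientGroup.eq_one_iff _).mp h)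
  have hmj : (j₀ : X ⧸ N) ≠ 1 := fun h => h2 ((QuotientGroup.eq_one_iff _).mp h)
  have hmc2 : (c₀ : X ⧸ N) ^ 2 = 1 := by
    rw [← QuotientGroup.mk_pow]; exact (QuotientGroup.eq_one_iff _).mpr hc2N
  have hmj2 : (j₀ : X ⧸ N) ^ 2 = 1 := by
    rw [← QuotientGroup.mk_pow, J2]; exact (QuotientGroup.eq_one_iff _).mpr hc2N
  have heq := involution_unique hmj2 hmc2 hmj hmc
  have hfN : j₀ * c₀ ∈ N := by
    rw [← QuotientGroup.eq_one_iff, QuotientGroup.mk_mul, heq, ← pow_two]; exact hmc2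
  exact trichotomy hX N a b hNn haN hNa hgen hfN F4 F2 FR hc2N

theorem four_elems [Finite X] (M : Subgroup X) (hMcard : Nat.card M = 4) {x₁ x₂ x₃ : X}
    (h₁ : x₁ ∈ M) (h₂ : x₂ ∈ M) (h₃ : x₃ ∈ M) (n1 : x₁ ≠ 1) (n2 : x₂ ≠ 1) (n3 : x₃ ≠ 1)
    (n12 : x₁ ≠ x₂) (n13 : x₁ ≠ x₃) (n23 : x₂ ≠ x₃) :
    ∀ y ∈ M, y = 1 ∨ y = x₁ ∨ y = x₂ ∨ y = x₃ := by
  classical
  haveI := Fintype.ofFinite M
  intro y hy
  have hs : ({1, ⟨x₁, h₁⟩, ⟨x₂, h₂⟩, ⟨x₃, h₃⟩} : Finset M).card = 4 := by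
    rw [Finset.card_insert_of_notMem, Finset.card_insert_of_notMem,
      Finset.card_insert_of_notMem, Finset.card_singleton]
    · simp only [Finset.mem_singleton, Subtype.mk.injEq]; exact n23
    · simp only [Finset.mem_insert, Finset.mem_singleton, Subtype.mk.injEq]
      push_neg; exact ⟨n12, n13⟩
    · simp only [Finset.mem_insert, Finset.mem_singleton]
      push_neg
      refine ⟨?_, ?_, ?_⟩
      · intro h; exact n1 (congrArg Subtype.val h).symm
      · intro h; exact n2 (congrArg Subtype.val h).symm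
      · intro h; exact n3 (congrArg Subtype.val h).symm
  have huniv : ({1, ⟨x₁, h₁⟩, ⟨x₂, h₂⟩, ⟨x₃, h₃⟩} : Finset M) = Finset.univ :=
    Finset.eq_univ_of_card _ (by rw [hs, ← Nat.card_eq_fintype_card, hMcard])
  have hmem : (⟨y, hy⟩ : M) ∈ ({1, ⟨x₁, h₁⟩, ⟨x₂, h₂⟩, ⟨x₃, h₃⟩} : Finset M) := by
    rw [huniv]; exact Finset.mem_univ _
  simp only [Finset.mem_insert, Finset.mem_singleton, Subtype.mk.injEq] at hmem
  rcases hmem with h | h | h | h
  · left; exact congrArg Subtype.val h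
  · right; left; exact h
  · right; right; left; exact h
  · right; right; right; exact h

/-- A cyclic subgroup has at most one involution. -/
theorem inv_unique_sub [Finite X] (N : Subgroup X) (hNc : IsCyclic N) {x y : X} (hx : x ∈ N)
    (hy : y ∈ N) (hx2 : x ^ 2 = 1) (hy2 : y ^ 2 = 1) (hx1 : x ≠ 1) (hy1 : y ≠ 1) : x = y := by
  haveI := hNc
  have h := involution_unique (C := N) (x := ⟨x, hx⟩) (y := ⟨y, hy⟩) (Subtype.ext hx2)
    (Subtype.ext hy2) (fun h => hx1 (congrArg Subtype.val h))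
    (fun h => hy1 (congrArg Subtype.val h))
  exact congrArg Subtype.val h

/-- Case A: a four-group normalized, but not centralized, by an element whose square lies in
it. -/
theorem dqs_of_four [Finite X] (hX : IsPGroup 2 X) (hm : Cfsg.IsMetacyclic X) (M : Subgroup X)
    (hMcard : Nat.card M = 4) (hMexp : ∀ x ∈ M, x ^ 2 = 1) {t u : X}
    (htM : ∀ x ∈ M, t * x * t⁻¹ ∈ M) (ht2 : t ^ 2 ∈ M) (hu : u ∈ M) (htu : t * u * t⁻¹ ≠ u) :
    DQS X := by
  obtain ⟨N, a, b, hNn, hNc, haN, hNa, hgen, hcomm⟩ :=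
    Cfsg.Agent.Lib.Helper64.MetaB.exists_gens hm
  haveI := hNn
  haveI := quot_isCyclic N a b haN hgen
  have hinv : ∀ x ∈ M, x⁻¹ = x := fun x hx => by
    have := hMexp x hx
    rw [pow_two] at this
    exact inv_eq_of_mul_eq_one_left this
  have hMc : ∀ x ∈ M, ∀ y ∈ M, x * y = y * x := by
    intro x hx y hy
    have h1 := hinv _ (M.mul_mem hx hy)
    rw [mul_inv_rev, hinv x hx, hinv y hy] at h1
    exact h1.symm
  obtain ⟨v, hv⟩ : ∃ v, v = t * u * t⁻¹ := ⟨_, rfl⟩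
  have hvM : v ∈ M := hv ▸ htM u hu
  have hu2 := hMexp u hu
  have hv2 := hMexp v hvM
  have hu1 : u ≠ 1 := by
    rintro rfl
    apply htu; simp
  have hv1 : v ≠ 1 := by
    intro h
    apply hu1
    rw [h] at hv
    have : u = t⁻¹ * (t * u * t⁻¹) * t := by group
    rw [this, ← hv]; group
  have hvu : v ≠ u := hv ▸ htu
  obtain ⟨w, hw⟩ : ∃ w, w = v * u := ⟨_, rfl⟩
  have hwM : w ∈ M := hw ▸ M.mul_mem hvM hu
  have hw2 := hMexp w hwM
  have hw1 : w ≠ 1 := by
    intro h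
    rw [h] at hw
    apply hvu
    have : v = u⁻¹ := eq_inv_of_mul_eq_one_left hw.symm
    rw [this, hinv u hu]
  have hwu : w ≠ u := by
    intro h
    apply hv1
    rw [h] at hw
    exact mul_eq_right.mp hw.symm
  have hwv : w ≠ v := by
    intro h
    apply hu1
    rw [h] at hw
    exact mul_eq_left.mp hw.symm
  have hM4 := four_elems M hMcard hu hvM hwM hu1 hv1 hw1 hvu.symm hwu.symm hwv.symm
  have htv : t * v * t⁻¹ = u := by
    have e : t * v * t⁻¹ = t ^ 2 * u * (t ^ 2)⁻¹ := by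
      rw [hv, pow_two, mul_inv_rev]; simp only [mul_assoc]
    rw [e, hMc _ ht2 u hu, mul_inv_cancel_right]
  have htw : t * w * t⁻¹ = w := by
    have e : t * w * t⁻¹ = (t * v * t⁻¹) * (t * u * t⁻¹) := by rw [hw]; group
    rw [e, htv, ← hv, hw, hMc u hu v hvM]
  have ht2' : t ^ 2 = 1 ∨ t ^ 2 = w := by
    have hself : t * t ^ 2 * t⁻¹ = t ^ 2 := by group
    rcases hM4 _ ht2 with h | h | h | h
    · exact Or.inl h
    · exfalso; rw [h] at hself; exact htu hself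
    · exfalso; rw [h, htv] at hself; exact hvu hself.symm
    · exact Or.inr h
  have hwN : w ∈ N := by
    have h := hcomm t u
    rw [commutatorElement_def, ← hv, hinv u hu, ← hw] at h
    exact h
  have huN : u ∉ N := fun h => hwu (inv_unique_sub N hNc hwN h hw2 hu2 hw1 hu1)
  have htu' : t * u = v * t := by rw [hv]; group
  obtain ⟨f, hf2, hfu⟩ : ∃ f, f ^ 2 = w ∧ u * f * u⁻¹ = f⁻¹ := by
    rcases ht2' with h | h
    · refine ⟨u * t, ?_, ?_⟩
      · have e : (u * t) ^ 2 = u * (t * u) * t := by rw [pow_two]; simp only [mul_assoc]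
        rw [e, htu']
        have e2 : u * (v * t) * t = u * v * t ^ 2 := by rw [pow_two]; simp only [mul_assoc]
        rw [e2, h, mul_one, hw, hMc u hu v hvM]
      · have ht : t⁻¹ = t := by rw [pow_two] at h; exact inv_eq_of_mul_eq_one_left h
        rw [mul_inv_rev, ht]
        have e : u * (u * t) * u⁻¹ = u ^ 2 * t * u⁻¹ := by rw [pow_two]; simp only [mul_assoc]
        rw [e, hu2, one_mul]
    · refine ⟨t, h, ?_⟩
      have ht4 : t ^ 4 = 1 := by
        have : t ^ 4 = (t ^ 2) ^ 2 := by rw [← pow_mul]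
        rw [this, h, hw2]
      rw [hinv u hu]
      have e : u * t * u = u * (t * u) := by simp only [mul_assoc]
      rw [e, htu', ← mul_assoc, hMc u hu v hvM, ← hw, ← h]
      have : t ^ 2 * t * t = 1 := by rw [← pow_succ, ← pow_succ]; exact ht4
      exact eq_inv_of_mul_eq_one_left this
  have hf22 : f ^ 2 ≠ 1 := hf2 ▸ hw1
  have hf4 : f ^ 4 = 1 := by
    have : f ^ 4 = (f ^ 2) ^ 2 := by rw [← pow_mul]
    rw [this, hf2, hw2]
  have hfN : f ∈ N := by
    by_contra hfN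
    have hmu : (u : X ⧸ N) ≠ 1 := fun h => huN ((QuotientGroup.eq_one_iff _).mp h)
    have hmf : (f : X ⧸ N) ≠ 1 := fun h => hfN ((QuotientGroup.eq_one_iff _).mp h)
    have hmu2 : (u : X ⧸ N) ^ 2 = 1 := by
      rw [← QuotientGroup.mk_pow, hu2]; rfl
    have hmf2 : (f : X ⧸ N) ^ 2 = 1 := by
      rw [← QuotientGroup.mk_pow, hf2]; exact (QuotientGroup.eq_one_iff _).mpr hwN
    have heq := involution_unique hmu2 hmf2 hmu hmf
    have hgN : u * f ∈ N := by
      rw [← QuotientGroup.eq_one_iff, QuotientGroup.mk_mul, ← heq, ← pow_two]; exact hmu2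
    have hg2 : (u * f) ^ 2 = 1 := by
      have e : (u * f) ^ 2 = (u * f * u⁻¹) * f := by
        rw [hinv u hu, pow_two]; simp only [mul_assoc]
      rw [e, hfu, inv_mul_cancel]
    by_cases hg1 : u * f = 1
    · apply hf22
      have : f = u⁻¹ := eq_inv_of_mul_eq_one_right hg1
      rw [this, hinv u hu, hu2]
    · have := inv_unique_sub N hNc hgN hwN hg2 hw2 hg1 hw1
      apply hf22
      have hfv : f = v := by
        rw [hw, hMc v hvM u hu] at this
        exact mul_left_cancel this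
      rw [hfv, hv2]
  exact trichotomy hX N a b hNn haN hNa hgen hfN hf4 hf22 hfu (by rw [hu2]; exact N.one_mem)

/-- Case C: a homocyclic subgroup of rank `2` in which all involutions are squares cannot be
normalized by an element with square in it that moves one of its involutions. -/
theorem false_of_homocyclic [Finite X] (hX : IsPGroup 2 X) (hm : Cfsg.IsMetacyclic X)
    (M : Subgroup X) (n : ℕ) (hMcard : Nat.card M = 2 ^ n * 2 ^ n)
    (hMexp : ∀ x ∈ M, x ^ (2 ^ n) = 1) (hMc : ∀ x ∈ M, ∀ y ∈ M, x * y = y * x)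
    (hsq : ∀ u ∈ M, u ^ 2 = 1 → ∃ x ∈ M, x ^ 2 = u) {t u : X}
    (htM : ∀ x ∈ M, t * x * t⁻¹ ∈ M) (ht2 : t ^ 2 ∈ M) (hu : u ∈ M) (hu2 : u ^ 2 = 1)
    (htu : t * u * t⁻¹ ≠ u) : False := by
  obtain ⟨N, a, b, hNn, hNc, haN, hNa, hgen, hcomm⟩ :=
    Cfsg.Agent.Lib.Helper64.MetaB.exists_gens hm
  haveI := hNn
  have hNcomm := comm_of_gen N a hNa
  obtain ⟨x, hxM, hx2⟩ := hsq u hu hu2
  obtain ⟨y, hy⟩ : ∃ y, y = t * x * t⁻¹ := ⟨_, rfl⟩
  have hyM : y ∈ M := hy ▸ htM x hxM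
  obtain ⟨c, hc⟩ : ∃ c, c = y * x⁻¹ := ⟨_, rfl⟩
  have hcM : c ∈ M := hc ▸ M.mul_mem hyM (M.inv_mem hxM)
  have hcN : c ∈ N := by
    have h := hcomm t x
    rw [commutatorElement_def, ← hy, ← hc] at h
    exact h
  have hy2 : y ^ 2 = t * u * t⁻¹ := by rw [hy, conj_pow, hx2]
  have hc2e : c ^ 2 = t * u * t⁻¹ * u⁻¹ := by
    rw [hc, pow_two]
    have e : y * x⁻¹ * (y * x⁻¹) = y * (x⁻¹ * y) * x⁻¹ := by simp only [mul_assoc]
    rw [e, hMc _ (M.inv_mem hxM) y hyM]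
    have e2 : y * (y * x⁻¹) * x⁻¹ = y ^ 2 * (x ^ 2)⁻¹ := by
      rw [pow_two, pow_two, mul_inv_rev]; simp only [mul_assoc]
    rw [e2, hy2, hx2]
  have hc2 : c ^ 2 ≠ 1 := by
    rw [hc2e]
    intro h
    exact htu (mul_inv_eq_one.mp h)
  have hc4 : c ^ 4 = 1 := by
    have e : c ^ 4 = (c ^ 2) ^ 2 := by rw [← pow_mul]
    have hvM : t * u * t⁻¹ ∈ M := htM u hu
    rw [e, hc2e, pow_two]
    have e2 : t * u * t⁻¹ * u⁻¹ * (t * u * t⁻¹ * u⁻¹) =
        t * u * t⁻¹ * (u⁻¹ * (t * u * t⁻¹)) * u⁻¹ := by simp only [mul_assoc]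
    rw [e2, hMc _ (M.inv_mem hu) _ hvM]
    have e3 : t * u * t⁻¹ * (t * u * t⁻¹ * u⁻¹) * u⁻¹ = t * u ^ 2 * t⁻¹ * (u ^ 2)⁻¹ := by
      rw [pow_two]; group
    rw [e3, hu2]; group
  have htc : t * c * t⁻¹ = c⁻¹ := by
    have e : t * c * t⁻¹ = (t ^ 2 * x * (t ^ 2)⁻¹) * (t * x * t⁻¹)⁻¹ := by
      rw [hc, hy, pow_two]; group
    rw [e, hMc _ ht2 x hxM, mul_inv_cancel_right, ← hy, hc, mul_inv_rev, inv_inv]
  have hgen' := gen_of_invert hX N a b hNn haN hNa hgen hcN hc4 hc2 htc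
  have hcc : c ≠ c⁻¹ := by
    intro h
    apply hc2
    rw [pow_two]
    nth_rewrite 1 [h]
    exact inv_mul_cancel c
  have ht2c : t ^ 2 * c * (t ^ 2)⁻¹ = c := by
    rw [hMc _ ht2 c hcM, mul_inv_cancel_right]
  have ht2k : ∀ m : ℕ, t ^ (2 * m) * c * (t ^ (2 * m))⁻¹ = c := by
    intro m
    induction m with
    | zero => simp
    | succ m ih =>
      have e : t ^ (2 * (m + 1)) * c * (t ^ (2 * (m + 1)))⁻¹ =
          t ^ 2 * (t ^ (2 * m) * c * (t ^ (2 * m))⁻¹) * (t ^ 2)⁻¹ := by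
        rw [mul_add, mul_one, pow_add]; group
      rw [e, ih, ht2c]
  have hdec : ∀ g ∈ M, ∃ k ∈ M ⊓ N, ∃ s ∈ Subgroup.zpowers (t ^ 2), g = k * s := by
    intro g hg
    obtain ⟨i, j, rfl⟩ := hgen' g
    have hy : Commute (a ^ i * t ^ j) c := hMc _ hg c hcM
    have hac : Commute (a ^ i) c := hNcomm _ (N.pow_mem haN i) c hcN
    have h1 : Commute (t ^ j) c := by
      have e : t ^ j = (a ^ i)⁻¹ * (a ^ i * t ^ j) := by group
      rw [e]
      exact hac.inv_left.mul_left hy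
    have hj : Even j := by
      by_contra hodd
      rw [Nat.not_even_iff_odd] at hodd
      obtain ⟨j', rfl⟩ := hodd
      apply hcc
      have h2 : t ^ (2 * j' + 1) * c * (t ^ (2 * j' + 1))⁻¹ = c⁻¹ := by
        have e : t ^ (2 * j' + 1) * c * (t ^ (2 * j' + 1))⁻¹ =
            t ^ (2 * j') * (t * c * t⁻¹) * (t ^ (2 * j'))⁻¹ := by
          rw [pow_succ]; group
        rw [e, htc]
        have e2 : t ^ (2 * j') * c⁻¹ * (t ^ (2 * j'))⁻¹ =
            (t ^ (2 * j') * c * (t ^ (2 * j'))⁻¹)⁻¹ := by group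
        rw [e2, ht2k j']
      have h3 : t ^ (2 * j' + 1) * c * (t ^ (2 * j' + 1))⁻¹ = c := by
        rw [h1.eq, mul_inv_cancel_right]
      exact h3.symm.trans h2
    obtain ⟨j', rfl⟩ := hj
    have hs : t ^ (j' + j') ∈ Subgroup.zpowers (t ^ 2) := by
      rw [← two_mul, pow_mul]
      exact Subgroup.pow_mem _ (Subgroup.mem_zpowers _) j'
    have hsM : t ^ (j' + j') ∈ M := by
      rw [← two_mul, pow_mul]
      exact M.pow_mem ht2 j'
    refine ⟨a ^ i, ⟨?_, N.pow_mem haN i⟩, _, hs, rfl⟩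
    have e : a ^ i = (a ^ i * t ^ (j' + j')) * (t ^ (j' + j'))⁻¹ := by group
    rw [e]
    exact M.mul_mem hg (M.inv_mem hsM)
  have hTM : Subgroup.zpowers (t ^ 2) ≤ M := by rw [Subgroup.zpowers_le]; exact ht2
  have hKcard : Nat.card ↥(M ⊓ N) ≤ 2 ^ n := by
    haveI := hNc
    haveI : IsCyclic ↥(M ⊓ N) := Subgroup.isCyclic_of_le (inf_le_right : M ⊓ N ≤ N)
    rw [← IsCyclic.exponent_eq_card]
    apply Nat.le_of_dvd (by positivity)
    apply Monoid.exponent_dvd_of_forall_pow_eq_one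
    intro g
    apply Subtype.ext
    rw [Subgroup.coe_pow]
    exact hMexp _ g.2.1
  have hTcard : Nat.card ↥(Subgroup.zpowers (t ^ 2)) ≤ 2 ^ n := by
    rw [Nat.card_zpowers]
    apply Nat.le_of_dvd (by positivity)
    exact orderOf_dvd_of_pow_eq_one (hMexp _ ht2)
  let f : ↥(M ⊓ N) × ↥(Subgroup.zpowers (t ^ 2)) → ↥M :=
    fun q => ⟨q.1.1 * q.2.1, M.mul_mem q.1.2.1 (hTM q.2.2)⟩
  have hfs : Function.Surjective f := by
    rintro ⟨g, hg⟩
    obtain ⟨k, hk, s, hs, rfl⟩ := hdec g hg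
    exact ⟨(⟨k, hk⟩, ⟨s, hs⟩), rfl⟩
  have hfb : Function.Bijective f := by
    apply hfs.bijective_of_nat_card_le
    rw [Nat.card_prod, hMcard]
    exact Nat.mul_le_mul hKcard hTcard
  obtain ⟨k, hk, s, hs, rfl⟩ := hdec u hu
  have hkM : k ∈ M := hk.1
  have hsM : s ∈ M := hTM hs
  have hks : k ^ 2 * s ^ 2 = 1 := by
    rw [← hu2, pow_two, pow_two, pow_two]
    have e : k * s * (k * s) = k * (s * k) * s := by simp only [mul_assoc]
    rw [e, hMc s hsM k hkM]; simp only [mul_assoc]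
  have hinj := hfb.1 (a₁ := (⟨k ^ 2, (M ⊓ N).pow_mem hk 2⟩, ⟨s ^ 2, Subgroup.pow_mem _ hs 2⟩))
    (a₂ := (1, 1)) (Subtype.ext (by simpa [f] using hks))
  have hk2 : k ^ 2 = 1 := by
    have := congrArg (fun q => (q.1 : X)) hinj
    simpa using this
  have htk : t * k * t⁻¹ = k := by
    by_cases hk1 : k = 1
    · rw [hk1]; simp
    · have hkc : t * k * t⁻¹ ∈ N := hNn.conj_mem k hk.2 t
      have h2 : (t * k * t⁻¹) ^ 2 = 1 := by rw [conj_pow, hk2]; simp
      have h1 : t * k * t⁻¹ ≠ 1 := by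
        intro h
        apply hk1
        have : k = t⁻¹ * (t * k * t⁻¹) * t := by group
        rw [this, h]; group
      exact inv_unique_sub N hNc hkc hk.2 h2 hk2 h1 hk1
  have hts : t * s * t⁻¹ = s := by
    obtain ⟨z, rfl⟩ := Subgroup.mem_zpowers_iff.mp hs
    have : Commute t ((t ^ 2) ^ z) := ((Commute.refl t).pow_right 2).zpow_right z
    rw [this.eq, mul_inv_cancel_right]
  apply htu
  have e : t * (k * s) * t⁻¹ = (t * k * t⁻¹) * (t * s * t⁻¹) := by group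
  rw [e, htk, hts]

end Cfsg.Agent.H84.Meta2
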