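import Mathlib
import Cfsg.Agent.Lib.Helper87.StabChain
import Cfsg.Agent.Lib.Helper24.Coprime
import Cfsg.Agent.Lib.Helper24.SpecialGroup
import Cfsg.Agent.Lib.Helper63.PFrattini
import Cfsg.Prelude.Def_FusionSystem

set_option autoImplicit false

namespace Cfsg.Agent.H84.PCube

open scoped commutatorElement

variable {H : Type*} [Group H]

/-- On a layer `M/K` of prime order, the maps induced by two automorphisms preserving `M` and `K`
commute. -/
theorem layer_comm {p : ℕ} [Fact p.Prime] (M K : Subgroup H) [hK : (K.subgroupOf M).Normal]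
    (hidx : K.relIndex M = p) (α β : MulAut H)
    (hαM : ∀ x ∈ M, α x ∈ M) (hαK : ∀ x ∈ K, α x ∈ K)
    (hβM : ∀ x ∈ M, β x ∈ M) (hβK : ∀ x ∈ K, β x ∈ K) :
    ∀ x ∈ M, (β (α x))⁻¹ * α (β x) ∈ K := by
  have hcard : Nat.card (↥M ⧸ K.subgroupOf M) = p := by
    rw [← Subgroup.index_eq_card]; exact hidx
  have hcyc : IsCyclic (↥M ⧸ K.subgroupOf M) := isCyclic_of_prime_card hcard
  let αM : ↥M →* ↥M := (α.toMonoidHom.comp M.subtype).codRestrict M (fun x => hαM x x.2)
  let βM : ↥M →* ↥M := (β.toMonoidHom.comp M.subtype).codRestrict M (fun x => hβM x x.2)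
  have hαle : K.subgroupOf M ≤ (K.subgroupOf M).comap αM :=
    fun x hx => Subgroup.mem_subgroupOf.mpr (hαK x (Subgroup.mem_subgroupOf.mp hx))
  have hβle : K.subgroupOf M ≤ (K.subgroupOf M).comap βM :=
    fun x hx => Subgroup.mem_subgroupOf.mpr (hβK x (Subgroup.mem_subgroupOf.mp hx))
  obtain ⟨a, ha⟩ := MonoidHom.map_cyclic (QuotientGroup.map _ _ αM hαle)
  obtain ⟨b, hb⟩ := MonoidHom.map_cyclic (QuotientGroup.map _ _ βM hβle)
  intro x hx
  have h1 : (QuotientGroup.map _ _ βM hβle)
      ((QuotientGroup.map _ _ αM hαle) (QuotientGroup.mk ⟨x, hx⟩)) =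
      (QuotientGroup.map _ _ αM hαle)
        ((QuotientGroup.map _ _ βM hβle) (QuotientGroup.mk ⟨x, hx⟩)) := by
    simp only [ha, hb]
    rw [← zpow_mul, ← zpow_mul, mul_comm]
  rw [QuotientGroup.map_mk, QuotientGroup.map_mk, QuotientGroup.map_mk, QuotientGroup.map_mk] at h1
  have h2 := QuotientGroup.eq.mp h1
  exact Subgroup.mem_subgroupOf.mp h2

/-- If a finite `p`-group has a chain `⊤ > B > A > ⊥` with steps of order `p` preserved by a group
`X` of automorphisms, the derived subgroup of `X` is a `p`-group. -/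
theorem commutator_isPGroup_of_chain [Finite H] {p : ℕ} [Fact p.Prime] (hH : IsPGroup p H)
    (B A : Subgroup H) (hBidx : B.index = p) (hABidx : A.relIndex B = p)
    (hAcard : Nat.card A = p) (X : Subgroup (MulAut H))
    (hXB : ∀ α ∈ X, ∀ x ∈ B, α x ∈ B) (hXA : ∀ α ∈ X, ∀ x ∈ A, α x ∈ A)
    [hBn : B.Normal] [hAn : A.Normal] : IsPGroup p ↥(commutator ↥X) := by
  let N : Subgroup (MulAut H) :=
    { carrier := {γ | γ ∈ X ∧ (∀ x, x⁻¹ * γ x ∈ B) ∧ (∀ x ∈ B, x⁻¹ * γ x ∈ A) ∧
        (∀ x ∈ A, γ x = x)}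
      one_mem' := ⟨X.one_mem, fun x => by simp, fun x _ => by simp, fun x _ => rfl⟩
      mul_mem' := by
        rintro γ δ ⟨hγ, h1, h2, h3⟩ ⟨hδ, k1, k2, k3⟩
        refine ⟨X.mul_mem hγ hδ, fun x => ?_, fun x hx => ?_, fun x hx => ?_⟩
        · have e : x⁻¹ * (γ * δ) x = (x⁻¹ * γ x) * γ (x⁻¹ * δ x) := by
            rw [MulAut.mul_apply, map_mul, map_inv]; group
          rw [e]
          exact B.mul_mem (h1 x) (hXB γ hγ _ (k1 x))
        · have e : x⁻¹ * (γ * δ) x = (x⁻¹ * γ x) * γ (x⁻¹ * δ x) := by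
            rw [MulAut.mul_apply, map_mul, map_inv]; group
          rw [e]
          exact A.mul_mem (h2 x hx) (hXA γ hγ _ (k2 x hx))
        · rw [MulAut.mul_apply, k3 x hx, h3 x hx]
      inv_mem' := by
        rintro γ ⟨hγ, h1, h2, h3⟩
        have hγi := X.inv_mem hγ
        refine ⟨hγi, fun x => ?_, fun x hx => ?_, fun x hx => ?_⟩
        · have e : x⁻¹ * γ⁻¹ x = γ⁻¹ ((x⁻¹ * γ x)⁻¹) := by
            rw [mul_inv_rev, inv_inv, map_mul, map_inv, MulAut.inv_apply_self]
          rw [e]
          exact hXB _ hγi _ (B.inv_mem (h1 x))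
        · have e : x⁻¹ * γ⁻¹ x = γ⁻¹ ((x⁻¹ * γ x)⁻¹) := by
            rw [mul_inv_rev, inv_inv, map_mul, map_inv, MulAut.inv_apply_self]
          rw [e]
          exact hXA _ hγi _ (A.inv_mem (h2 x hx))
        · have h4 := h3 x hx
          calc γ⁻¹ x = γ⁻¹ (γ x) := by rw [h4]
            _ = x := MulAut.inv_apply_self _ γ x }
  have hNp : ∀ γ ∈ N, ∃ k : ℕ, γ ^ (p ^ k) = 1 := by
    rintro γ ⟨hγ, h1, h2, h3⟩
    let D : ℕ → Subgroup H := fun i => match i with
      | 0 => ⊤
      | 1 => B
      | 2 => A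
      | _ => ⊥
    refine Cfsg.Agent.Lib.Helper87.StabChain.exists_pow_eq_one hH γ D ?_ ?_ rfl 3 rfl
    · intro i x hx
      rcases i with _ | _ | _ | i
      · exact Subgroup.mem_top _
      · exact hXB γ hγ x hx
      · exact hXA γ hγ x hx
      · have hx1 : x = 1 := Subgroup.mem_bot.mp hx
        rw [hx1, map_one]
        exact Subgroup.one_mem _
    · intro i x hx
      rcases i with _ | _ | _ | i
      · exact h1 x
      · exact h2 x hx
      · have e : x⁻¹ * γ x = 1 := by rw [h3 x hx, inv_mul_cancel]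
        rw [e]
        exact Subgroup.one_mem _
      · have hx1 : x = 1 := Subgroup.mem_bot.mp hx
        have e : x⁻¹ * γ x = 1 := by rw [hx1, map_one, inv_one, one_mul]
        rw [e]
        exact Subgroup.one_mem _
  have hcomm : ⁅X, X⁆ ≤ N := by
    rw [Subgroup.commutator_le]
    intro a ha b hb
    have hai := X.inv_mem ha
    have hbi := X.inv_mem hb
    have key : ∀ x : H, b (a (a⁻¹ (b⁻¹ x))) = x := by
      intro x
      rw [MulAut.apply_inv_self, MulAut.apply_inv_self]
    have key2 : ∀ x : H, ⁅a, b⁆ x = a (b (a⁻¹ (b⁻¹ x))) := fun x => rfl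
    refine ⟨?_, fun x => ?_, fun x hx => ?_, fun x hx => ?_⟩
    · rw [commutatorElement_def]
      exact X.mul_mem (X.mul_mem (X.mul_mem ha hb) hai) hbi
    · have h := layer_comm (p := p) ⊤ B (by rw [Subgroup.relIndex_top_right]; exact hBidx) a b
        (fun _ _ => Subgroup.mem_top _) (hXB a ha) (fun _ _ => Subgroup.mem_top _) (hXB b hb)
        (a⁻¹ (b⁻¹ x)) (Subgroup.mem_top _)
      rw [key] at h
      rw [key2]
      exact h
    · have h := layer_comm (p := p) B A hABidx a b (hXB a ha) (hXA a ha) (hXB b hb) (hXA b hb)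
        (a⁻¹ (b⁻¹ x)) (hXB _ hai _ (hXB _ hbi _ hx))
      rw [key] at h
      rw [key2]
      exact h
    · have h := layer_comm (p := p) A ⊥ (by rw [Subgroup.relIndex_bot_left]; exact hAcard) a b
        (hXA a ha) (fun y hy => by rw [Subgroup.mem_bot.mp hy, map_one]; exact Subgroup.one_mem _)
        (hXA b hb) (fun y hy => by rw [Subgroup.mem_bot.mp hy, map_one]; exact Subgroup.one_mem _)
        (a⁻¹ (b⁻¹ x)) (hXA _ hai _ (hXA _ hbi _ hx))
      rw [key] at h
      rw [key2]
      exact (inv_mul_eq_one.mp (Subgroup.mem_bot.mp h)).symm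
  intro g
  have hg : ((g : ↥X) : MulAut H) ∈ ⁅X, X⁆ := by
    have h0 : (commutator ↥X).map X.subtype = ⁅X, X⁆ := by
      rw [commutator_def, Subgroup.map_commutator, ← MonoidHom.range_eq_map,
        Subgroup.range_subtype]
    rw [← h0]
    exact ⟨g, g.2, rfl⟩
  obtain ⟨k, hk⟩ := hNp _ (hcomm hg)
  refine ⟨k, ?_⟩
  apply Subtype.ext
  apply Subtype.ext
  exact hk

/-- Basic facts on a nonabelian group of order `p ^ 3`. -/
theorem nonabelian_cube [Finite H] {p : ℕ} [Fact p.Prime] (hcard : Nat.card H = p ^ 3)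
    (hna : ∃ a b : H, a * b ≠ b * a) :
    Nat.card (Subgroup.center H) = p ∧ commutator H = Subgroup.center H ∧
      ∀ x : H, x ^ p ∈ Subgroup.center H := by
  have hp : p.Prime := Fact.out
  have hP : IsPGroup p H := IsPGroup.of_card hcard
  obtain ⟨a₀, b₀, hab⟩ := hna
  have hnt : Nontrivial H := by
    rw [← Finite.one_lt_card_iff_nontrivial, hcard]
    exact Nat.one_lt_pow (by norm_num) hp.one_lt
  have hZne : Subgroup.center H ≠ ⊥ := (hP.bot_lt_center).ne'
  have hdvd : Nat.card (Subgroup.center H) ∣ p ^ 3 := by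
    rw [← hcard]; exact Subgroup.card_subgroup_dvd_card _
  obtain ⟨k, hk, hZk⟩ := (Nat.dvd_prime_pow hp).mp hdvd
  have hmul := Subgroup.card_mul_index (Subgroup.center H)
  rw [hcard, hZk, Subgroup.index_eq_card] at hmul
  have hppos : 0 < p := hp.pos
  have hnotcyc : ¬ IsCyclic (H ⧸ Subgroup.center H) := by
    intro hc
    have := commutative_of_cyclic_center_quotient (QuotientGroup.mk' (Subgroup.center H))
      (by rw [QuotientGroup.ker_mk'])
    exact hab (this a₀ b₀)
  have hk1 : k = 1 := by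
    interval_cases k
    · rw [pow_zero] at hZk
      exact absurd (Subgroup.card_eq_one.mp hZk) hZne
    · rfl
    · exfalso
      have hq : Nat.card (H ⧸ Subgroup.center H) = p := by
        have h3 : p ^ 2 * Nat.card (H ⧸ Subgroup.center H) = p ^ 2 * p := by
          rw [hmul]; ring
        exact Nat.eq_of_mul_eq_mul_left (pow_pos hppos 2) h3
      exact hnotcyc (isCyclic_of_prime_card hq)
    · exfalso
      have htop : Subgroup.center H = ⊤ :=
        Subgroup.eq_top_of_card_eq _ (by rw [hZk, hcard])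
      have ha : a₀ ∈ Subgroup.center H := by rw [htop]; exact Subgroup.mem_top _
      exact hab ((Subgroup.mem_center_iff.mp ha b₀).symm)
  subst hk1
  rw [pow_one] at hZk hmul
  have hq : Nat.card (H ⧸ Subgroup.center H) = p ^ 2 := by
    have h3 : p * Nat.card (H ⧸ Subgroup.center H) = p * p ^ 2 := by
      rw [hmul]; ring
    exact Nat.eq_of_mul_eq_mul_left hppos h3
  have hqc : ∀ u v : H ⧸ Subgroup.center H, u * v = v * u :=
    IsPGroup.commutative_of_card_eq_prime_sq hq
  have hcle : commutator H ≤ Subgroup.center H := by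
    rw [commutator_def, Subgroup.commutator_le]
    intro x _ y _
    apply (QuotientGroup.eq_one_iff _).mp
    have e : ((⁅x, y⁆ : H) : H ⧸ Subgroup.center H) =
        ⁅(x : H ⧸ Subgroup.center H), (y : H ⧸ Subgroup.center H)⁆ := rfl
    rw [e, commutatorElement_eq_one_iff_mul_comm]
    exact hqc _ _
  have hcne : commutator H ≠ ⊥ := by
    intro h
    apply hab
    rw [← commutatorElement_eq_one_iff_mul_comm]
    have h1 : ⁅a₀, b₀⁆ ∈ commutator H := by
      rw [commutator_def]
      exact Subgroup.commutator_mem_commutator (Subgroup.mem_top _) (Subgroup.mem_top _)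
    rw [h] at h1
    exact Subgroup.mem_bot.mp h1
  have hccard : Nat.card (commutator H) = p := by
    have h1 : Nat.card (commutator H) ∣ p := by
      rw [← hZk]; exact Subgroup.card_dvd_of_le hcle
    rcases (Nat.dvd_prime hp).mp h1 with h2 | h2
    · exact absurd (Subgroup.card_eq_one.mp h2) hcne
    · exact h2
  refine ⟨hZk, Subgroup.eq_of_le_of_card_ge hcle (by rw [hZk, hccard]), fun x => ?_⟩
  apply (QuotientGroup.eq_one_iff _).mp
  have e : ((x ^ p : H) : H ⧸ Subgroup.center H) = (x : H ⧸ Subgroup.center H) ^ p := rfl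
  rw [e, ← orderOf_dvd_iff_pow_eq_one]
  have h1 : orderOf (x : H ⧸ Subgroup.center H) ∣ p ^ 2 := by
    rw [← hq]; exact orderOf_dvd_natCard _
  obtain ⟨j, hj, hoj⟩ := (Nat.dvd_prime_pow hp).mp h1
  interval_cases j
  · rw [hoj, pow_zero]; exact one_dvd _
  · rw [hoj, pow_one]
  · exfalso
    exact hnotcyc (isCyclic_of_orderOf_eq_card _ (by rw [hoj, hq]))

/-- Case analysis for groups of order `p ^ 3`. -/
theorem cube_cases [Finite H] {p : ℕ} [Fact p.Prime] (hcard : Nat.card H = p ^ 3) :
    ((∀ a b : H, a * b = b * a) ∧ ∀ x : H, x ^ p = 1) ∨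
    ((∃ a b : H, a * b ≠ b * a) ∧ ∀ x : H, x ^ p = 1) ∨
    (p = 2 ∧ ∃ a b : H, a * b ≠ b * a) ∨
    ∃ B A : Subgroup H, A ≤ B ∧ Nat.card B = p ^ 2 ∧ Nat.card A = p ∧
      (∀ α : MulAut H, ∀ x ∈ B, α x ∈ B) ∧ (∀ α : MulAut H, ∀ x ∈ A, α x ∈ A) := by
  have hp : p.Prime := Fact.out
  have hppos : 0 < p := hp.pos
  by_cases hexp : ∀ x : H, x ^ p = 1
  · by_cases hc : ∀ a b : H, a * b = b * a
    · exact Or.inl ⟨hc, hexp⟩
    · push Not at hc
      exact Or.inr (Or.inl ⟨hc, hexp⟩)
  push Not at hexp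
  obtain ⟨x₀, hx₀⟩ := hexp
  by_cases hc : ∀ a b : H, a * b = b * a
  · -- abelian, not elementary abelian
    right; right; right
    let f : H →* H :=
      { toFun := fun x => x ^ p
        map_one' := one_pow p
        map_mul' := fun x y => Commute.mul_pow (hc x y) p }
    have hf : ∀ x, f x = x ^ p := fun x => rfl
    have hkerinv : ∀ α : MulAut H, ∀ x ∈ f.ker, α x ∈ f.ker := by
      intro α x hx
      rw [MonoidHom.mem_ker, hf] at hx ⊢
      rw [← map_pow, hx, map_one]
    have hraninv : ∀ α : MulAut H, ∀ x ∈ f.range, α x ∈ f.range := by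
      rintro α _ ⟨y, rfl⟩
      exact ⟨α y, by rw [hf, hf, map_pow]⟩
    have hmul := Subgroup.card_mul_index f.ker
    rw [Subgroup.index_ker, hcard] at hmul
    have hkne : f.ker ≠ ⊤ := by
      intro h
      have h1 : x₀ ∈ f.ker := by rw [h]; exact Subgroup.mem_top _
      exact hx₀ (MonoidHom.mem_ker.mp h1)
    have hkne' : f.ker ≠ ⊥ := by
      intro h
      obtain ⟨y, hy⟩ := exists_prime_orderOf_dvd_card' (G := H) p
        (by rw [hcard]; exact dvd_pow_self p (by norm_num))
      have h1 : y ∈ f.ker := by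
        rw [MonoidHom.mem_ker, hf, ← hy]; exact pow_orderOf_eq_one y
      rw [h, Subgroup.mem_bot] at h1
      rw [h1, orderOf_one] at hy
      exact hp.one_lt.ne hy
    have hdvd : Nat.card f.ker ∣ p ^ 3 := by
      rw [← hcard]; exact Subgroup.card_subgroup_dvd_card _
    obtain ⟨k, hk, hkk⟩ := (Nat.dvd_prime_pow hp).mp hdvd
    rw [hkk] at hmul
    interval_cases k
    · rw [pow_zero] at hkk
      exact absurd (Subgroup.card_eq_one.mp hkk) hkne'
    · -- ker of order p, range of order p^2
      rw [pow_one] at hkk hmul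
      have hr : Nat.card f.range = p ^ 2 := by
        have h3 : p * Nat.card f.range = p * p ^ 2 := by rw [hmul]; ring
        exact Nat.eq_of_mul_eq_mul_left hppos h3
      refine ⟨f.range, f.ker, ?_, hr, hkk, hraninv, hkerinv⟩
      obtain ⟨y, hy⟩ := exists_prime_orderOf_dvd_card' (G := ↥f.range) p
        (by rw [hr]; exact dvd_pow_self p (by norm_num))
      have hy' : orderOf (y : H) = p := by rw [Subgroup.orderOf_coe]; exact hy
      have h1 : (y : H) ∈ f.ker := by
        rw [MonoidHom.mem_ker, hf, ← hy']; exact pow_orderOf_eq_one _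
      have h2 : Subgroup.zpowers (y : H) ≤ f.ker := by
        rw [Subgroup.zpowers_le]; exact h1
      have h3 : Subgroup.zpowers (y : H) = f.ker :=
        Subgroup.eq_of_le_of_card_ge h2 (by rw [Nat.card_zpowers, hy', hkk])
      rw [← h3, Subgroup.zpowers_le]
      exact y.2
    · -- ker of order p^2, range of order p
      have hr : Nat.card f.range = p := by
        have h3 : p ^ 2 * Nat.card f.range = p ^ 2 * p := by rw [hmul]; ring
        exact Nat.eq_of_mul_eq_mul_left (pow_pos hppos 2) h3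
      refine ⟨f.ker, f.range, ?_, hkk, hr, hkerinv, hraninv⟩
      intro z hz
      rw [MonoidHom.mem_ker, hf]
      have h1 : (⟨z, hz⟩ : ↥f.range) ^ p = 1 := by
        rw [← hr]; exact pow_card_eq_one'
      exact congrArg (fun u : ↥f.range => (u : H)) h1
    · exact absurd (Subgroup.eq_top_of_card_eq _ (by rw [hkk, hcard])) hkne
  · push Not at hc
    by_cases h2 : p = 2
    · exact Or.inr (Or.inr (Or.inl ⟨h2, hc⟩))
    right; right; right
    obtain ⟨hZ, hcomm, hpow⟩ := nonabelian_cube hcard hc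
    have hZpow : ∀ z ∈ Subgroup.center H, z ^ p = 1 := by
      intro z hz
      have h1 : (⟨z, hz⟩ : ↥(Subgroup.center H)) ^ p = 1 := by
        rw [← hZ]; exact pow_card_eq_one'
      exact congrArg (fun u : ↥(Subgroup.center H) => (u : H)) h1
    have hchoose : p ∣ p.choose 2 :=
      hp.dvd_choose_self (by norm_num) (lt_of_le_of_ne hp.two_le (Ne.symm h2))
    let f : H →* H :=
      { toFun := fun x => x ^ p
        map_one' := one_pow p
        map_mul' := fun x y => by
          have hcZ : y⁻¹ * x⁻¹ * y * x ∈ Subgroup.center H := by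
            rw [← hcomm, commutator_def]
            have e : y⁻¹ * x⁻¹ * y * x = ⁅y⁻¹, x⁻¹⁆ := by
              rw [commutatorElement_def, inv_inv, inv_inv]
            rw [e]
            exact Subgroup.commutator_mem_commutator (Subgroup.mem_top _) (Subgroup.mem_top _)
          have hcen := Subgroup.mem_center_iff.mp hcZ
          have h1 := Cfsg.Agent.Lib.Helper24.Coprime.mul_pow_of_central (x := x) (y := y)
            (c := y⁻¹ * x⁻¹ * y * x) (by group) (hcen x).symm (hcen y).symm p
          obtain ⟨m, hm⟩ := hchoose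
          show (x * y) ^ p = x ^ p * y ^ p
          rw [h1, hm, pow_mul, hZpow _ hcZ, one_pow, mul_one] }
    have hf : ∀ x, f x = x ^ p := fun x => rfl
    have hkerinv : ∀ α : MulAut H, ∀ x ∈ f.ker, α x ∈ f.ker := by
      intro α x hx
      rw [MonoidHom.mem_ker, hf] at hx ⊢
      rw [← map_pow, hx, map_one]
    have hZinv : ∀ α : MulAut H, ∀ x ∈ Subgroup.center H, α x ∈ Subgroup.center H := by
      intro α x hx
      rw [Subgroup.mem_center_iff] at hx ⊢
      intro g
      have h1 := hx (α⁻¹ g)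
      have h3 := congrArg α h1
      rw [map_mul, map_mul, MulAut.apply_inv_self] at h3
      exact h3
    have hmul := Subgroup.card_mul_index f.ker
    rw [Subgroup.index_ker, hcard] at hmul
    have hrle : f.range ≤ Subgroup.center H := by
      rintro _ ⟨y, rfl⟩
      exact hpow y
    have hrne : f.range ≠ ⊥ := by
      intro h
      have h1 : f x₀ ∈ f.range := ⟨x₀, rfl⟩
      rw [h, Subgroup.mem_bot] at h1
      exact hx₀ h1
    have hr : Nat.card f.range = p := by
      have h1 : Nat.card f.range ∣ p := by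
        rw [← hZ]; exact Subgroup.card_dvd_of_le hrle
      rcases (Nat.dvd_prime hp).mp h1 with h3 | h3
      · exact absurd (Subgroup.card_eq_one.mp h3) hrne
      · exact h3
    rw [hr] at hmul
    have hk : Nat.card f.ker = p ^ 2 := by
      have h3 : Nat.card f.ker * p = p ^ 2 * p := by rw [hmul]; ring
      exact Nat.eq_of_mul_eq_mul_right hppos h3
    refine ⟨f.ker, Subgroup.center H, ?_, hk, hZ, hkerinv, hZinv⟩
    intro z hz
    rw [MonoidHom.mem_ker, hf]
    exact hZpow z hz

end Cfsg.Agent.H84.PCube
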