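import Mathlib
import Cfsg.Agent.Lib.Helper18.Tri

set_option autoImplicit false

/-!
# Shared definitions for S5163 (the defining-characteristic fusion system of `PSL_n` is simple)

* `SimpleData p S Z X ℛ`: abstract group-theoretic data on a Sylow `p`-subgroup `S` of a finite
  group `G` which makes the fusion system of `G` on `S` simple (through the landed criterion
  S5160): `S` is generated by a set `X` of elements all conjugate to every nontrivial element of
  a subgroup `Z` meeting every nontrivial normal subgroup of `S`, and `N_G(S)` is generated by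
  its elements lying in `O^{p'}(N_G(R))` for abelian self-centralizing subgroups `R ⊴ S` on whose
  nontrivial elements `N_G(R)` is transitive.
* the subgroups of `SL_n(K)` and `PSL_n(K)` used to produce such data: the upper unitriangular
  group `Uni`, the "first row" group `V1`, the "last column" group `V2`, the root group
  `Z0 = V1 ⊓ V2`, and their images `Ubar`, `R1`, `R2`, `Zbar` in `PSL_n(K)`; `Xset` is the set
  of images of the nontrivial upper root elements.
-/

namespace Cfsg.Agent.H84.PslDefs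

/-- Abstract data on `S ≤ G` making the fusion system of `G` on `S` simple. -/
structure SimpleData {G : Type*} [Group G] (p : ℕ) (S Z : Subgroup G) (X : Set G)
    (ℛ : Set (Subgroup G)) : Prop where
  sylow : ∃ P : Sylow p G, (P : Subgroup G) = S
  ne_bot : S ≠ ⊥
  gen : Subgroup.closure X = S
  meets : ∀ T : Subgroup G, T ≤ S → T ≠ ⊥ → (∀ s ∈ S, ∀ t ∈ T, s * t * s⁻¹ ∈ T) →
    ∃ z ∈ T, z ∈ Z ∧ z ≠ 1
  conj : ∀ z ∈ Z, z ≠ 1 → ∀ x ∈ X, ∃ g : G, g * z * g⁻¹ = x
  rad_le : ∀ R ∈ ℛ, R ≤ S
  rad_normal : ∀ R ∈ ℛ, ∀ s ∈ S, ∀ r ∈ R, s * r * s⁻¹ ∈ R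
  rad_comm : ∀ R ∈ ℛ, ∀ a ∈ R, ∀ b ∈ R, a * b = b * a
  rad_cent : ∀ R ∈ ℛ, ∀ g : G, (∀ r ∈ R, g * r = r * g) → g ∈ R
  rad_trans : ∀ R ∈ ℛ, ∀ a ∈ R, ∀ b ∈ R, a ≠ 1 → b ≠ 1 →
    ∃ g ∈ Subgroup.normalizer (R : Set G), g * a * g⁻¹ = b
  norm_gen : Subgroup.normalizer (S : Set G) ≤ Subgroup.closure
    {h : G | h ∈ Subgroup.normalizer (S : Set G) ∧ ∃ R ∈ ℛ,
      h ∈ Subgroup.closure {k : G | k ∈ Subgroup.normalizer (R : Set G) ∧
        ∃ e : ℕ, orderOf k = p ^ e}}

section Mat

open Matrix

variable (n : ℕ) (K : Type*) [Field K]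

/-- level function of the upper unitriangular group: nonzero off-diagonal entries only at
positions `(i, j)` with `i < j` -/
def lamU : Fin n → ℤ := fun i => -(i.val : ℤ)

/-- level function of the "first row" group: nonzero off-diagonal entries only in row `0` -/
def lamR1 : Fin n → ℤ := fun i => if i.val = 0 then 1 else 0

/-- level function of the "last column" group: nonzero off-diagonal entries only in column
`n - 1` -/
def lamR2 : Fin n → ℤ := fun i => if i.val + 1 = n then 0 else 1

/-- the subgroup of `SL_n(K)` of matrices unitriangular for the level function `lam` -/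
def sub (lam : Fin n → ℤ) : Subgroup (SpecialLinearGroup (Fin n) K) :=
  (Cfsg.Agent.Lib.Helper18.Tri.utriSubgroup lam K).comap SpecialLinearGroup.toGL

theorem mem_sub (lam : Fin n → ℤ) (g : SpecialLinearGroup (Fin n) K) :
    g ∈ sub n K lam ↔ (∀ i j : Fin n, i ≠ j → lam i ≤ lam j → g i j = 0) ∧ ∀ i, g i i = 1 :=
  Iff.rfl

/-- upper unitriangular matrices -/
def Uni : Subgroup (SpecialLinearGroup (Fin n) K) := sub n K (lamU n)

/-- identity plus first row -/
def V1 : Subgroup (SpecialLinearGroup (Fin n) K) := sub n K (lamR1 n)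

/-- identity plus last column -/
def V2 : Subgroup (SpecialLinearGroup (Fin n) K) := sub n K (lamR2 n)

/-- the root group of the highest root: identity plus the entry `(0, n - 1)` -/
def Z0 : Subgroup (SpecialLinearGroup (Fin n) K) := V1 n K ⊓ V2 n K

theorem mem_Uni (g : SpecialLinearGroup (Fin n) K) :
    g ∈ Uni n K ↔ (∀ i j : Fin n, j < i → g i j = 0) ∧ ∀ i, g i i = 1 := by
  rw [Uni, mem_sub]
  refine and_congr ⟨fun h i j hji => h i j (ne_of_gt hji) ?_, fun h i j hne hle => h i j ?_⟩
    Iff.rfl
  · have : j.val < i.val := hji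
    simp only [lamU]; omega
  · simp only [lamU] at hle
    have : i.val ≠ j.val := fun h => hne (Fin.ext h)
    show j.val < i.val
    omega

theorem mem_V1 (g : SpecialLinearGroup (Fin n) K) :
    g ∈ V1 n K ↔ (∀ i j : Fin n, i ≠ j → i.val ≠ 0 → g i j = 0) ∧ ∀ i, g i i = 1 := by
  rw [V1, mem_sub]
  refine and_congr ⟨fun h i j hne hi => h i j hne ?_, fun h i j hne hle => ?_⟩ Iff.rfl
  · simp only [lamR1, if_neg hi]; split_ifs <;> norm_num
  · by_cases hi : i.val = 0
    · have hj : j.val ≠ 0 := fun hj => hne (Fin.ext (hi.trans hj.symm))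
      simp only [lamR1, if_pos hi, if_neg hj] at hle
      norm_num at hle
    · exact h i j hne hi

theorem mem_V2 (g : SpecialLinearGroup (Fin n) K) :
    g ∈ V2 n K ↔ (∀ i j : Fin n, i ≠ j → j.val + 1 ≠ n → g i j = 0) ∧ ∀ i, g i i = 1 := by
  rw [V2, mem_sub]
  refine and_congr ⟨fun h i j hne hj => h i j hne ?_, fun h i j hne hle => ?_⟩ Iff.rfl
  · simp only [lamR2, if_neg hj]; split_ifs <;> norm_num
  · by_cases hj : j.val + 1 = n
    · have hi : i.val + 1 ≠ n := fun hi => hne (Fin.ext (by omega))
      simp only [lamR2, if_pos hj, if_neg hi] at hle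
      norm_num at hle
    · exact h i j hne hj

/-- the quotient map `SL_n(K) → PSL_n(K)` -/
def proj : SpecialLinearGroup (Fin n) K →* ProjectiveSpecialLinearGroup (Fin n) K :=
  QuotientGroup.mk' (Subgroup.center (SpecialLinearGroup (Fin n) K))

theorem proj_surjective : Function.Surjective (proj n K) :=
  QuotientGroup.mk'_surjective _

theorem ker_proj : (proj n K).ker = Subgroup.center (SpecialLinearGroup (Fin n) K) :=
  QuotientGroup.ker_mk' _

/-- image of the upper unitriangular group in `PSL_n(K)` -/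
def Ubar : Subgroup (ProjectiveSpecialLinearGroup (Fin n) K) := (Uni n K).map (proj n K)

/-- image of `V1` in `PSL_n(K)` -/
def R1 : Subgroup (ProjectiveSpecialLinearGroup (Fin n) K) := (V1 n K).map (proj n K)

/-- image of `V2` in `PSL_n(K)` -/
def R2 : Subgroup (ProjectiveSpecialLinearGroup (Fin n) K) := (V2 n K).map (proj n K)

/-- image of the highest root group in `PSL_n(K)` -/
def Zbar : Subgroup (ProjectiveSpecialLinearGroup (Fin n) K) := (Z0 n K).map (proj n K)

/-- images of the nontrivial upper root elements `1 + c E_{ij}`, `i < j`, `c ≠ 0` -/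
def Xset : Set (ProjectiveSpecialLinearGroup (Fin n) K) :=
  {x | ∃ (i j : Fin n) (h : i < j) (c : K), c ≠ 0 ∧
    x = proj n K (SpecialLinearGroup.transvection (ne_of_lt h) c)}

end Mat

end Cfsg.Agent.H84.PslDefs
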