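import Mathlib
import Cfsg.Prelude.Def_FusionComponents
import Cfsg.Prelude.Def_CaseTheorems
import Cfsg.Agent.H84.PslDefs

set_option autoImplicit false

/-!
# Definitions and piece statements for S5318 (the 2-fusion system of `PSL_3(F)`, `F` odd, is
simple); each piece is `theorem main : Psl3Stmt.X`
-/

namespace Cfsg.Agent.H84.Psl3Stmt

open Cfsg.Agent.H84.PslDefs Matrix

universe u

/-! ## definitions -/

/-- the monomial involution `[[0,1,0],[1,0,0],[0,0,-1]]` of `SL_3(F)` -/
def w0 (F : Type u) [Field F] : SpecialLinearGroup (Fin 3) F :=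
  ⟨!![0, 1, 0; 1, 0, 0; 0, 0, -1], by simp [Matrix.det_fin_three]⟩

/-- the subgroup of `SL_3(F)` generated by the diagonal matrices of `2`-power order and `w0` -/
def S0 (F : Type u) [Field F] : Subgroup (SpecialLinearGroup (Fin 3) F) :=
  Subgroup.closure ({d : SpecialLinearGroup (Fin 3) F |
    (∀ i j : Fin 3, i ≠ j → d i j = 0) ∧ ∃ k : ℕ, d ^ 2 ^ k = 1} ∪ {w0 F})

/-- its image in `PSL_3(F)` -/
def S0bar (F : Type u) [Field F] : Subgroup (ProjectiveSpecialLinearGroup (Fin 3) F) :=
  (S0 F).map (proj 3 F)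

/-! ## abstract pieces -/

/-- [QA] a quasi-dihedral group has no nontrivial automorphism of odd order -/
def QdAut : Prop :=
  ∀ (S : Type u) [Group S], Cfsg.IsQuasiDihedral S → ∀ α : MulAut S, Odd (orderOf α) → α = 1

/-- [WA] a wreathed group has no nontrivial automorphism of odd order -/
def WrAut : Prop :=
  ∀ (S : Type u) [Group S], Cfsg.IsWreathed S → ∀ α : MulAut S, Odd (orderOf α) → α = 1

/-- [NS] if a Sylow `2`-subgroup `S` has no nontrivial automorphism of odd order then
`N_G(S) = S C_G(S)` -/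
def NormSylow : Prop :=
  ∀ {G : Type u} [Group G] [Finite G] (S : Sylow 2 G),
    (∀ α : MulAut ↥(S : Subgroup G), Odd (orderOf α) → α = 1) →
    ∀ g ∈ Subgroup.normalizer ((S : Subgroup G) : Set G), ∃ s ∈ (S : Subgroup G),
      ∀ x ∈ (S : Subgroup G), g * x * g⁻¹ = s * x * s⁻¹

/-- [QS] a nontrivial subgroup of a quasi-dihedral subgroup `S` containing, with one element of
order `2` (resp. `4`), all elements of `S` of order `2` (resp. `4`), is `S` -/
def QdClosed : Prop :=
  ∀ {G : Type u} [Group G] (S T : Subgroup G), Cfsg.IsQuasiDihedral ↥S → T ≤ S → T ≠ ⊥ →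
    (∀ t ∈ T, ∀ s ∈ S, orderOf t = 2 → orderOf s = 2 → s ∈ T) →
    (∀ t ∈ T, ∀ s ∈ S, orderOf t = 4 → orderOf s = 4 → s ∈ T) → T = S

/-- [M3c] a homomorphism `H → G` whose kernel has exponent dividing `3`, between finite groups
whose orders have the same `2`-part, identifies the Sylow `2`-subgroups up to isomorphism -/
def SylowIso : Prop :=
  ∀ {G H : Type u} [Group G] [Group H] [Finite G] [Finite H] (ι : H →* G),
    (∀ h : H, ι h = 1 → h ^ 3 = 1) →
    (Nat.card G).factorization 2 = (Nat.card H).factorization 2 →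
    ∀ S : Sylow 2 G, ∃ P : Sylow 2 H,
      Nonempty (↥(S : Subgroup G) ≃* ↥(P : Subgroup H))

/-- [M3d] being quasi-dihedral or wreathed is invariant under isomorphism -/
def TypeIso : Prop :=
  ∀ {S P : Type u} [Group S] [Group P], Nonempty (S ≃* P) →
    (Cfsg.IsQuasiDihedral P → Cfsg.IsQuasiDihedral S) ∧ (Cfsg.IsWreathed P → Cfsg.IsWreathed S)

/-! ## matrix pieces -/

/-- [M1] all involutions of `PSL_3(F)` are conjugate (`F` of odd order) -/
def InvConj : Prop :=
  ∀ (F : Type u) [Field F] [Fintype F] (_ : Fintype.card F % 2 = 1)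
    (s t : ProjectiveSpecialLinearGroup (Fin 3) F), orderOf s = 2 → orderOf t = 2 →
    ∃ g : ProjectiveSpecialLinearGroup (Fin 3) F, g * s * g⁻¹ = t

/-- [M2] for `|F| ≡ 3 (mod 4)` all elements of order `4` of `PSL_3(F)` are conjugate -/
def FourConj : Prop :=
  ∀ (F : Type u) [Field F] [Fintype F] (_ : Fintype.card F % 4 = 3)
    (s t : ProjectiveSpecialLinearGroup (Fin 3) F), orderOf s = 4 → orderOf t = 4 →
    ∃ g : ProjectiveSpecialLinearGroup (Fin 3) F, g * s * g⁻¹ = t

/-- [M3a] `PSL_3(F)` and `GL_2(F)` have orders with the same `2`-part (`F` of odd order) -/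
def CardVal : Prop :=
  ∀ (F : Type u) [Field F] [Fintype F] (_ : Fintype.card F % 2 = 1),
    (Nat.card (ProjectiveSpecialLinearGroup (Fin 3) F)).factorization 2 =
      (Nat.card (GL (Fin 2) F)).factorization 2

/-- [M3b] the homomorphism `GL_2(F) → PSL_3(F)`, `A ↦ diag(A, (det A)⁻¹)`, has kernel of
exponent dividing `3` -/
def Embed : Prop :=
  ∀ (F : Type u) [Field F] [Fintype F],
    ∃ ι : GL (Fin 2) F →* ProjectiveSpecialLinearGroup (Fin 3) F, ∀ h : GL (Fin 2) F,
      ι h = 1 → h ^ 3 = 1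

/-- [W1] for `|F| ≡ 1 (mod 4)` the image of the monomial `2`-group is a Sylow `2`-subgroup -/
def SylowS0 : Prop :=
  ∀ (F : Type u) [Field F] [Fintype F] (_ : Fintype.card F % 4 = 1),
    ∃ P : Sylow 2 (ProjectiveSpecialLinearGroup (Fin 3) F),
      (P : Subgroup (ProjectiveSpecialLinearGroup (Fin 3) F)) = S0bar F

/-- [W2] given that all involutions are conjugate, a nontrivial subgroup of `S0bar` closed under
conjugation inside `S0bar` is `S0bar` (`F` of odd order) -/
def S0Closed : Prop :=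
  ∀ (F : Type u) [Field F] [Fintype F] (_ : Fintype.card F % 2 = 1)
    (_ : ∀ s t : ProjectiveSpecialLinearGroup (Fin 3) F, orderOf s = 2 → orderOf t = 2 →
      ∃ g : ProjectiveSpecialLinearGroup (Fin 3) F, g * s * g⁻¹ = t)
    (T : Subgroup (ProjectiveSpecialLinearGroup (Fin 3) F)) (_ : T ≤ S0bar F) (_ : T ≠ ⊥)
    (_ : ∀ t ∈ T, ∀ g : ProjectiveSpecialLinearGroup (Fin 3) F,
      g * t * g⁻¹ ∈ S0bar F → g * t * g⁻¹ ∈ T),
    T = S0bar F

end Cfsg.Agent.H84.Psl3Stmt
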