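import Mathlib
import Cfsg.Agent.H84.Psl3Stmt

set_option autoImplicit false

/-!
# Two more piece statements for S5318 (orders)
-/

namespace Cfsg.Agent.H84.Psl3Stmt

open Cfsg.Agent.H84.PslDefs Matrix

universe u

/-- [W1a] the `2`-part of `|GL_2(F)|` for `|F| ≡ 1 (mod 4)` -/
def CardGL2 : Prop :=
  ∀ (F : Type u) [Field F] [Fintype F] (_ : Fintype.card F % 4 = 1),
    (Nat.card (GL (Fin 2) F)).factorization 2 = 2 * (Fintype.card F - 1).factorization 2 + 1

/-- [W1b] the order of the image in `PSL_3(F)` of the monomial `2`-group (`F` of odd order) -/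
def CardS0 : Prop :=
  ∀ (F : Type u) [Field F] [Fintype F] (_ : Fintype.card F % 2 = 1),
    Nat.card ↥(S0bar F) = 2 ^ (2 * (Fintype.card F - 1).factorization 2 + 1)

end Cfsg.Agent.H84.Psl3Stmt
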