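import Mathlib
import Cfsg.Agent.H84.Psl3Stmt
import Cfsg.Agent.H84.Psl3Stmt2

set_option autoImplicit false

/-!
# S5318, piece W1b: the order of the monomial `2`-subgroup of `PSL_3(F)`
-/

namespace Cfsg.Agent.H84.Psl3W1b

open Matrix Cfsg.Agent.H84.Psl3Stmt Cfsg.Agent.H84.PslDefs

universe u

variable {F : Type u} [Field F]

/-- `diag(a, b, (ab)⁻¹)` -/
def dg (a b : Fˣ) : Matrix.SpecialLinearGroup (Fin 3) F :=
  ⟨Matrix.diagonal ![(a : F), (b : F), (((a * b)⁻¹ : Fˣ) : F)], by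
    rw [Matrix.det_diagonal, Fin.prod_univ_three]
    simp only [Matrix.cons_val_zero, Matrix.cons_val_one, Matrix.cons_val_two, Matrix.head_cons,
      Matrix.tail_cons]
    rw [← Units.val_mul, ← Units.val_mul, mul_inv_cancel, Units.val_one]⟩

theorem dg_val (a b : Fˣ) : ((dg a b : Matrix.SpecialLinearGroup (Fin 3) F) : Matrix (Fin 3) (Fin 3) F) =
    Matrix.diagonal ![(a : F), (b : F), (((a * b)⁻¹ : Fˣ) : F)] := rfl

theorem dg_mul (a b c d : Fˣ) : (dg a b * dg c d : Matrix.SpecialLinearGroup (Fin 3) F) = dg (a * c) (b * d) := by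
  apply Subtype.ext
  rw [Matrix.SpecialLinearGroup.coe_mul, dg_val, dg_val, dg_val, Matrix.diagonal_mul_diagonal]
  congr 1
  funext i
  fin_cases i
  · simp
  · simp
  · simp [mul_comm, mul_left_comm, mul_assoc]

theorem dg_val' (a b : Fˣ) : ((dg a b : Matrix.SpecialLinearGroup (Fin 3) F) : Matrix (Fin 3) (Fin 3) F) =
    !![(a : F), 0, 0; 0, (b : F), 0; 0, 0, (((a * b)⁻¹ : Fˣ) : F)] := by
  rw [dg_val]
  ext i j
  fin_cases i <;> fin_cases j <;> simp

theorem dg_one : (dg 1 1 : Matrix.SpecialLinearGroup (Fin 3) F) = 1 := by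
  apply Subtype.ext
  rw [dg_val]
  ext i j
  fin_cases i <;> fin_cases j <;> simp

/-- the diagonal embedding as a homomorphism -/
def δ : Fˣ × Fˣ →* Matrix.SpecialLinearGroup (Fin 3) F where
  toFun x := dg x.1 x.2
  map_one' := dg_one
  map_mul' x y := (dg_mul x.1 x.2 y.1 y.2).symm

theorem δ_apply (x : Fˣ × Fˣ) : (δ x : Matrix.SpecialLinearGroup (Fin 3) F) = dg x.1 x.2 := rfl

theorem dg_inj {a b c d : Fˣ} (h : (dg a b : Matrix.SpecialLinearGroup (Fin 3) F) = dg c d) : a = c ∧ b = d := by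
  have h0 := congrArg (fun M : Matrix.SpecialLinearGroup (Fin 3) F => (M : Matrix (Fin 3) (Fin 3) F) 0 0) h
  have h1 := congrArg (fun M : Matrix.SpecialLinearGroup (Fin 3) F => (M : Matrix (Fin 3) (Fin 3) F) 1 1) h
  simp only [dg_val] at h0 h1
  simp at h0 h1
  exact ⟨Units.ext h0, Units.ext h1⟩

theorem δ_injective : Function.Injective (δ : Fˣ × Fˣ →* Matrix.SpecialLinearGroup (Fin 3) F) := by
  rintro ⟨a, b⟩ ⟨c, d⟩ h
  obtain ⟨h1, h2⟩ := dg_inj h
  exact Prod.ext h1 h2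

theorem w0_val : ((w0 F : Matrix.SpecialLinearGroup (Fin 3) F) : Matrix (Fin 3) (Fin 3) F) =
    !![0, 1, 0; 1, 0, 0; 0, 0, -1] := rfl

theorem w0_mul_w0 : (w0 F * w0 F : Matrix.SpecialLinearGroup (Fin 3) F) = 1 := by
  apply Subtype.ext
  rw [Matrix.SpecialLinearGroup.coe_mul, w0_val]
  ext i j
  fin_cases i <;> fin_cases j <;> simp [Matrix.mul_apply, Fin.sum_univ_three]

theorem w0_conj (a b : Fˣ) : (w0 F * dg a b * w0 F : Matrix.SpecialLinearGroup (Fin 3) F) = dg b a := by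
  apply Subtype.ext
  rw [Matrix.SpecialLinearGroup.coe_mul, Matrix.SpecialLinearGroup.coe_mul, w0_val, dg_val', dg_val']
  ext i j
  fin_cases i <;> fin_cases j <;> simp [Matrix.mul_apply, Fin.sum_univ_three, mul_comm]

theorem dg_mul_w0_ne (a b c d : Fˣ) : (dg a b * w0 F : Matrix.SpecialLinearGroup (Fin 3) F) ≠ dg c d := by
  intro h
  have h0 := congrArg (fun M : Matrix.SpecialLinearGroup (Fin 3) F => (M : Matrix (Fin 3) (Fin 3) F) 0 0) h
  simp only [Matrix.SpecialLinearGroup.coe_mul, w0_val, dg_val'] at h0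
  simp [Matrix.mul_apply, Fin.sum_univ_three] at h0
  exact c.ne_zero h0.symm

/-- the `2`-power-order units are exactly the elements of a Sylow `2`-subgroup of `Fˣ` -/
theorem mem_sylow_iff [Finite F] (P : Sylow 2 Fˣ) (a : Fˣ) :
    a ∈ (P : Subgroup Fˣ) ↔ ∃ k : ℕ, a ^ 2 ^ k = 1 := by
  haveI : Fact (Nat.Prime 2) := ⟨Nat.prime_two⟩
  constructor
  · intro ha
    obtain ⟨k, hk⟩ := P.isPGroup' ⟨a, ha⟩
    exact ⟨k, by simpa using congrArg Subtype.val hk⟩
  · rintro ⟨k, hk⟩
    have hp : IsPGroup 2 ↥(Subgroup.zpowers a) := by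
      rintro ⟨x, hx⟩
      obtain ⟨j, rfl⟩ := Subgroup.mem_zpowers_iff.mp hx
      refine ⟨k, Subtype.ext ?_⟩
      show (a ^ j) ^ 2 ^ k = 1
      rw [← zpow_natCast, ← _root_.zpow_mul, mul_comm, _root_.zpow_mul, zpow_natCast, hk, _root_.one_zpow]
    obtain ⟨Q, hQ⟩ := hp.exists_le_sylow
    obtain ⟨g, hg⟩ := MulAction.exists_smul_eq Fˣ P Q
    haveI : (P : Subgroup Fˣ).Normal := Subgroup.normal_of_comm _
    rw [Sylow.smul_eq_of_normal] at hg
    rw [hg]
    exact hQ (Subgroup.mem_zpowers a)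

theorem card_sylow_units [Fintype F] (P : Sylow 2 Fˣ) :
    Nat.card ↥(P : Subgroup Fˣ) = 2 ^ (Fintype.card F - 1).factorization 2 := by
  haveI : Fact (Nat.Prime 2) := ⟨Nat.prime_two⟩
  rw [Sylow.card_eq_multiplicity, Nat.card_units, Nat.card_eq_fintype_card]

/-- the diagonal `2`-group -/
def D [Finite F] (P : Sylow 2 Fˣ) : Subgroup (Matrix.SpecialLinearGroup (Fin 3) F) :=
  ((P : Subgroup Fˣ).prod (P : Subgroup Fˣ)).map δ

theorem mem_D [Finite F] (P : Sylow 2 Fˣ) (x : Matrix.SpecialLinearGroup (Fin 3) F) :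
    x ∈ D P ↔ ∃ a b : Fˣ, a ∈ (P : Subgroup Fˣ) ∧ b ∈ (P : Subgroup Fˣ) ∧ x = dg a b := by
  rw [D, Subgroup.mem_map]
  constructor
  · rintro ⟨⟨a, b⟩, hab, rfl⟩
    exact ⟨a, b, hab.1, hab.2, rfl⟩
  · rintro ⟨a, b, ha, hb, rfl⟩
    exact ⟨(a, b), ⟨ha, hb⟩, rfl⟩

theorem card_D [Fintype F] (P : Sylow 2 Fˣ) :
    Nat.card ↥(D P) = 2 ^ (2 * (Fintype.card F - 1).factorization 2) := by
  rw [D, Subgroup.card_map_of_injective δ_injective,
    Nat.card_congr ((P : Subgroup Fˣ).prodEquiv (P : Subgroup Fˣ)).toEquiv, Nat.card_prod,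
    card_sylow_units, ← pow_add, two_mul]

/-- the generating set of `S0` is `D ∪ {w0}` -/
theorem gen_eq [Finite F] (P : Sylow 2 Fˣ) :
    {d : Matrix.SpecialLinearGroup (Fin 3) F |
      (∀ i j : Fin 3, i ≠ j → d i j = 0) ∧ ∃ k : ℕ, d ^ 2 ^ k = 1} = (D P : Set _) := by
  ext d
  simp only [Set.mem_setOf_eq, SetLike.mem_coe, mem_D]
  constructor
  · rintro ⟨hd, k, hk⟩
    have hdiag : (d : Matrix (Fin 3) (Fin 3) F) = Matrix.diagonal (fun i => d i i) := by
      ext i j
      by_cases hij : i = j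
      · subst hij; simp
      · rw [Matrix.diagonal_apply_ne _ hij]; exact hd i j hij
    have hdet : d 0 0 * d 1 1 * d 2 2 = 1 := by
      have h := d.2
      rw [hdiag, Matrix.det_diagonal, Fin.prod_univ_three] at h
      exact h
    have hpow : ∀ i, (d i i) ^ 2 ^ k = 1 := by
      intro i
      have h := congrArg (fun M : Matrix.SpecialLinearGroup (Fin 3) F => (M : Matrix (Fin 3) (Fin 3) F) i i) hk
      simp only [Matrix.SpecialLinearGroup.coe_pow, Matrix.SpecialLinearGroup.coe_one] at h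
      rw [hdiag, Matrix.diagonal_pow] at h
      simpa using h
    have ha0 : d 0 0 ≠ 0 := by
      intro h0; rw [h0] at hdet; simp at hdet
    have hb0 : d 1 1 ≠ 0 := by
      intro h0; rw [h0] at hdet; simp at hdet
    refine ⟨Units.mk0 _ ha0, Units.mk0 _ hb0, ?_, ?_, ?_⟩
    · rw [mem_sylow_iff]
      exact ⟨k, Units.ext (by simpa using hpow 0)⟩
    · rw [mem_sylow_iff]
      exact ⟨k, Units.ext (by simpa using hpow 1)⟩
    · apply Subtype.ext
      rw [dg_val]
      refine hdiag.trans ?_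
      congr 1
      funext i
      fin_cases i
      · simp
      · simp
      · simp only [Fin.reduceFinMk, Matrix.cons_val_two, Matrix.tail_cons, Matrix.head_cons]
        rw [Units.val_inv_eq_inv_val, Units.val_mul, Units.val_mk0, Units.val_mk0]
        exact eq_inv_of_mul_eq_one_right hdet
  · rintro ⟨a, b, ha, hb, rfl⟩
    refine ⟨?_, ?_⟩
    · intro i j hij
      show ((dg a b : Matrix.SpecialLinearGroup (Fin 3) F) : Matrix (Fin 3) (Fin 3) F) i j = 0
      rw [dg_val, Matrix.diagonal_apply_ne _ hij]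
    · obtain ⟨k1, hk1⟩ := (mem_sylow_iff P a).mp ha
      obtain ⟨k2, hk2⟩ := (mem_sylow_iff P b).mp hb
      refine ⟨k1 + k2, ?_⟩
      have h : (dg a b : Matrix.SpecialLinearGroup (Fin 3) F) ^ 2 ^ (k1 + k2) = δ ((a, b) ^ 2 ^ (k1 + k2)) := by
        rw [map_pow]; rfl
      rw [h]
      have e : ((a, b) : Fˣ × Fˣ) ^ 2 ^ (k1 + k2) = 1 := by
        apply Prod.ext
        · show a ^ 2 ^ (k1 + k2) = 1
          rw [pow_add, pow_mul, hk1, one_pow]
        · show b ^ 2 ^ (k1 + k2) = 1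
          rw [pow_add, mul_comm, pow_mul, hk2, one_pow]
      rw [e, map_one]

theorem w0_conj_mem [Finite F] (P : Sylow 2 Fˣ) {x : Matrix.SpecialLinearGroup (Fin 3) F}
    (hx : x ∈ D P) : w0 F * x * w0 F ∈ D P := by
  obtain ⟨a, b, ha, hb, rfl⟩ := (mem_D P x).mp hx
  rw [w0_conj]
  exact (mem_D P _).mpr ⟨b, a, hb, ha, rfl⟩

theorem S0_eq [Finite F] (P : Sylow 2 Fˣ) :
    S0 F = Subgroup.closure ((D P : Set (Matrix.SpecialLinearGroup (Fin 3) F)) ∪ {w0 F}) := by
  rw [S0, gen_eq P]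

theorem normal_form [Finite F] (P : Sylow 2 Fˣ) (x : Matrix.SpecialLinearGroup (Fin 3) F)
    (hx : x ∈ S0 F) : x ∈ D P ∨ x * w0 F ∈ D P := by
  have hw : (w0 F * w0 F : Matrix.SpecialLinearGroup (Fin 3) F) = 1 := w0_mul_w0
  have hw' : ∀ z : Matrix.SpecialLinearGroup (Fin 3) F, w0 F * (w0 F * z) = z := fun z => by
    rw [← mul_assoc, hw, one_mul]
  have hwi : (w0 F : Matrix.SpecialLinearGroup (Fin 3) F)⁻¹ = w0 F := inv_eq_of_mul_eq_one_right hw
  rw [S0_eq P] at hx
  induction hx using Subgroup.closure_induction with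
  | mem y hy =>
    rcases hy with hy | hy
    · exact Or.inl hy
    · rw [Set.mem_singleton_iff] at hy
      subst hy
      right
      rw [hw]
      exact (D P).one_mem
  | one => exact Or.inl (D P).one_mem
  | mul x y _ _ hx hy =>
    rcases hx with hx | hx <;> rcases hy with hy | hy
    · exact Or.inl ((D P).mul_mem hx hy)
    · right
      rw [mul_assoc]
      exact (D P).mul_mem hx hy
    · right
      have e : x * y * w0 F = (x * w0 F) * (w0 F * y * w0 F) := by
        simp only [mul_assoc, hw']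
      rw [e]
      exact (D P).mul_mem hx (w0_conj_mem P hy)
    · left
      have e : x * y = (x * w0 F) * (w0 F * (y * w0 F) * w0 F) := by
        simp only [mul_assoc, hw', hw, mul_one]
      rw [e]
      exact (D P).mul_mem hx (w0_conj_mem P hy)
  | inv x _ hx =>
    rcases hx with hx | hx
    · exact Or.inl ((D P).inv_mem hx)
    · right
      have e : x⁻¹ * w0 F = w0 F * (x * w0 F)⁻¹ * w0 F := by
        simp only [_root_.mul_inv_rev, hwi, mul_assoc, hw']
      rw [e]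
      exact w0_conj_mem P ((D P).inv_mem hx)

theorem index_D [Finite F] (P : Sylow 2 Fˣ) : ((D P).subgroupOf (S0 F)).index = 2 := by
  rw [Subgroup.index_eq_two_iff]
  have hw : w0 F ∈ S0 F := Subgroup.subset_closure (Or.inr rfl)
  refine ⟨⟨w0 F, hw⟩, ?_⟩
  rintro ⟨b, hb⟩
  simp only [Subgroup.mem_subgroupOf]
  rcases normal_form P b hb with h | h
  · refine Or.inr ⟨h, ?_⟩
    intro h'
    obtain ⟨a, c, -, -, rfl⟩ := (mem_D P b).mp h
    obtain ⟨a', c', -, -, e⟩ := (mem_D P _).mp h'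
    exact dg_mul_w0_ne _ _ _ _ e
  · refine Or.inl ⟨h, ?_⟩
    intro h'
    obtain ⟨a, c, -, -, rfl⟩ := (mem_D P b).mp h'
    obtain ⟨a', c', -, -, e⟩ := (mem_D P _).mp h
    exact dg_mul_w0_ne _ _ _ _ e

theorem card_S0 [Fintype F] (P : Sylow 2 Fˣ) :
    Nat.card ↥(S0 F) = 2 ^ (2 * (Fintype.card F - 1).factorization 2 + 1) := by
  have hle : D P ≤ S0 F := by
    rw [S0_eq P]
    exact fun x hx => Subgroup.subset_closure (Or.inl hx)
  have h := Subgroup.card_mul_index ((D P).subgroupOf (S0 F))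
  rw [index_D P, Nat.card_congr (Subgroup.subgroupOfEquivOfLe hle).toEquiv, card_D] at h
  rw [← h, pow_succ]

theorem proj_injOn [Finite F] (P : Sylow 2 Fˣ) :
    Set.InjOn (proj 3 F) (S0 F : Set (Matrix.SpecialLinearGroup (Fin 3) F)) := by
  intro x hx y hy hxy
  have hz : x⁻¹ * y ∈ Subgroup.center (Matrix.SpecialLinearGroup (Fin 3) F) := by
    rw [← ker_proj, MonoidHom.mem_ker, map_mul, map_inv, hxy, inv_mul_cancel]
  have hzS : x⁻¹ * y ∈ S0 F := (S0 F).mul_mem ((S0 F).inv_mem hx) hy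
  obtain ⟨r, hr3, hr⟩ := Matrix.SpecialLinearGroup.mem_center_iff.mp hz
  have key : x⁻¹ * y = 1 := by
    rcases normal_form P _ hzS with h | h
    · obtain ⟨a, b, ha, hb, e⟩ := (mem_D P _).mp h
      rw [e] at hr
      have e0 : r = (a : F) := by
        have := congrArg (fun M : Matrix (Fin 3) (Fin 3) F => M 0 0) hr
        simpa [dg_val'] using this
      have e1 : r = (b : F) := by
        have := congrArg (fun M : Matrix (Fin 3) (Fin 3) F => M 1 1) hr
        simpa [dg_val'] using this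
      have e2 : r = (((a * b)⁻¹ : Fˣ) : F) := by
        have := congrArg (fun M : Matrix (Fin 3) (Fin 3) F => M 2 2) hr
        simpa [dg_val'] using this
      have hab : a = b := Units.ext (e0.symm.trans e1)
      have hinv : ((a * b)⁻¹ : Fˣ) = a := Units.ext (e2.symm.trans e0)
      rw [← hab] at hinv
      have ha3 : a ^ 3 = 1 := by
        calc a ^ 3 = a * a * a := by rw [pow_succ, pow_two]
          _ = (a * a) * (a * a)⁻¹ := by rw [hinv]
          _ = 1 := mul_inv_cancel _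
      obtain ⟨k, hk⟩ := (mem_sylow_iff P a).mp ha
      have ha1 : a = 1 := by
        have h1 : orderOf a ∣ 3 := orderOf_dvd_of_pow_eq_one ha3
        have h2 : orderOf a ∣ 2 ^ k := orderOf_dvd_of_pow_eq_one hk
        have h3 : orderOf a ∣ Nat.gcd 3 (2 ^ k) := Nat.dvd_gcd h1 h2
        have h4 : Nat.gcd 3 (2 ^ k) = 1 := Nat.Coprime.pow_right k (by norm_num)
        rw [h4, Nat.dvd_one] at h3
        exact orderOf_eq_one_iff.mp h3
      rw [e, ← hab, ha1, dg_one]
    · exfalso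
      obtain ⟨a, b, ha, hb, e⟩ := (mem_D P _).mp h
      have e' : x⁻¹ * y = dg a b * w0 F := by
        rw [← e, mul_assoc, w0_mul_w0, mul_one]
      rw [e'] at hr
      have h00 : r = 0 := by
        have := congrArg (fun M : Matrix (Fin 3) (Fin 3) F => M 0 0) hr
        simpa [w0_val, dg_val', Matrix.mul_apply, Fin.sum_univ_three] using this
      rw [h00] at hr3
      simp at hr3
  exact inv_mul_eq_one.mp key

/-- piece W1b -/
theorem main : CardS0.{u} := by
  intro F _ _ _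
  classical
  haveI : Fact (Nat.Prime 2) := ⟨Nat.prime_two⟩
  obtain ⟨P⟩ : Nonempty (Sylow 2 Fˣ) := inferInstance
  have h : Nat.card ↥(S0bar F) = Nat.card ↥(S0 F) := by
    have e1 : Nat.card ↥(S0bar F) =
        (SetLike.coe (S0bar F) : Set (ProjectiveSpecialLinearGroup (Fin 3) F)).ncard :=
      Nat.card_coe_set_eq _
    have e2 : Nat.card ↥(S0 F) =
        (SetLike.coe (S0 F) : Set (Matrix.SpecialLinearGroup (Fin 3) F)).ncard :=
      Nat.card_coe_set_eq _
    rw [e1, e2, S0bar, Subgroup.coe_map, Set.ncard_image_of_injOn (proj_injOn P)]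
  rw [h, card_S0 P]

end Cfsg.Agent.H84.Psl3W1b
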