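import Mathlib
import Cfsg.Agent.H84.Psl3Stmt
import Cfsg.Agent.H84.Psl3Stmt2
import Cfsg.Agent.H84.Psl3W1b

set_option autoImplicit false

/-!
# S5318, piece W2: a nontrivial subgroup of the monomial `2`-group closed under fusion is everything
-/

namespace Cfsg.Agent.H84.Psl3W2

open Matrix Cfsg.Agent.H84.Psl3Stmt Cfsg.Agent.H84.PslDefs Cfsg.Agent.H84.Psl3W1b

universe u

variable {F : Type u} [Field F]

/-- a signed permutation matrix swapping the last two coordinates -/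
def g1 (F : Type u) [Field F] : Matrix.SpecialLinearGroup (Fin 3) F :=
  ⟨!![1, 0, 0; 0, 0, 1; 0, -1, 0], by simp [Matrix.det_fin_three]⟩

/-- the cyclic permutation matrix -/
def g2 (F : Type u) [Field F] : Matrix.SpecialLinearGroup (Fin 3) F :=
  ⟨!![0, 0, 1; 1, 0, 0; 0, 1, 0], by simp [Matrix.det_fin_three]⟩

theorem g1_val : ((g1 F : Matrix.SpecialLinearGroup (Fin 3) F) : Matrix (Fin 3) (Fin 3) F) =
    !![1, 0, 0; 0, 0, 1; 0, -1, 0] := rfl

theorem g2_val : ((g2 F : Matrix.SpecialLinearGroup (Fin 3) F) : Matrix (Fin 3) (Fin 3) F) =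
    !![0, 0, 1; 1, 0, 0; 0, 1, 0] := rfl

theorem g1_conj (a : Fˣ) : (g1 F * dg a a⁻¹ : Matrix.SpecialLinearGroup (Fin 3) F) = dg a 1 * g1 F := by
  apply Subtype.ext
  rw [Matrix.SpecialLinearGroup.coe_mul, Matrix.SpecialLinearGroup.coe_mul, g1_val, dg_val', dg_val']
  ext i j
  fin_cases i <;> fin_cases j <;> simp [Matrix.mul_apply, Fin.sum_univ_three]

theorem g2_conj (a : Fˣ) : (g2 F * dg a a⁻¹ : Matrix.SpecialLinearGroup (Fin 3) F) = dg 1 a * g2 F := by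
  apply Subtype.ext
  rw [Matrix.SpecialLinearGroup.coe_mul, Matrix.SpecialLinearGroup.coe_mul, g2_val, dg_val', dg_val']
  ext i j
  fin_cases i <;> fin_cases j <;> simp [Matrix.mul_apply, Fin.sum_univ_three]

theorem w0_ne_one : (w0 F : Matrix.SpecialLinearGroup (Fin 3) F) ≠ 1 := by
  intro h
  have h0 := congrArg (fun M : Matrix.SpecialLinearGroup (Fin 3) F => (M : Matrix (Fin 3) (Fin 3) F) 0 0) h
  simp [w0_val] at h0

/-- piece W2 -/
theorem main : S0Closed.{u} := by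
  intro F _ _ hodd hconj T hTS hT1 hcl
  classical
  haveI : Fact (Nat.Prime 2) := ⟨Nat.prime_two⟩
  obtain ⟨P⟩ : Nonempty (Sylow 2 Fˣ) := inferInstance
  have hDle : D P ≤ S0 F := by
    rw [S0_eq P]
    exact fun x hx => Subgroup.subset_closure (Or.inl hx)
  have hw0 : w0 F ∈ S0 F := by
    rw [S0_eq P]
    exact Subgroup.subset_closure (Or.inr rfl)
  have hmemS : ∀ x ∈ S0 F, proj 3 F x ∈ S0bar F := fun x hx => Subgroup.mem_map_of_mem _ hx
  -- an involution of `T`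
  have hinvT : ∃ t ∈ T, orderOf t = 2 := by
    have hdvd : Nat.card ↥T ∣ Nat.card ↥(S0bar F) := Subgroup.card_dvd_of_le hTS
    rw [Cfsg.Agent.H84.Psl3W1b.main F hodd] at hdvd
    obtain ⟨j, -, hj⟩ := (Nat.dvd_prime_pow Nat.prime_two).mp hdvd
    have hj0 : j ≠ 0 := by
      rintro rfl
      rw [pow_zero, Subgroup.card_eq_one] at hj
      exact hT1 hj
    have h2 : 2 ∣ Nat.card ↥T := by
      rw [hj]
      exact dvd_pow_self 2 hj0
    obtain ⟨x, hx⟩ := exists_prime_orderOf_dvd_card' 2 h2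
    exact ⟨x, x.2, by rw [← hx, Subgroup.orderOf_coe]⟩
  obtain ⟨t₀, ht₀, ot₀⟩ := hinvT
  -- all involutions of `S0bar` are in `T`
  have hinv : ∀ s ∈ S0bar F, orderOf s = 2 → s ∈ T := by
    intro s hs os
    obtain ⟨g, hg⟩ := hconj t₀ s ot₀ os
    rw [← hg]
    exact hcl t₀ ht₀ g (hg ▸ hs)
  -- involutions of `S0` map to involutions
  have hinv' : ∀ x ∈ S0 F, x * x = 1 → x ≠ 1 → proj 3 F x ∈ T := by
    intro x hx hxx hx1
    refine hinv _ (hmemS x hx) (orderOf_eq_prime ?_ ?_)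
    · rw [pow_two, ← map_mul, hxx, map_one]
    · intro h
      apply hx1
      exact proj_injOn P hx (S0 F).one_mem (h.trans (map_one _).symm)
  have hw0T : proj 3 F (w0 F) ∈ T := hinv' _ hw0 w0_mul_w0 w0_ne_one
  -- `diag(a, a⁻¹, 1)`
  have hd1 : ∀ a ∈ (P : Subgroup Fˣ), proj 3 F (dg a a⁻¹) ∈ T := by
    intro a ha
    have hmem : (dg a a⁻¹ : Matrix.SpecialLinearGroup (Fin 3) F) ∈ D P :=
      (mem_D P _).mpr ⟨a, a⁻¹, ha, inv_mem ha, rfl⟩
    have h1 : proj 3 F (dg a a⁻¹ * w0 F) ∈ T := by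
      refine hinv' _ ((S0 F).mul_mem (hDle hmem) hw0) ?_ ?_
      · have e : dg a a⁻¹ * w0 F * (dg a a⁻¹ * w0 F) = dg a a⁻¹ * (w0 F * dg a a⁻¹ * w0 F) := by
          simp only [mul_assoc]
        rw [e, w0_conj, dg_mul, mul_inv_cancel, inv_mul_cancel, dg_one]
      · intro h
        exact dg_mul_w0_ne a a⁻¹ 1 1 (h.trans dg_one.symm)
    have e : (dg a a⁻¹ : Matrix.SpecialLinearGroup (Fin 3) F) = (dg a a⁻¹ * w0 F) * w0 F := by
      rw [mul_assoc, w0_mul_w0, mul_one]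
    rw [e, map_mul]
    exact T.mul_mem h1 hw0T
  -- the Weyl conjugates
  have hd2 : ∀ a ∈ (P : Subgroup Fˣ), proj 3 F (dg a 1) ∈ T := by
    intro a ha
    have h := hcl _ (hd1 a ha) (proj 3 F (g1 F))
    have e : proj 3 F (g1 F) * proj 3 F (dg a a⁻¹) * (proj 3 F (g1 F))⁻¹ = proj 3 F (dg a 1) := by
      rw [mul_inv_eq_iff_eq_mul, ← map_mul, ← map_mul, g1_conj]
    rw [e] at h
    exact h (hmemS _ (hDle ((mem_D P _).mpr ⟨a, 1, ha, one_mem _, rfl⟩)))
  have hd3 : ∀ a ∈ (P : Subgroup Fˣ), proj 3 F (dg 1 a) ∈ T := by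
    intro a ha
    have h := hcl _ (hd1 a ha) (proj 3 F (g2 F))
    have e : proj 3 F (g2 F) * proj 3 F (dg a a⁻¹) * (proj 3 F (g2 F))⁻¹ = proj 3 F (dg 1 a) := by
      rw [mul_inv_eq_iff_eq_mul, ← map_mul, ← map_mul, g2_conj]
    rw [e] at h
    exact h (hmemS _ (hDle ((mem_D P _).mpr ⟨1, a, one_mem _, ha, rfl⟩)))
  -- conclusion
  apply le_antisymm hTS
  rw [S0bar, Subgroup.map_le_iff_le_comap, S0_eq P, Subgroup.closure_le]
  rintro x (hx | hx)
  · obtain ⟨a, b, ha, hb, rfl⟩ := (mem_D P x).mp hx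
    have e : (dg a b : Matrix.SpecialLinearGroup (Fin 3) F) = dg a 1 * dg 1 b := by
      rw [dg_mul, mul_one, one_mul]
    show proj 3 F (dg a b) ∈ T
    rw [e, map_mul]
    exact T.mul_mem (hd2 a ha) (hd3 b hb)
  · rw [Set.mem_singleton_iff] at hx
    subst hx
    exact hw0T

end Cfsg.Agent.H84.Psl3W2
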