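import Mathlib
import Cfsg.Prelude.Def_FusionComponents
import Cfsg.Agent.H84.PslDefs

set_option autoImplicit false

/-!
# Piece statements for S5163 (as `Prop`-valued definitions; prove `theorem main : PslStmt.X`)
-/

namespace Cfsg.Agent.H84.PslStmt

open Cfsg.Agent.H84.PslDefs Matrix

universe u

/-! ## abstract pieces -/

/-- [F1] a subgroup normal in `S` is fully normalized in the fusion system of `G` on `S` -/
def FullyNormalizedOfNormal : Prop :=
  ∀ {G : Type u} [Group G] [Finite G] (S R : Subgroup G) (_ : R ≤ S)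
    (_ : ∀ s ∈ S, ∀ r ∈ R, s * r * s⁻¹ ∈ R),
    (Cfsg.groupFusionSystem S).IsFullyNormalized R

/-- [F2] a subgroup of `S` containing its centralizer in `G` is centric -/
def CentricOfCent : Prop :=
  ∀ {G : Type u} [Group G] (S R : Subgroup G) (_ : R ≤ S)
    (_ : ∀ g : G, (∀ r ∈ R, g * r = r * g) → g ∈ R),
    (Cfsg.groupFusionSystem S).IsCentric R

/-- [F3] an abelian subgroup `R` of the `p`-group `S` on whose nontrivial elements `N_G(R)` is
transitive is radical -/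
def RadicalOfTrans : Prop :=
  ∀ {G : Type u} [Group G] [Finite G] (p : ℕ) [Fact p.Prime] (S R : Subgroup G)
    (_ : IsPGroup p S) (_ : R ≤ S) (_ : ∀ a ∈ R, ∀ b ∈ R, a * b = b * a)
    (_ : ∀ a ∈ R, ∀ b ∈ R, a ≠ 1 → b ≠ 1 →
      ∃ g ∈ Subgroup.normalizer (R : Set G), g * a * g⁻¹ = b),
    (Cfsg.groupFusionSystem S).IsRadical p R

/-- [A3] the data is transported by inner automorphisms -/
def MapConj : Prop :=
  ∀ {G : Type u} [Group G] {p : ℕ} [Fact p.Prime] {S Z : Subgroup G} {X : Set G}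
    {ℛ : Set (Subgroup G)} (_ : SimpleData p S Z X ℛ) (g : G),
    SimpleData p (S.map (MulAut.conj g).toMonoidHom) (Z.map (MulAut.conj g).toMonoidHom)
      ((fun x => g * x * g⁻¹) '' X)
      ((fun R : Subgroup G => R.map (MulAut.conj g).toMonoidHom) '' ℛ)

/-! ## matrix pieces -/

/-- [P1] the image of the unitriangular group is a Sylow `p`-subgroup of `PSL_n(K)`, nontrivial
for `n ≥ 2` -/
def SylowUbar : Prop :=
  ∀ (n : ℕ) (K : Type u) [Field K] [Fintype K] (p : ℕ) [Fact p.Prime] [CharP K p],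
    (∃ P : Sylow p (ProjectiveSpecialLinearGroup (Fin n) K),
      (P : Subgroup (ProjectiveSpecialLinearGroup (Fin n) K)) = Ubar n K) ∧
    (2 ≤ n → Ubar n K ≠ ⊥)

/-- [P2] the root elements generate -/
def ClosureXset : Prop :=
  ∀ (n : ℕ) (K : Type u) [Field K] [Fintype K] (p : ℕ) [Fact p.Prime] [CharP K p],
    Subgroup.closure (Xset n K) = Ubar n K

/-- [P3] a nontrivial normal subgroup of `Ubar` meets the highest root group -/
def MeetsZbar : Prop :=
  ∀ (n : ℕ) (K : Type u) [Field K] [Fintype K] (p : ℕ) [Fact p.Prime] [CharP K p]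
    (T : Subgroup (ProjectiveSpecialLinearGroup (Fin n) K)) (_ : T ≤ Ubar n K)
    (_ : T ≠ ⊥) (_ : ∀ s ∈ Ubar n K, ∀ t ∈ T, s * t * s⁻¹ ∈ T),
    ∃ z ∈ T, z ∈ Zbar n K ∧ z ≠ 1

/-- [P4] all nontrivial root elements are conjugate (`n ≥ 3`) -/
def ConjXset : Prop :=
  ∀ (n : ℕ) (K : Type u) [Field K] [Fintype K] (p : ℕ) [Fact p.Prime] [CharP K p]
    (_ : 3 ≤ n) (z : ProjectiveSpecialLinearGroup (Fin n) K) (_ : z ∈ Zbar n K)
    (_ : z ≠ 1) (x : ProjectiveSpecialLinearGroup (Fin n) K) (_ : x ∈ Xset n K),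
    ∃ g : ProjectiveSpecialLinearGroup (Fin n) K, g * z * g⁻¹ = x

/-- [P5a] `R1` is an abelian normal subgroup of `Ubar` -/
def R1Basic : Prop :=
  ∀ (n : ℕ) (K : Type u) [Field K] [Fintype K] (p : ℕ) [Fact p.Prime] [CharP K p],
    R1 n K ≤ Ubar n K ∧ (∀ s ∈ Ubar n K, ∀ r ∈ R1 n K, s * r * s⁻¹ ∈ R1 n K) ∧
      ∀ a ∈ R1 n K, ∀ b ∈ R1 n K, a * b = b * a

/-- [P5b] `R1` contains its centralizer in `PSL_n(K)` -/
def R1Cent : Prop :=
  ∀ (n : ℕ) (K : Type u) [Field K] [Fintype K] (p : ℕ) [Fact p.Prime] [CharP K p] (_ : 3 ≤ n)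
    (g : ProjectiveSpecialLinearGroup (Fin n) K),
    (∀ r ∈ R1 n K, g * r = r * g) → g ∈ R1 n K

/-- [P5c] the normalizer of `R1` is transitive on its nontrivial elements -/
def R1Trans : Prop :=
  ∀ (n : ℕ) (K : Type u) [Field K] [Fintype K] (p : ℕ) [Fact p.Prime] [CharP K p] (_ : 3 ≤ n),
    ∀ a ∈ R1 n K, ∀ b ∈ R1 n K, a ≠ 1 → b ≠ 1 →
    ∃ g ∈ Subgroup.normalizer (R1 n K : Set (ProjectiveSpecialLinearGroup (Fin n) K)),
      g * a * g⁻¹ = b

/-- [P6a] `R2` is an abelian normal subgroup of `Ubar` -/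
def R2Basic : Prop :=
  ∀ (n : ℕ) (K : Type u) [Field K] [Fintype K] (p : ℕ) [Fact p.Prime] [CharP K p],
    R2 n K ≤ Ubar n K ∧ (∀ s ∈ Ubar n K, ∀ r ∈ R2 n K, s * r * s⁻¹ ∈ R2 n K) ∧
      ∀ a ∈ R2 n K, ∀ b ∈ R2 n K, a * b = b * a

/-- [P6b] `R2` contains its centralizer in `PSL_n(K)` -/
def R2Cent : Prop :=
  ∀ (n : ℕ) (K : Type u) [Field K] [Fintype K] (p : ℕ) [Fact p.Prime] [CharP K p] (_ : 3 ≤ n)
    (g : ProjectiveSpecialLinearGroup (Fin n) K),
    (∀ r ∈ R2 n K, g * r = r * g) → g ∈ R2 n K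

/-- [P6c] the normalizer of `R2` is transitive on its nontrivial elements -/
def R2Trans : Prop :=
  ∀ (n : ℕ) (K : Type u) [Field K] [Fintype K] (p : ℕ) [Fact p.Prime] [CharP K p] (_ : 3 ≤ n),
    ∀ a ∈ R2 n K, ∀ b ∈ R2 n K, a ≠ 1 → b ≠ 1 →
    ∃ g ∈ Subgroup.normalizer (R2 n K : Set (ProjectiveSpecialLinearGroup (Fin n) K)),
      g * a * g⁻¹ = b

/-- [P7a] the normalizer of `Ubar` is the image of the upper triangular group: every element
normalizing `Ubar` is the image of `t * u`, `t` diagonal, `u` unitriangular -/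
def NormalizerUbar : Prop :=
  ∀ (n : ℕ) (K : Type u) [Field K] [Fintype K] (p : ℕ) [Fact p.Prime] [CharP K p] (_ : 3 ≤ n)
    (g : ProjectiveSpecialLinearGroup (Fin n) K)
    (_ : g ∈ Subgroup.normalizer (Ubar n K : Set (ProjectiveSpecialLinearGroup (Fin n) K))),
    ∃ t u : SpecialLinearGroup (Fin n) K, (∀ i j : Fin n, i ≠ j → t i j = 0) ∧ u ∈ Uni n K ∧
      proj n K (t * u) = g

/-- [P7c] the image of a diagonal matrix is a product of elements normalizing `Ubar`, each lying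
in the subgroup generated by the `p`-elements of `N(R1)` or of `N(R2)` -/
def DiagMemGen : Prop :=
  ∀ (n : ℕ) (K : Type u) [Field K] [Fintype K] (p : ℕ) [Fact p.Prime] [CharP K p] (_ : 3 ≤ n)
    (t : SpecialLinearGroup (Fin n) K) (_ : ∀ i j : Fin n, i ≠ j → t i j = 0),
    proj n K t ∈ Subgroup.closure
      {h : ProjectiveSpecialLinearGroup (Fin n) K |
        h ∈ Subgroup.normalizer (Ubar n K : Set (ProjectiveSpecialLinearGroup (Fin n) K)) ∧
        ∃ R ∈ ({R1 n K, R2 n K} : Set (Subgroup (ProjectiveSpecialLinearGroup (Fin n) K))),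
          h ∈ Subgroup.closure {k : ProjectiveSpecialLinearGroup (Fin n) K |
            k ∈ Subgroup.normalizer (R : Set (ProjectiveSpecialLinearGroup (Fin n) K)) ∧
            ∃ e : ℕ, orderOf k = p ^ e}}

end Cfsg.Agent.H84.PslStmt
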