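import Cfsg.Agent.H84.PCube
import Cfsg.Agent.S4189
import Cfsg.Agent.S5187
import Cfsg.Agent.Lib.Helper86.Essential
import Cfsg.Agent.Lib.Helper87.FSSat
import Cfsg.Agent.Lib.Helper24.PQuartic2
import Cfsg.Agent.H84.AbQuart
import Cfsg.Agent.H84.Chain4
import Cfsg.Agent.Lib.Helper87.PFour3
import Cfsg.Agent.Lib.Helper14.PQuartic
import Cfsg.Agent.Lib.Helper87.PFour5

set_option autoImplicit false
open Cfsg

/-! Essential subgroups of order `p ^ 4` (assembly). -/

namespace Cfsg.Agent.H84.Quart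

universe u

theorem extraspecial_of_cube {P : Type*} [Group P] [Finite P] {p : ℕ} [Fact p.Prime]
    (hcard : Nat.card P = p ^ 3) (hna : ∃ a b : P, a * b ≠ b * a) : Cfsg.IsExtraspecial p P := by
  have hPp : IsPGroup p P := IsPGroup.of_card hcard
  obtain ⟨hZ, hcomm, hpow⟩ := Cfsg.Agent.H84.PCube.nonabelian_cube hcard hna
  refine ⟨⟨hPp, ?_, hcomm⟩, hZ⟩
  apply le_antisymm
  · exact Cfsg.Agent.Lib.Helper24.SpecialGroup.frattini_le_of_quotient_elementary p _
      hcomm.le hpow
  · rw [← hcomm]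
    exact Cfsg.Agent.Lib.Helper63.PFrattini.commutator_le_frattini hPp

/-- A carrier type with `n` elements and no algebraic structure. -/
def Carrier (n : ℕ) : Type := Fin n

instance (n : ℕ) : Finite (Carrier n) := inferInstanceAs (Finite (Fin n))

theorem card_carrier (n : ℕ) : Nat.card (Carrier n) = n := by
  show Nat.card (Fin n) = n
  simp

theorem exists_small_model {E₀ : Type u} [Group E₀] [Finite E₀] (p : ℕ) [Fact p.Prime]
    (hcard : Nat.card E₀ = p ^ 3) (hna : ∃ a b : E₀, a * b ≠ b * a) (hexp : ∀ x : E₀, x ^ p = 1) :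
    ∃ (E : Type) (_ : Group E) (_ : Finite E), Cfsg.IsExtraspecial p E ∧ Nat.card E = p ^ 3 ∧
      (∀ x : E, x ^ p = 1) ∧ Nonempty (E₀ ≃* E) := by
  let e0 : E₀ ≃ Carrier (p ^ 3) := Finite.equivFinOfCardEq hcard
  letI g : Group (Carrier (p ^ 3)) := e0.symm.group
  let m : Carrier (p ^ 3) ≃* E₀ := e0.symm.mulEquiv
  have hc : Nat.card (Carrier (p ^ 3)) = p ^ 3 := card_carrier _
  refine ⟨Carrier (p ^ 3), g, inferInstance, ?_, hc, ?_, ⟨m.symm⟩⟩
  · apply extraspecial_of_cube hc
    obtain ⟨a, b, hab⟩ := hna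
    refine ⟨m.symm a, m.symm b, fun h => hab ?_⟩
    have := congrArg m h
    simpa using this
  · intro x
    apply m.injective
    rw [map_pow, hexp, map_one]

theorem main {Ω : Type u} [Group Ω] {S : Subgroup Ω} [Finite S] (p : ℕ) [Fact p.Prime]
    (hS : IsPGroup p S) (F : Cfsg.FusionSystem S) (hF : F.IsSaturated p) (H : Subgroup Ω)
    (hH : F.IsEssential p H) (hcard : Nat.card H = p ^ 4) :
    Cfsg.IsElementaryAbelian p H ∨
      Nonempty (↥H ≃* Multiplicative (ZMod (p ^ 2) × ZMod p × ZMod p)) ∨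
      ((p = 2 ∨ p = 3) ∧ Nonempty (↥H ≃* Multiplicative (ZMod (p ^ 2) × ZMod (p ^ 2)))) ∨
      (Odd p ∧ ∃ (E : Type) (_ : Group E) (_ : Finite E), Cfsg.IsExtraspecial p E ∧
        Nat.card E = p ^ 3 ∧ (∀ x : E, x ^ p = 1) ∧
        Nonempty (↥H ≃* E × Multiplicative (ZMod p))) ∨
      (p = 2 ∧ Nonempty (↥H ≃* QuaternionGroup 2 × Multiplicative (ZMod 2))) ∨
      (¬ IsMulCommutative ↥H ∧ (∀ x ∈ H, x ^ (p ^ 2) = 1) ∧ IsCyclic ↥(Subgroup.center ↥H) ∧
        Nat.card (Subgroup.center ↥H) = p ^ 2) := by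
  have hp : p.Prime := Fact.out
  have hH' := hH
  obtain ⟨hcen, hfn, hn, E, hE⟩ := hH
  have hHS : H ≤ S := hcen.1
  have hfinH : Finite ↥H := Cfsg.Agent.Lib.Helper87.FSSat.finite_of_le hHS
  have hHp : IsPGroup p ↥H := IsPGroup.of_card hcard
  have hfinA : Finite ↥(F.autGroup H) := inferInstance
  have hnp : ¬ IsPGroup p ↥(commutator ↥(F.autGroup H)) :=
    Cfsg.Agent.Lib.Helper86.Essential.commutator_not_pgroup_of_quotient _ E hE
  have hchain : (∃ C B A : Subgroup ↥H, A ≤ B ∧ B ≤ C ∧ Nat.card C = p ^ 3 ∧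
      Nat.card B = p ^ 2 ∧ Nat.card A = p ∧ (∀ α : MulAut ↥H, ∀ x ∈ C, α x ∈ C) ∧
      (∀ α : MulAut ↥H, ∀ x ∈ B, α x ∈ B) ∧ (∀ α : MulAut ↥H, ∀ x ∈ A, α x ∈ A)) → False := by
    rintro ⟨C, B, A, hAB, hBC, hC, hB, hA, hCi, hBi, hAi⟩
    apply hnp
    exact Cfsg.Agent.H84.Chain4.commutator_isPGroup_of_chain4 hcard C B A hAB hBC hC hB hA
      ⟨fun x hx g => hCi (MulAut.conj g) x hx⟩ ⟨fun x hx g => hBi (MulAut.conj g) x hx⟩
      ⟨fun x hx g => hAi (MulAut.conj g) x hx⟩
      (F.autGroup H) (fun α _ => hCi α) (fun α _ => hBi α) (fun α _ => hAi α)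
  by_cases hc : ∀ a b : ↥H, a * b = b * a
  · have hab : IsMulCommutative ↥H := ⟨⟨hc⟩⟩
    rcases Cfsg.Agent.H84.AbQuart.abelian_quartic hcard hc with hexp | hiso | hfr
    · left
      exact ⟨hab, fun a ha => congrArg Subtype.val (hexp ⟨a, ha⟩)⟩
    · right; left; exact hiso
    · right; right; left
      rcases Cfsg.Agent.S5187.result p hS F hF H hH' hab hfr with ⟨-, hc2⟩ | ⟨hp3, k, ⟨e⟩⟩
      · exfalso
        rw [hcard] at hc2
        have := Nat.pow_right_injective hp.two_le hc2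
        omega
      · have hk : k = 2 := by
          haveI : NeZero (p ^ k) := ⟨pow_ne_zero k hp.ne_zero⟩
          have h1 : Nat.card ↥H = p ^ k * p ^ k := by
            rw [Nat.card_congr e.toEquiv]
            show Nat.card (ZMod (p ^ k) × ZMod (p ^ k)) = _
            rw [Nat.card_prod, Nat.card_zmod]
          rw [hcard, ← pow_add] at h1
          have := Nat.pow_right_injective hp.two_le h1
          omega
        subst hk
        refine ⟨?_, ⟨e⟩⟩
        have h2 := hp.two_le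
        omega
  · have hna : ∃ a b : ↥H, a * b ≠ b * a := by
      push_neg at hc; exact hc
    have hnab : ¬ IsMulCommutative ↥H := fun h => hc (fun a b => h.is_comm.comm a b)
    by_cases hfr : (frattini ↥H).index = p ^ 2
    · exact (hchain (Cfsg.Agent.Lib.Helper24.PQuartic2.chain_of_two_gen hcard hna hfr)).elim
    · obtain ⟨hZcard, hexp2, hsplit⟩ := Cfsg.Agent.Lib.Helper87.PFour3.three_gen_struct hcard hna hfr
      by_cases hcyc : IsCyclic ↥(Subgroup.center ↥H)
      · right; right; right; right; right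
        exact ⟨hnab, fun x hx => congrArg Subtype.val (hexp2 ⟨x, hx⟩), hcyc, hZcard⟩
      · obtain ⟨E₀, hE₀card, hE₀na, ⟨e⟩⟩ := hsplit hcyc
        by_cases hp2 : p = 2
        · subst hp2
          rcases Cfsg.Agent.Lib.Helper87.PFour5.chain_or_quat hcard hna hfr hcyc with hq | hch
          · right; right; right; right; left
            exact ⟨rfl, hq⟩
          · exact (hchain hch).elim
        · by_cases hexp : ∀ x : ↥H, x ^ p = 1
          · right; right; right; left
            refine ⟨hp.odd_of_ne_two hp2, ?_⟩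
            obtain ⟨E', g, hfin, hex, hcE, hexpE, ⟨m⟩⟩ := exists_small_model p hE₀card hE₀na
              (fun x => Subtype.ext (by
                have := hexp (x : ↥H)
                rw [Subgroup.coe_pow, this]; rfl))
            exact ⟨E', g, hfin, hex, hcE, hexpE, ⟨e.trans (MulEquiv.prodCongr m (MulEquiv.refl _))⟩⟩
          · push_neg at hexp
            exact (hchain (Cfsg.Agent.Lib.Helper14.PQuartic.chain_of_exp_sq hp2 hcard hna hfr hcyc hexp)).elim

end Cfsg.Agent.H84.Quart
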