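import Cfsg.Agent.H84.SCEss
import Cfsg.Agent.H84.Transv
import Cfsg.Agent.Lib.Helper88.ExtLarge
import Cfsg.Agent.Lib.Helper91.TorusSq

set_option autoImplicit false
open Cfsg Cfsg.FusionSystem

/-! The torus argument for an essential subgroup of order `p ^ 2`. -/

namespace Cfsg.Agent.H84.RkH

open Cfsg.Agent.H84 Cfsg.Agent.Lib.Helper24.ConjAction Cfsg.Agent.H84.SCEss

theorem exists_half {p : ℕ} [Fact p.Prime] (hp5 : 5 ≤ p) : ∃ b : ℕ, 2 * b ≡ 1 [MOD p] := by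
  have hp : p.Prime := Fact.out
  rcases hp.eq_two_or_odd with h | h
  · omega
  · refine ⟨(p + 1) / 2, ?_⟩
    have : 2 * ((p + 1) / 2) = p + 1 := by omega
    rw [this]
    simp [Nat.ModEq]

/-- [R4] the torus argument for an essential subgroup of order `p ^ 2` -/
theorem caseH {Ω : Type*} [Group Ω] {S : Subgroup Ω} [Finite S] {p : ℕ} [Fact p.Prime]
    (hp5 : 5 ≤ p) (hS : IsPGroup p S) (F : Cfsg.FusionSystem S) (hF : F.IsSaturated p)
    (A : Subgroup Ω) (hcomm : ∀ s ∈ S, ∀ u ∈ S, u⁻¹ * (s * u * s⁻¹) ∈ A)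
    (P : Subgroup Ω) (hP : F.IsEssential p P) (hPcard : Nat.card P = p ^ 2)
    (hbig : ∀ E : Subgroup Ω, F.IsEssential p E → Nat.card E ≤ p ^ 2) :
    ∃ α : MulAut S, α ∈ F.autGroup S ∧ ∃ b : ℕ, 2 * b ≡ 1 [MOD p] ∧
      ∀ (g : Ω) (hg : g ∈ S), g ∈ P → ((α ⟨g, hg⟩ : S) : Ω) * g ^ b ∈ A := by
  obtain ⟨hPS, hC⟩ := ess_centric F hP
  have hne : P ≠ S := Cfsg.Agent.H84.FusZ.ess_ne hS F hF hP
  have hlt : P < S := lt_of_le_of_ne hPS hne
  obtain ⟨t, htS, htN, htP, htp⟩ := exists_normalizer_pow_mem hS hlt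
  haveI : Finite P := finite_of_le hPS
  have hPc : ∀ a b : P, a * b = b * a :=
    (IsPGroup.isMulCommutative_of_card_eq_prime_sq hPcard).is_comm.comm
  have hτ : conjAut P t htN ∈ F.autGroup P := conjAut_mem_autGroup F hPS htS htN
  have hτ1 : conjAut P t htN ∉ Inn P := conjAut_not_inn hPS hC htS htN htP
  have hτp : (conjAut P t htN) ^ p ∈ Inn P := conjAut_pow_inn htN htp
  have hτp1 : (conjAut P t htN) ^ p = 1 := by
    ext x
    rw [conjAut_pow]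
    have := hPc ⟨t ^ p, htp⟩ x
    have h2 : t ^ p * (x : Ω) = x * t ^ p := congrArg Subtype.val this
    rw [h2]
    simp
  obtain ⟨γ, hγ, hnp⟩ := exists_aut_not_pgroup F hP hτ hτ1 hτp
  obtain ⟨b, hb⟩ := exists_half hp5
  obtain ⟨δ, hδmem, hδ1, hδ2⟩ := Cfsg.Agent.Lib.Helper91.TorusSq.torus_sq (H := ↥P) hPcard (conjAut P t htN) γ hτp1 hnp 2 b hb
  have hδ : δ ∈ F.autGroup P := by
    have hle : Subgroup.closure ({conjAut P t htN, γ * conjAut P t htN * γ⁻¹} : Set (MulAut P)) ≤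
        F.autGroup P := by
      rw [Subgroup.closure_le]
      intro β hβ
      simp only [Set.mem_insert_iff, Set.mem_singleton_iff] at hβ
      rcases hβ with rfl | rfl
      · exact hτ
      · exact Subgroup.mul_mem _ (Subgroup.mul_mem _ hγ hτ) (Subgroup.inv_mem _ hγ)
    exact hle hδmem
  have hth : ∀ x : P, ((δ (conjAut P t htN x) : P) : Ω) =
      t ^ (2 * 2) * ((δ x : P) : Ω) * (t ^ (2 * 2))⁻¹ := by
    intro x
    have e1 : δ (conjAut P t htN x) = ((conjAut P t htN) ^ (2 * 2)) (δ x) := by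
      have := congrArg (fun f : MulAut P => f x) hδ2
      simpa [MulAut.mul_apply] using this
    rw [e1, conjAut_pow]
  obtain ⟨N, ψ, hψ, hPN, htm, hψP, -, -⟩ :=
    exists_ext hS F hF hP hδ htS htN (S.pow_mem htS (2 * 2)) hth
  have hNS : N ≤ S := (F.le_of_mem hψ).1
  haveI : Finite N := finite_of_le hNS
  have hcardN : Nat.card P < Nat.card N := by
    by_contra hcon
    have : P = N := Subgroup.eq_of_le_of_card_ge hPN (not_lt.mp hcon)
    exact htP (this ▸ htm)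
  have hQ : ∀ E : Subgroup Ω, F.IsEssential p E → Nat.card E < Nat.card N := by
    intro E hE
    exact lt_of_le_of_lt (hbig E hE) (hPcard ▸ hcardN)
  obtain ⟨α, hα, hαψ⟩ := Cfsg.Agent.Lib.Helper88.ExtLarge.ext_of_large p hS F hF N hQ ψ hψ
  refine ⟨α, hα, b, hb, ?_⟩
  intro g hg hgP
  have e1 : ((α ⟨g, hg⟩ : S) : Ω) = ((δ ⟨g, hgP⟩ : P) : Ω) := by
    rw [← hψP ⟨g, hgP⟩ (hPN hgP)]
    exact hαψ ⟨g, hPN hgP⟩ hg
  obtain ⟨y, hy⟩ := hδ1 ⟨g, hgP⟩
  have e2 : ((δ ⟨g, hgP⟩ : P) : Ω) * g ^ b = (y : Ω)⁻¹ * (t * y * t⁻¹) := by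
    have := congrArg Subtype.val hy
    simpa [conjAut_apply] using this
  rw [e1, e2]
  exact hcomm t htS y (hPS y.2)

end Cfsg.Agent.H84.RkH
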