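import Mathlib
import Cfsg.Agent.S5283
import Cfsg.Agent.H85.Iso2
import Cfsg.Agent.Lib.Helper87.FSNormal
import Cfsg.Agent.Lib.Helper87.FSSat
import Cfsg.Agent.Lib.Helper87.FSBasic
import Cfsg.Agent.H85.GroupFS2

set_option autoImplicit false

/-!
Supersoluble type (S5287), part A: the chain property, and the generic obstruction
coming from a saturated system with a map that is not a conjugation of the group.
-/

namespace Cfsg.Agent.H84.SupA

open Cfsg Cfsg.FusionSystem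

variable {Ω : Type*} [Group Ω] {S : Subgroup Ω}

/-- The supersoluble chain property of a system. -/
def Chain (F : FusionSystem S) : Prop :=
  ∃ (m : ℕ) (c : Fin (m + 1) → Subgroup Ω), c 0 = ⊥ ∧ c (Fin.last m) = S ∧
    (∀ i : Fin (m + 1), F.StronglyClosed (c i)) ∧
    ∀ i : Fin m, c i.castSucc ≤ c i.succ ∧ ∃ x ∈ S, c i.succ = c i.castSucc ⊔ Subgroup.zpowers x

/-- If no automorphism of `S` has odd order, then `Aut_F(S) = Inn(S)` for saturated `F`. -/
theorem autGroup_eq_inn [Finite S]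
    (hodd : ∀ (α : MulAut S) (N : ℕ), Odd N → α ^ N = 1 → α = 1)
    (F : FusionSystem S) (hF : F.IsSaturated 2) : F.autGroup S = Inn S := by
  haveI : Fact (Nat.Prime 2) := ⟨Nat.prime_two⟩
  obtain ⟨-, R, hR⟩ := (Lib.Helper87.FSSat.far_top F hF).1
  have hp : IsPGroup 2 (F.autGroup S) := by
    intro β
    have ho : orderOf β ≠ 0 := (orderOf_pos β).ne'
    obtain ⟨a, m, hm, hom⟩ := Nat.exists_eq_pow_mul_and_not_dvd ho 2 (by norm_num)
    refine ⟨a, ?_⟩
    have hmodd : Odd m := Nat.odd_iff.mpr (by omega)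
    have h1 : ((β : MulAut S) ^ (2 ^ a)) ^ m = 1 := by
      rw [← pow_mul, ← hom, ← Subgroup.coe_pow, pow_orderOf_eq_one]
      rfl
    have h2 := hodd _ m hmodd h1
    apply Subtype.ext
    rw [Subgroup.coe_pow]; exact h2
  have htop : (⊤ : Subgroup (F.autGroup S)) = R := R.3 (hp.to_subgroup ⊤) le_top
  rw [hR] at htop
  have hle : F.autGroup S ≤ autInducedBy S S := Subgroup.subgroupOf_eq_top.mp htop.symm
  ext α
  constructor
  · intro hα
    obtain ⟨s, hs, hsα⟩ := (Cfsg.Agent.H85.mem_autInducedBy_iff S S α).mp (hle hα)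
    refine ⟨⟨s, hs⟩, ?_⟩
    ext x
    exact (hsα x).symm
  · rintro ⟨s, rfl⟩
    refine (Lib.Helper87.FSBasic.mem_autGroup_iff F le_rfl _).mpr ?_
    exact Lib.Helper87.FSBasic.mem_of_eq F (F.conj_mem le_rfl s.2) (fun x => rfl)

/-- If `S` is normal in a saturated `F` and has no automorphism of odd order, every map of `F`
is a conjugation by an element of `S`. -/
theorem conj_of_normal [Finite S]
    (hodd : ∀ (α : MulAut S) (N : ℕ), Odd N → α ^ N = 1 → α = 1)
    (F : FusionSystem S) (hF : F.IsSaturated 2) (hN : F.IsNormal S) {A : Subgroup Ω}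
    {φ : A →* Ω} (hφ : φ ∈ F.Hom A) : ∃ s ∈ S, ∀ x : A, φ x = s * (x : Ω) * s⁻¹ := by
  have hA : A ≤ S := (F.le_of_mem hφ).1
  obtain ⟨a, ha, hax⟩ := Lib.Helper87.FSNormal.exists_aut_of_isNormal F hN hφ hA
  rw [autGroup_eq_inn hodd F hF] at ha
  obtain ⟨s, rfl⟩ := ha
  refine ⟨s, s.2, fun x => ?_⟩
  rw [← hax x]
  rfl

/-- A saturated system on an isomorphic copy of `S` with a map that is not a conjugation shows
that not all saturated systems on `S` have a supersoluble chain (if `S` has no automorphism of odd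
order). -/
theorem not_all_chain [Finite S] (hS : IsPGroup 2 S)
    (hodd : ∀ (α : MulAut S) (N : ℕ), Odd N → α ^ N = 1 → α = 1)
    {Ω' : Type*} [Group Ω'] {P : Subgroup Ω'} [Finite P] (hP : IsPGroup 2 P)
    (F₀ : FusionSystem P) (hF₀ : F₀.IsSaturated 2) (e : P ≃* S)
    (A : Subgroup Ω') (φ : A →* Ω') (hφ : φ ∈ F₀.Hom A) (a : A)
    (hn : ∀ s ∈ P, s * (a : Ω') * s⁻¹ ≠ φ a) :
    ¬ ∀ F : FusionSystem S, F.IsSaturated 2 → Chain F := by
  intro hall
  haveI : Fact (Nat.Prime 2) := ⟨Nat.prime_two⟩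
  have h83 := ((Cfsg.Agent.S5283.result 2 hS).mp hall).1
  obtain ⟨F', hiso⟩ := Cfsg.Agent.H85.exists_isoRel F₀ e
  have hF' : F'.IsSaturated 2 := hiso.saturated hP hF₀
  have hN := h83 F' hF'
  obtain ⟨A', φ', hm, hφ'⟩ := hiso.exists_push hφ
  obtain ⟨s', hs', hconj⟩ := conj_of_normal hodd F' hF' hN hφ'
  have h1 := hm.apply a
  rw [hconj, Cfsg.Agent.H85.Corr.coe_equiv] at h1
  have hA : A ≤ P := (F₀.le_of_mem hφ).1
  have h2 : e ⟨φ a, hm.val_mem a⟩ = ⟨s', hs'⟩ * e ⟨a, hA a.2⟩ * ⟨s', hs'⟩⁻¹ :=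
    Subtype.ext h1.symm
  have h3 : (⟨φ a, hm.val_mem a⟩ : P) = e.symm ⟨s', hs'⟩ * ⟨a, hA a.2⟩ * (e.symm ⟨s', hs'⟩)⁻¹ := by
    rw [← e.symm_apply_apply ⟨φ a, hm.val_mem a⟩, h2, map_mul, map_mul, map_inv,
      e.symm_apply_apply]
  have h4 := congrArg (Subtype.val) h3
  exact hn _ (e.symm ⟨s', hs'⟩).2 h4.symm

end Cfsg.Agent.H84.SupA
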