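import Cfsg.Agent.H84.SCMeta
import Cfsg.Agent.H84.Meta2
import Cfsg.Agent.S1896

set_option autoImplicit false
open Cfsg Cfsg.FusionSystem

/-! Strongly closed metacyclic subgroups, `p = 2`: unless dihedral, generalized quaternion or
quasi-dihedral, they lie in every essential subgroup. -/

namespace Cfsg.Agent.H84.SCMeta2

open Cfsg.Agent.H84 Cfsg.Agent.H84.SCEss Cfsg.Agent.H84.SCMeta Cfsg.Agent.H84.Transv
  Cfsg.Agent.Lib.Helper24.ConjAction Cfsg.Agent.H84.Meta2

section aut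

variable {Y : Type*} [Group Y]

open Cfsg.Agent.Lib.Helper88.AutOmega in
/-- A `p'`-automorphism fixing every element of order dividing `p` of an invariant abelian
`p`-subgroup `H` fixes `H` elementwise. -/
theorem fix_abelian_of_fix_omega [Finite Y] (p : ℕ) [Fact p.Prime] (γ : MulAut Y)
    (hγ : (orderOf γ).Coprime p) (H : Subgroup Y) (hH : IsPGroup p H)
    (hab : ∀ x ∈ H, ∀ y ∈ H, x * y = y * x)
    (hinv : ∀ x ∈ H, γ x ∈ H) (hfix : ∀ x ∈ H, x ^ p = 1 → γ x = x) : ∀ x ∈ H, γ x = x := by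
  have ho : (orderOf (SemidirectProduct.inr γ : Hol Y)).Coprime p := by
    rw [orderOf_injective (SemidirectProduct.inr : MulAut Y →* Hol Y)
      SemidirectProduct.inr_injective]
    exact hγ
  have hQ : IsPGroup p (H.map (SemidirectProduct.inl : Y →* Hol Y)) := hH.map _
  obtain ⟨k, hk⟩ := IsPGroup.iff_card.mp hQ
  have key := centralizes_abelian_of_centralizes_omega p (SemidirectProduct.inr γ : Hol Y)
    (H.map (SemidirectProduct.inl : Y →* Hol Y)) (by rw [hk]; exact ho.pow_right k) hQ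
    (by
      rintro _ ⟨x, hx, rfl⟩ _ ⟨y, hy, rfl⟩
      rw [← map_mul, ← map_mul, hab x hx y hy])
    (inr_mem_normalizer γ H hinv) (by
      rintro _ ⟨x, hx, rfl⟩ hom
      rw [← map_pow] at hom
      have hx' : x ^ p = 1 := SemidirectProduct.inl_injective (by rw [hom, map_one])
      exact (inl_commute_iff γ x).2 (hfix x hx hx'))
  intro x hx
  exact (inl_commute_iff γ x).1 (key _ ⟨x, hx, rfl⟩)

/-- The automorphisms trivial on `Y / M` and on the elements of order dividing `p` of the abelian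
subgroup `M` form a `p`-group. -/
theorem isPGroup_triv_omega_abelian [Finite Y] {p : ℕ} [Fact p.Prime] (hY : IsPGroup p Y)
    (M W : Subgroup Y) (hMc : ∀ x ∈ M, ∀ y ∈ M, x * y = y * x)
    (hW : ∀ x, x ∈ M → x ^ p = 1 → x ∈ W) : IsPGroup p (triv M W) := by
  apply Cfsg.Agent.Lib.Helper88.AutOmega.isPGroup_of_coprime_trivial
  intro β hβ hcop
  have hfixM : ∀ x ∈ M, β x = x :=
    fix_abelian_of_fix_omega p β hcop M (hY.to_subgroup M) hMc
      (fun x hx => triv_map_mem hβ hx) (fun x hx hxp => hβ.2 x (hW x hx hxp))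
  have hmem : β ∈ chainStab M ⊥ bot_le := by
    refine ⟨hβ.1, fun x hx => ?_, fun x hx => ?_⟩
    · rw [hfixM x hx, inv_mul_cancel]; exact Subgroup.mem_bot.mpr rfl
    · rw [Subgroup.mem_bot.mp hx, map_one]
  obtain ⟨k, hk⟩ := (isPGroup_chainStab hY M ⊥ bot_le) ⟨β, hmem⟩
  have hk' : β ^ p ^ k = 1 := congrArg Subtype.val hk
  have hdvd : orderOf β ∣ p ^ k := orderOf_dvd_of_pow_eq_one hk'
  have h1 : orderOf β = 1 := Nat.Coprime.eq_one_of_dvd (hcop.pow_right k) hdvd
  exact orderOf_eq_one_iff.mp h1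

/-- If `Aut(M)` is a `p`-group, the automorphisms of the `p`-group `Y` trivial on `Y / M` form a
`p`-group. -/
theorem isPGroup_triv_bot [Finite Y] {p : ℕ} [Fact p.Prime] (hY : IsPGroup p Y) (M : Subgroup Y)
    (hA : IsPGroup p (MulAut M)) : IsPGroup p (triv M ⊥) := by
  apply Cfsg.Agent.Lib.Helper88.AutOmega.isPGroup_of_coprime_trivial
  intro β hβ hcop
  have hst : β ∈ stab M := by
    intro x
    constructor
    · intro h
      have : x = β x * (x⁻¹ * β x)⁻¹ := by group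
      rw [this]; exact M.mul_mem h (M.inv_mem (hβ.1 x))
    · exact fun hx => triv_map_mem hβ hx
  obtain ⟨k, hk⟩ := hA (res M ⟨β, hst⟩)
  have hfixk : ∀ x ∈ M, (β ^ p ^ k) x = x := by
    intro x hx
    have h1 : res M (⟨β, hst⟩ ^ p ^ k) = 1 := by rw [map_pow]; exact hk
    have h2 := congrArg (fun f : MulAut M => ((f ⟨x, hx⟩ : M) : Y)) h1
    exact h2
  obtain ⟨m, hm⟩ := exists_pow_eq_self_of_coprime (x := β) (n := p ^ k)
    (Nat.Coprime.pow_left k hcop.symm)
  have hfixM : ∀ x ∈ M, β x = x := by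
    intro x hx
    have key : ∀ j : ℕ, ((β ^ p ^ k) ^ j) x = x := by
      intro j
      induction j with
      | zero => simp
      | succ j ih => rw [pow_succ, MulAut.mul_apply, hfixk x hx, ih]
    have := key m
    rwa [hm] at this
  have hmem : β ∈ chainStab M ⊥ bot_le := by
    refine ⟨hβ.1, fun x hx => ?_, fun x hx => ?_⟩
    · rw [hfixM x hx, inv_mul_cancel]; exact Subgroup.mem_bot.mpr rfl
    · rw [Subgroup.mem_bot.mp hx, map_one]
  obtain ⟨k', hk'⟩ := (isPGroup_chainStab hY M ⊥ bot_le) ⟨β, hmem⟩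
  have hk'' : β ^ p ^ k' = 1 := congrArg Subtype.val hk'
  have hdvd : orderOf β ∣ p ^ k' := orderOf_dvd_of_pow_eq_one hk''
  have h1 : orderOf β = 1 := Nat.Coprime.eq_one_of_dvd (hcop.pow_right k') hdvd
  exact orderOf_eq_one_iff.mp h1

/-- The elements of order dividing `2` of an abelian subgroup. -/
def omegaTwo (M : Subgroup Y) (hMc : ∀ x ∈ M, ∀ y ∈ M, x * y = y * x) : Subgroup Y where
  carrier := {x | x ∈ M ∧ x ^ 2 = 1}
  mul_mem' := by
    rintro a b ⟨ha, ha2⟩ ⟨hb, hb2⟩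
    refine ⟨M.mul_mem ha hb, ?_⟩
    have h : Commute a b := hMc a ha b hb
    rw [h.mul_pow, ha2, hb2, one_mul]
  one_mem' := ⟨M.one_mem, one_pow 2⟩
  inv_mem' := by
    rintro a ⟨ha, ha2⟩
    exact ⟨M.inv_mem ha, by rw [inv_pow, ha2, inv_one]⟩

end aut

/-! ### homocyclic groups of rank two -/

theorem zmod_even_of_two_mul {n : ℕ} (hn : 2 ≤ n) (a : ZMod (2 ^ n)) (h : a + a = 0) :
    ∃ a' : ZMod (2 ^ n), a' + a' = a := by
  haveI : NeZero (2 ^ n) := ⟨by positivity⟩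
  have h1 : ((a.val + a.val : ℕ) : ZMod (2 ^ n)) = 0 := by
    rw [Nat.cast_add, ZMod.natCast_zmod_val]; exact h
  rw [ZMod.natCast_eq_zero_iff] at h1
  obtain ⟨m, rfl⟩ : ∃ m, n = m + 2 := ⟨n - 2, by omega⟩
  have h2 : 2 ∣ a.val := by
    have : (4 : ℕ) ∣ a.val + a.val := dvd_trans ⟨2 ^ m, by ring⟩ h1
    omega
  obtain ⟨c, hc⟩ := h2
  refine ⟨(c : ZMod _), ?_⟩
  rw [← Nat.cast_add, ← two_mul, ← hc, ZMod.natCast_zmod_val]

theorem homocyclic_facts {A : Type*} [Group A] (n : ℕ)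
    (e : A ≃* Multiplicative (ZMod (2 ^ n)) × Multiplicative (ZMod (2 ^ n))) :
    Nat.card A = 2 ^ n * 2 ^ n ∧ (∀ x : A, x ^ (2 ^ n) = 1) ∧ (∀ x y : A, x * y = y * x) ∧
      (n ≠ 1 → ∀ u : A, u ^ 2 = 1 → ∃ x : A, x ^ 2 = u) := by
  haveI : NeZero (2 ^ n) := ⟨by positivity⟩
  have hcard : Nat.card A = 2 ^ n * 2 ^ n := by
    rw [Nat.card_congr e.toEquiv, Nat.card_prod]
    have : Nat.card (Multiplicative (ZMod (2 ^ n))) = 2 ^ n := by
      rw [Nat.card_congr Multiplicative.toAdd, Nat.card_zmod]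
    rw [this]
  refine ⟨hcard, ?_, ?_, ?_⟩
  · intro x
    apply e.injective
    rw [map_pow, map_one]
    apply Prod.ext
    · show (e x).1 ^ 2 ^ n = 1
      apply Multiplicative.toAdd.injective
      rw [toAdd_pow, toAdd_one, nsmul_eq_mul, ZMod.natCast_self, zero_mul]
    · show (e x).2 ^ 2 ^ n = 1
      apply Multiplicative.toAdd.injective
      rw [toAdd_pow, toAdd_one, nsmul_eq_mul, ZMod.natCast_self, zero_mul]
  · intro x y
    apply e.injective
    rw [map_mul, map_mul, mul_comm]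
  · intro hn1 u hu
    by_cases hn0 : n = 0
    · subst hn0
      rw [pow_zero, one_mul] at hcard
      have hsub : Subsingleton A := (Nat.card_eq_one_iff_unique.mp hcard).1
      exact ⟨1, Subsingleton.elim _ _⟩
    · have hn2 : 2 ≤ n := by omega
      have h1 := congrArg e hu
      rw [map_pow, map_one] at h1
      have ha : Multiplicative.toAdd (e u).1 + Multiplicative.toAdd (e u).1 = 0 := by
        have h2 := congrArg (fun q => Multiplicative.toAdd q.1) h1
        simp only [Prod.pow_fst, toAdd_pow, Prod.fst_one, toAdd_one] at h2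
        rw [← two_nsmul]; exact h2
      have hb : Multiplicative.toAdd (e u).2 + Multiplicative.toAdd (e u).2 = 0 := by
        have h2 := congrArg (fun q => Multiplicative.toAdd q.2) h1
        simp only [Prod.pow_snd, toAdd_pow, Prod.snd_one, toAdd_one] at h2
        rw [← two_nsmul]; exact h2
      obtain ⟨a', ha'⟩ := zmod_even_of_two_mul hn2 _ ha
      obtain ⟨b', hb'⟩ := zmod_even_of_two_mul hn2 _ hb
      refine ⟨e.symm (Multiplicative.ofAdd a', Multiplicative.ofAdd b'), ?_⟩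
      apply e.injective
      rw [map_pow, MulEquiv.apply_symm_apply]
      apply Prod.ext
      · show (Multiplicative.ofAdd a') ^ 2 = (e u).1
        rw [pow_two, ← ofAdd_add, ha']; rfl
      · show (Multiplicative.ofAdd b') ^ 2 = (e u).2
        rw [pow_two, ← ofAdd_add, hb']; rfl

/-! ### the main result -/

section main

variable {Ω : Type*} [Group Ω] {S : Subgroup Ω} [Finite S]

/-- A strongly closed metacyclic subgroup (`p = 2`) which is not dihedral, generalized quaternion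
or quasi-dihedral lies in every essential subgroup. -/
theorem le_of_essential₂ [Fact (Nat.Prime 2)] (hS : IsPGroup 2 S) (F : FusionSystem S)
    {P : Subgroup Ω} (hP : F.StronglyClosed P) (hm : Cfsg.IsMetacyclic P) (hdqs : ¬ DQS P)
    {E : Subgroup Ω} (hE : F.IsEssential 2 E) : P ≤ E := by
  by_contra hPE
  obtain ⟨hES, hC⟩ := ess_centric F hE
  haveI : Finite E := finite_of_le hES
  haveI : Finite P := finite_of_le hP.1
  have hEp : IsPGroup 2 E := hS.to_le hES
  have hPp : IsPGroup 2 P := hS.to_le hP.1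
  obtain ⟨t, htP, htN, htE, htp⟩ := exists_t hS F hP hES hPE
  have htS : t ∈ S := hP.1 htP
  obtain ⟨ME, hME⟩ : ∃ ME : Subgroup E, ME = P.subgroupOf E := ⟨_, rfl⟩
  have hMEmem : ∀ x : E, x ∈ ME ↔ (x : Ω) ∈ P := fun x => by
    rw [hME, Subgroup.mem_subgroupOf]
  let f : ME →* P :=
    { toFun := fun x => ⟨((x : E) : Ω), (hMEmem x).mp x.2⟩
      map_one' := rfl
      map_mul' := fun _ _ => rfl }
  have hfinj : Function.Injective f := by
    intro a b hab
    apply Subtype.ext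
    apply Subtype.ext
    exact congrArg (fun z : P => (z : Ω)) hab
  have hMEm : Cfsg.IsMetacyclic ME := Cfsg.Agent.S1447.isMetacyclic_of_injective hm f hfinj
  have hGME : ∀ γ ∈ F.autGroup E, ∀ x, x ∈ ME → γ x ∈ ME := fun γ hγ x hx =>
    (hMEmem _).mpr (sc_aut_mem F hP hES hγ x ((hMEmem x).mp hx))
  obtain ⟨ct, hct⟩ : ∃ ct : MulAut E, ct = conjAut E t htN := ⟨_, rfl⟩
  have hctG : ct ∈ F.autGroup E := hct ▸ conjAut_mem_autGroup F hES htS htN
  have hctI : ct ∉ Inn E := hct ▸ conjAut_not_inn hES hC htS htN htE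
  have hctp : ct ^ 2 ∈ Inn E := hct ▸ conjAut_pow_inn htN htp
  have hctap : ∀ x : E, ((ct x : E) : Ω) = t * x * t⁻¹ := fun x => by rw [hct]; rfl
  have hctB : ct ∈ triv ME ⊥ := by
    refine ⟨fun x => ?_, fun x hx => by rw [Subgroup.mem_bot.mp hx, map_one]⟩
    rw [hMEmem]
    show (x : Ω)⁻¹ * ((ct x : E) : Ω) ∈ P
    rw [hctap]
    have h1 : (x : Ω)⁻¹ * t * ((x : Ω)⁻¹)⁻¹ ∈ P :=
      sc_conj_mem F hP (S.inv_mem (hES x.2)) htP
    have h2 : (x : Ω)⁻¹ * (t * x * t⁻¹) = ((x : Ω)⁻¹ * t * ((x : Ω)⁻¹)⁻¹) * t⁻¹ := by group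
    rw [h2]; exact P.mul_mem h1 (P.inv_mem htP)
  obtain ⟨γ, hγG, hγnp⟩ := exists_aut_not_pgroup F hE hctG hctI hctp
  have hcgB : γ * ct * γ⁻¹ ∈ triv ME ⊥ := conj_mem_triv hctB (hGME γ hγG)
    (fun x hx => by rw [Subgroup.mem_bot.mp hx, map_one]; exact Subgroup.mem_bot.mpr rfl)
  have hDle : Subgroup.closure ({ct, γ * ct * γ⁻¹} : Set (MulAut E)) ≤ triv ME ⊥ := by
    rw [Subgroup.closure_le]
    intro d hd
    simp only [Set.mem_insert_iff, Set.mem_singleton_iff] at hd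
    rcases hd with rfl | rfl
    · exact hctB
    · exact hcgB
  have hAnp : ¬ IsPGroup 2 (MulAut ME) :=
    fun h => hγnp ((isPGroup_triv_bot hEp ME h).to_le hDle)
  rcases Cfsg.Agent.S1896.result (hEp.to_subgroup ME) hMEm hAnp with ⟨⟨e⟩⟩ | ⟨n, ⟨e⟩⟩
  · apply hdqs
    exact dqs_of_quaternion hPp hm (f.comp e.symm.toMonoidHom) (hfinj.comp e.symm.injective)
  · obtain ⟨-, -, hcomm, -⟩ := homocyclic_facts n e
    have hMEc : ∀ x ∈ ME, ∀ y ∈ ME, x * y = y * x := fun x hx y hy =>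
      congrArg Subtype.val (hcomm ⟨x, hx⟩ ⟨y, hy⟩)
    obtain ⟨W, hW⟩ : ∃ W : Subgroup E, W = omegaTwo ME hMEc := ⟨_, rfl⟩
    have hWmem : ∀ x : E, x ∈ W ↔ x ∈ ME ∧ x ^ 2 = 1 := fun x => by rw [hW]; rfl
    have hGW : ∀ γ ∈ F.autGroup E, ∀ x, x ∈ W → γ x ∈ W := by
      intro γ hγ x hx
      rw [hWmem] at hx ⊢
      exact ⟨hGME γ hγ x hx.1, by rw [← map_pow, hx.2, map_one]⟩
    have hN'p : IsPGroup 2 (triv ME W) := isPGroup_triv_omega_abelian hEp ME W hMEc
      (fun x hx hxp => (hWmem x).mpr ⟨hx, hxp⟩)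
    have hN'inn : triv ME W ⊓ F.autGroup E ≤ Inn E := normal_pSubgroup_le_inn F hE (triv ME W)
      (fun γ hγ k hk => conj_mem_triv hk (hGME γ hγ) (fun x hx => hGW γ⁻¹ (inv_mem hγ) x hx))
      hN'p
    obtain ⟨u, huW, hu⟩ : ∃ u ∈ W, ct u ≠ u := by
      by_contra hcon
      push_neg at hcon
      exact hctI (hN'inn ⟨⟨hctB.1, hcon⟩, hctG⟩)
    have huM := ((hWmem u).mp huW).1
    have hu2 := ((hWmem u).mp huW).2
    obtain ⟨M', hM'⟩ : ∃ M' : Subgroup P, M' = E.subgroupOf P := ⟨_, rfl⟩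
    have hM'mem : ∀ x : P, x ∈ M' ↔ (x : Ω) ∈ E := fun x => by
      rw [hM', Subgroup.mem_subgroupOf]
    let g : M' ≃* ME :=
      { toFun := fun y => ⟨⟨y.1.1, (hM'mem y.1).mp y.2⟩, (hMEmem _).mpr y.1.2⟩
        invFun := fun x => ⟨⟨x.1.1, (hMEmem x.1).mp x.2⟩, (hM'mem _).mpr x.1.2⟩
        left_inv := fun y => rfl
        right_inv := fun x => rfl
        map_mul' := fun a b => rfl }
    obtain ⟨hcard', hexp', hcomm', hsq'⟩ := homocyclic_facts n (g.trans e)
    obtain ⟨t', ht'⟩ : ∃ t' : P, t' = ⟨t, htP⟩ := ⟨_, rfl⟩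
    obtain ⟨u', hu'⟩ : ∃ u' : P, u' = ⟨u.1, (hMEmem u).mp huM⟩ := ⟨_, rfl⟩
    have htM' : ∀ x ∈ M', t' * x * t'⁻¹ ∈ M' := by
      intro x hx
      rw [hM'mem] at hx ⊢
      rw [ht']
      exact (Subgroup.mem_normalizer_iff.mp htN _).mp hx
    have ht2' : t' ^ 2 ∈ M' := by
      rw [hM'mem, ht']; exact htp
    have hu'M : u' ∈ M' := by rw [hM'mem, hu']; exact u.2
    have hu'2 : u' ^ 2 = 1 := by
      rw [hu']; apply Subtype.ext
      have := congrArg Subtype.val hu2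
      simpa using this
    have htu' : t' * u' * t'⁻¹ ≠ u' := by
      intro h
      apply hu
      apply Subtype.ext
      rw [hctap]
      have := congrArg Subtype.val h
      rw [ht', hu'] at this
      exact this
    have hexpM : ∀ x ∈ M', x ^ 2 ^ n = 1 := fun x hx => congrArg Subtype.val (hexp' ⟨x, hx⟩)
    have hcommM : ∀ x ∈ M', ∀ y ∈ M', x * y = y * x := fun x hx y hy =>
      congrArg Subtype.val (hcomm' ⟨x, hx⟩ ⟨y, hy⟩)
    by_cases hn1 : n = 1
    · subst hn1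
      apply hdqs
      exact dqs_of_four hPp hm M' (by rw [hcard']; norm_num)
        (fun x hx => by simpa using hexpM x hx) htM' ht2' hu'M htu'
    · exact false_of_homocyclic hPp hm M' n hcard' hexpM hcommM
        (fun v hv hv2 => by
          obtain ⟨x, hx⟩ := hsq' hn1 ⟨v, hv⟩ (Subtype.ext hv2)
          exact ⟨x.1, x.2, congrArg Subtype.val hx⟩)
        htM' ht2' hu'M hu'2 htu'

end main

end Cfsg.Agent.H84.SCMeta2
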