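import Mathlib
import Cfsg.Agent.H84.SupA
import Cfsg.Agent.S5235
import Cfsg.Agent.S1896

set_option autoImplicit false

/-!
Supersoluble type (S5287), part B: cyclic groups, and the `2`-groups that are not excluded.
-/

namespace Cfsg.Agent.H84.SupB

open Cfsg Cfsg.FusionSystem Cfsg.Agent.H84.SupA

variable {Ω : Type*} [Group Ω] {S : Subgroup Ω}

theorem stronglyClosed_self (F : FusionSystem S) : F.StronglyClosed S :=
  ⟨le_rfl, fun _ _ _ hφ x => (F.le_of_mem hφ).2 x⟩

/-- A cyclic group has the chain `⊥ ≤ S`. -/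
theorem chain_of_cyclic (F : FusionSystem S) (hc : IsCyclic S) : Chain F := by
  obtain ⟨g, hg⟩ := hc.exists_generator
  refine ⟨1, fun i => if (i : ℕ) = 0 then ⊥ else S, ?_, ?_, ?_, ?_⟩
  · simp
  · simp
  · intro i
    by_cases h : (i : ℕ) = 0
    · simp only [h, if_true]
      exact Cfsg.Agent.H85.stronglyClosed_bot F
    · simp only [h, if_false]
      exact stronglyClosed_self F
  · intro i
    have hi : i = 0 := Subsingleton.elim _ _
    subst hi
    refine ⟨by simp, (g : Ω), g.2, ?_⟩
    simp only [Fin.succ_zero_eq_one, Fin.val_one, one_ne_zero, if_false, Fin.castSucc_zero,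
      Fin.val_zero, if_true, bot_sup_eq]
    apply le_antisymm
    · intro s hs
      obtain ⟨k, hk⟩ := Subgroup.mem_zpowers_iff.mp (hg ⟨s, hs⟩)
      refine Subgroup.mem_zpowers_iff.mpr ⟨k, ?_⟩
      have := congrArg Subtype.val hk
      simpa using this
    · rw [Subgroup.zpowers_le]
      exact g.2

/-- The `2`-groups that are not excluded. -/
theorem chain_two [Finite S] (hS : IsPGroup 2 S) (hm : Cfsg.IsMetacyclic S)
    (hH : ¬ ∃ n : ℕ, 0 < n ∧
      Nonempty (S ≃* Multiplicative (ZMod (2 ^ n)) × Multiplicative (ZMod (2 ^ n))))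
    (hD : ¬ ∃ n : ℕ, 2 ≤ n ∧ Nonempty (S ≃* DihedralGroup n))
    (hSD : ¬ Cfsg.IsQuasiDihedral S)
    (hQ : ¬ ∃ n : ℕ, 2 ≤ n ∧ Nonempty (S ≃* QuaternionGroup n))
    (F : FusionSystem S) (hF : F.IsSaturated 2) : Chain F := by
  haveI : Fact (Nat.Prime 2) := ⟨Nat.prime_two⟩
  by_cases hc : IsCyclic S
  · exact chain_of_cyclic F hc
  have hcard : Nat.card S ≠ 0 := Nat.card_pos.ne'
  have hd : ¬ ∃ m : ℕ, Nonempty (S ≃* DihedralGroup m) := by
    rintro ⟨m, ⟨e⟩⟩
    have hce := Nat.card_congr e.toEquiv
    rw [DihedralGroup.nat_card] at hce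
    rcases Nat.lt_or_ge m 2 with h | h
    · interval_cases m
      · omega
      · apply hc
        haveI : Fact (Nat.Prime 2) := ⟨Nat.prime_two⟩
        exact isCyclic_of_prime_card (p := 2) (by rw [hce])
    · exact hD ⟨m, h, ⟨e⟩⟩
  have hq : ¬ ∃ m : ℕ, Nonempty (S ≃* QuaternionGroup m) := by
    rintro ⟨m, ⟨e⟩⟩
    have hce := Nat.card_congr e.toEquiv
    rcases Nat.lt_or_ge m 2 with h | h
    · interval_cases m
      · have h0 : Nat.card (QuaternionGroup 0) = 0 := by
          haveI : Infinite (ZMod (2 * 0)) := (inferInstance : Infinite ℤ)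
          haveI : Infinite (QuaternionGroup 0) :=
            Infinite.of_injective QuaternionGroup.a (fun _ _ h => QuaternionGroup.a.inj h)
          exact Nat.card_eq_zero_of_infinite
        omega
      · apply hc
        haveI := QuaternionGroup.quaternionGroup_one_isCyclic
        exact isCyclic_of_surjective e.symm.toMonoidHom e.symm.surjective
    · exact hQ ⟨m, h, ⟨e⟩⟩
  have hall : ∀ F : FusionSystem S, F.IsSaturated 2 → Chain F := by
    refine (Cfsg.Agent.S5283.result 2 hS).mpr ⟨?_, ?_⟩
    · intro F' hF'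
      exact Cfsg.Agent.S5235.result 2 hS F' hF' S (stronglyClosed_self F') rfl hm hd hq hSD
    · intro H hHc
      have hA : IsPGroup 2 (MulAut S) := by
        by_contra hA
        rcases Cfsg.Agent.S1896.result hS hm hA with ⟨⟨e⟩⟩ | ⟨n, ⟨e⟩⟩
        · exact hQ ⟨2, le_rfl, ⟨e⟩⟩
        · rcases Nat.eq_zero_or_pos n with h0 | h0
          · subst h0
            apply hc
            have hce := Nat.card_congr e.toEquiv
            haveI : Subsingleton S := by
              have : Subsingleton (Multiplicative (ZMod (2 ^ 0)) × Multiplicative (ZMod (2 ^ 0))) := by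
                rw [pow_zero]
                infer_instance
              exact e.toEquiv.subsingleton
            infer_instance
          · exact hH ⟨n, h0, ⟨e⟩⟩
      have hHp : IsPGroup 2 H := hA.to_subgroup H
      obtain ⟨k, hk⟩ := IsPGroup.iff_card.mp hHp
      have hk0 : k = 0 := by
        by_contra hk0
        rw [hk] at hHc
        have : (2 : ℕ) ∣ 2 ^ k := dvd_pow_self 2 hk0
        have h2 := Nat.Coprime.eq_one_of_dvd hHc.symm this
        omega
      rw [hk0, pow_zero] at hk
      have hbot : H = ⊥ := (Subgroup.card_eq_one).mp hk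
      subst hbot
      refine ⟨?_, ?_⟩
      · refine ⟨⟨fun a b => ?_⟩⟩
        apply Subtype.ext
        have ha := Subgroup.mem_bot.mp a.2
        have hb := Subgroup.mem_bot.mp b.2
        simp [ha, hb]
      · intro h hh
        rw [Subgroup.mem_bot.mp hh, one_pow]
  exact hall F hF

end Cfsg.Agent.H84.SupB
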