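import Cfsg.Agent.H84.SCEss
import Cfsg.Agent.S1447
import Cfsg.Agent.S0638

set_option autoImplicit false
open Cfsg Cfsg.FusionSystem

/-! Strongly closed metacyclic subgroups, `p` odd: they lie in every essential subgroup. -/

namespace Cfsg.Agent.H84.SCMeta

open Cfsg.Agent.H84 Cfsg.Agent.H84.SCEss Cfsg.Agent.H84.Transv
  Cfsg.Agent.Lib.Helper24.ConjAction

/-! ### metacyclic `p`-groups, `p` odd -/

/-- In a metacyclic `p`-group (`p` odd) the elements of order dividing `p` form an abelian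
subgroup of order at most `p ^ 2`. -/
theorem exists_omega {R : Type*} [Group R] [Finite R] {p : ℕ} [Fact p.Prime] (hp2 : p ≠ 2)
    (hR : IsPGroup p R) (hm : Cfsg.IsMetacyclic R) :
    ∃ W : Subgroup R, (∀ x, x ∈ W ↔ x ^ p = 1) ∧ (∀ a ∈ W, ∀ b ∈ W, a * b = b * a) ∧
      Nat.card W ≤ p ^ 2 := by
  have hp : p.Prime := Fact.out
  by_cases hc : IsCyclic R
  · have hcomm : ∀ a b : R, a * b = b * a := Cfsg.Agent.S1447.comm_of_cyclic hc
    let W : Subgroup R :=
      { carrier := {x | x ^ p = 1}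
        mul_mem' := by
          intro a b ha hb
          show (a * b) ^ p = 1
          have ha' : a ^ p = 1 := ha
          have hb' : b ^ p = 1 := hb
          rw [(show Commute a b from hcomm a b).mul_pow, ha', hb', mul_one]
        one_mem' := one_pow p
        inv_mem' := by
          intro a ha
          have ha' : a ^ p = 1 := ha
          show a⁻¹ ^ p = 1
          rw [inv_pow, ha', inv_one] }
    refine ⟨W, fun x => Iff.rfl, fun a _ b _ => hcomm a b, ?_⟩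
    haveI := hc
    haveI : IsCyclic W := Subgroup.isCyclic W
    have h1 : Monoid.exponent W ∣ p :=
      Monoid.exponent_dvd_of_forall_pow_eq_one (fun x => Subtype.ext (by
        have : (x : R) ^ p = 1 := x.2
        simpa using this))
    rw [IsCyclic.exponent_eq_card] at h1
    calc Nat.card W ≤ p := Nat.le_of_dvd hp.pos h1
      _ ≤ p ^ 2 := by nlinarith [hp.one_lt]
  · obtain ⟨⟨hcomm, hexp⟩, hcard⟩ := Cfsg.Agent.S0638.result hp2 hR hm hc
    refine ⟨Cfsg.omegaOne p (⊤ : Subgroup R), fun x => ⟨fun hx => hexp x hx, fun hx =>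
      Subgroup.subset_closure ⟨Subgroup.mem_top x, hx⟩⟩, ?_, hcard.le⟩
    intro a ha b hb
    have := hcomm.is_comm.comm (⟨a, ha⟩ : Cfsg.omegaOne p (⊤ : Subgroup R)) ⟨b, hb⟩
    exact congrArg Subtype.val this

open Cfsg.Agent.Lib.Helper88.AutOmega in
/-- A `p'`-automorphism of a nonabelian metacyclic `p`-group (`p` odd) has a nontrivial fixed
point. -/
theorem exists_fixed_of_coprime {R : Type*} [Group R] [Finite R] {p : ℕ} [Fact p.Prime]
    (hp2 : p ≠ 2) (hR : IsPGroup p R) (hm : Cfsg.IsMetacyclic R) {a b : R} (hab : a * b ≠ b * a)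
    (β : MulAut R) (hβ : (orderOf β).Coprime p) : ∃ x : R, x ≠ 1 ∧ β x = x := by
  by_cases hβ1 : β = 1
  · refine ⟨a, ?_, by rw [hβ1]; rfl⟩
    rintro rfl
    exact hab (by simp)
  have hinl : Function.Injective (SemidirectProduct.inl : R →* Hol R) :=
    SemidirectProduct.inl_injective
  obtain ⟨R', hR'⟩ : ∃ R' : Subgroup (Hol R),
      R' = (⊤ : Subgroup R).map (SemidirectProduct.inl : R →* Hol R) := ⟨_, rfl⟩
  obtain ⟨A', hA'⟩ : ∃ A' : Subgroup (Hol R),
      A' = Subgroup.zpowers (SemidirectProduct.inr β : Hol R) := ⟨_, rfl⟩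
  have hR'p : IsPGroup p R' := by rw [hR']; exact (hR.to_subgroup ⊤).map _
  have hR'm : Cfsg.IsMetacyclic R' := by
    rw [hR']
    exact Cfsg.Agent.S1447.isMetacyclic_of_injective hm
      (((Subgroup.equivMapOfInjective ⊤ (SemidirectProduct.inl : R →* Hol R) hinl).symm.trans
        Subgroup.topEquiv).toMonoidHom) (MulEquiv.injective _)
  have hA : A' ≤ Subgroup.normalizer (R' : Set (Hol R)) := by
    rw [hA', hR', Subgroup.zpowers_le]
    exact inr_mem_normalizer β ⊤ (fun x _ => Subgroup.mem_top _)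
  have hcop : (Nat.card A').Coprime p := by
    rw [hA', Nat.card_zpowers,
      orderOf_injective (SemidirectProduct.inr : MulAut R →* Hol R) SemidirectProduct.inr_injective]
    exact hβ
  obtain ⟨-, -, -, h4⟩ := Cfsg.Agent.S1447.result p hp2 R' A' hR'p hR'm hA hcop
  have hnc : ¬ IsMulCommutative R' := by
    intro h
    have ha' : (SemidirectProduct.inl a : Hol R) ∈ R' := by
      rw [hR']; exact ⟨a, Subgroup.mem_top a, rfl⟩
    have hb' : (SemidirectProduct.inl b : Hol R) ∈ R' := by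
      rw [hR']; exact ⟨b, Subgroup.mem_top b, rfl⟩
    have := h.is_comm.comm (⟨_, ha'⟩ : R') ⟨_, hb'⟩
    have h2 : (SemidirectProduct.inl a : Hol R) * SemidirectProduct.inl b =
        SemidirectProduct.inl b * SemidirectProduct.inl a := congrArg Subtype.val this
    rw [← map_mul, ← map_mul] at h2
    exact hab (hinl h2)
  have hncent : ¬ A' ≤ Subgroup.centralizer (R' : Set (Hol R)) := by
    intro h
    apply hβ1
    ext x
    have h1 := h (show (SemidirectProduct.inr β : Hol R) ∈ A' from by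
      rw [hA']; exact Subgroup.mem_zpowers _)
    have h2 := Subgroup.mem_centralizer_iff.mp h1 (SemidirectProduct.inl x)
      (by rw [hR']; exact ⟨x, Subgroup.mem_top x, rfl⟩)
    exact (inl_commute_iff β x).mp h2
  obtain ⟨-, -, hne, -, -⟩ := h4 hnc hncent
  obtain ⟨z, hz1⟩ := (Subgroup.ne_bot_iff_exists_ne_one).mp hne
  obtain ⟨zz, hzz⟩ : ∃ zz : Hol R, zz = (z : Hol R) := ⟨_, rfl⟩
  have hzR : zz ∈ R' := by rw [hzz]; exact z.2.1
  have hzC : zz ∈ Subgroup.centralizer (A' : Set (Hol R)) := by rw [hzz]; exact z.2.2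
  rw [hR'] at hzR
  obtain ⟨x, -, hxz⟩ := hzR
  refine ⟨x, ?_, ?_⟩
  · rintro rfl
    apply hz1
    apply Subtype.ext
    rw [← hzz, ← hxz, map_one]; rfl
  · have h2 := Subgroup.mem_centralizer_iff.mp hzC (SemidirectProduct.inr β)
      (by rw [hA']; exact Subgroup.mem_zpowers _)
    rw [← hxz] at h2
    exact (inl_commute_iff β x).mp h2.symm

/-! ### a `p`-element acting on an elementary abelian group of order at most `p ^ 2` -/

section comm

variable {H : Type*} [CommGroup H]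

theorem quad_of_card [Finite H] {p : ℕ} [Fact p.Prime] (hexp : ∀ x : H, x ^ p = 1)
    (hcard : Nat.card H ≤ p ^ 2) (t : MulAut H) {k : ℕ} (hk : t ^ p ^ k = 1) (ht1 : t ≠ 1) :
    Nat.card H = p ^ 2 ∧ Nat.card (Dg t) = p ∧ Dg t = Ax t := by
  have hp : p.Prime := Fact.out
  have hH : IsPGroup p H := fun x => ⟨1, by rw [pow_one]; exact hexp x⟩
  have hD1 : Dg t ≠ ⊥ := by
    intro h
    apply ht1
    ext x
    have : x⁻¹ * t x ∈ Dg t := cm_mem t x
    rw [h, Subgroup.mem_bot] at this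
    exact (inv_mul_eq_one.mp this).symm
  have hZ : IsPGroup p (Subgroup.zpowers t) := by
    have hd : orderOf t ∣ p ^ k := orderOf_dvd_of_pow_eq_one hk
    obtain ⟨j, -, hj⟩ := (Nat.dvd_prime_pow hp).mp hd
    exact IsPGroup.of_card (n := j) (by rw [Nat.card_zpowers, hj])
  have hmod := hZ.card_modEq_card_fixedPoints H
  have hfix : MulAction.fixedPoints (Subgroup.zpowers t) H = (Ax t : Set H) := by
    ext x
    rw [MulAction.mem_fixedPoints]
    constructor
    · intro h; exact mem_Ax.mpr (h ⟨t, Subgroup.mem_zpowers t⟩)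
    · rintro h ⟨s, hs⟩
      have hle : Subgroup.zpowers t ≤ MulAction.stabilizer (MulAut H) x := by
        rw [Subgroup.zpowers_le]; exact mem_Ax.mp h
      exact hle hs
  rw [hfix] at hmod
  have hmod' : Nat.card H ≡ Nat.card (Ax t) [MOD p] := hmod
  have hHdvd : p ∣ Nat.card H := by
    rcases hH.card_eq_or_dvd with h | h
    · exfalso
      apply ht1
      have : Subsingleton H := (Nat.card_eq_one_iff_unique.mp h).1
      ext x
      exact Subsingleton.elim _ _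
    · exact h
  have hAdvd : p ∣ Nat.card (Ax t) := (Nat.ModEq.dvd_iff hmod' (dvd_refl p)).mp hHdvd
  have hDdvd : p ∣ Nat.card (Dg t) := by
    rcases (hH.to_subgroup (Dg t)).card_eq_or_dvd with h | h
    · exact absurd (Subgroup.card_eq_one.mp h) hD1
    · exact h
  have hmul : Nat.card (Ax t) * Nat.card (Dg t) = Nat.card H := by
    rw [← index_Ax]; exact Subgroup.card_mul_index (Ax t)
  obtain ⟨a, ha⟩ := hAdvd
  obtain ⟨d, hd⟩ := hDdvd
  have hapos : 0 < a := by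
    rcases Nat.eq_zero_or_pos a with h | h
    · rw [h, mul_zero] at ha
      exact absurd ha Nat.card_pos.ne'
    · exact h
  have hdpos : 0 < d := by
    rcases Nat.eq_zero_or_pos d with h | h
    · rw [h, mul_zero] at hd
      exact absurd hd Nat.card_pos.ne'
    · exact h
  have hle : p ^ 2 * (a * d) ≤ p ^ 2 * 1 := by
    have : p ^ 2 * (a * d) = Nat.card H := by rw [← hmul, ha, hd]; ring
    rw [this, mul_one]; exact hcard
  have had : a * d ≤ 1 := Nat.le_of_mul_le_mul_left hle (pow_pos hp.pos 2)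
  have ha1 : a = 1 := by
    have : a ≤ a * d := Nat.le_mul_of_pos_right a hdpos
    omega
  have hd1 : d = 1 := by
    have : d ≤ a * d := Nat.le_mul_of_pos_left d hapos
    omega
  rw [ha1, mul_one] at ha
  rw [hd1, mul_one] at hd
  have hHc : Nat.card H = p ^ 2 := by rw [← hmul, ha, hd]; ring
  refine ⟨hHc, hd, ?_⟩
  obtain ⟨u, hu, hu1⟩ := exists_ne_one_of_card hd
  have hz : Subgroup.zpowers u = Dg t := zpowers_eq_of_prime hd hu hu1
  have htu : t u ∈ Dg t := by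
    obtain ⟨x, hx⟩ := hu
    have : t u = cm t (t x) := by
      rw [← hx, cm_apply, cm_apply, map_mul, map_inv]
    rw [this]; exact cm_mem t (t x)
  rw [← hz] at htu
  obtain ⟨j, hj⟩ := mem_powers_iff_mem_zpowers.mpr htu
  have hj' : u ^ j = t u := hj
  have hpow : ∀ n : ℕ, (t ^ n) u = u ^ (j ^ n) := by
    intro n
    induction n with
    | zero => simp
    | succ n ih =>
      rw [pow_succ', MulAut.mul_apply, ih, map_pow, ← hj', ← pow_mul, pow_succ']
  have h1 := hpow (p ^ k)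
  rw [hk, MulAut.one_apply] at h1
  have hord : orderOf u = p := orderOf_eq_prime (hexp u) hu1
  have h2 : j ^ p ^ k ≡ 1 [MOD p] := by
    have : u ^ (j ^ p ^ k) = u ^ 1 := by rw [pow_one]; exact h1.symm
    rw [pow_eq_pow_iff_modEq, hord] at this
    exact this
  have h3 : ((j : ℕ) : ZMod p) = 1 := by
    have := (ZMod.natCast_eq_natCast_iff _ _ _).mpr h2
    rw [Nat.cast_pow, ZMod.pow_card_pow, Nat.cast_one] at this
    exact this
  have h4 : j ≡ 1 [MOD p] := by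
    rw [← ZMod.natCast_eq_natCast_iff, h3, Nat.cast_one]
  have h5 : t u = u := by
    rw [← hj']
    have : u ^ j = u ^ 1 := by rw [pow_eq_pow_iff_modEq, hord]; exact h4
    rw [this, pow_one]
  have hle2 : Dg t ≤ Ax t := by
    rw [← hz, Subgroup.zpowers_le]; exact mem_Ax.mpr h5
  exact Subgroup.eq_of_le_of_card_ge hle2 (by rw [ha, hd])

end comm

/-- Two conjugate `p`-elements of `Aut(H)`, `H` elementary abelian of order at most `p ^ 2`,
generating a non-`p`-group: `H` has order `p ^ 2` and some element of the group they generate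
inverts `H`. -/
theorem exists_inv_of_card {H : Type*} [Group H] [Finite H] {p : ℕ} [Fact p.Prime]
    (hcomm : ∀ a b : H, a * b = b * a) (hexp : ∀ x : H, x ^ p = 1) (hcard : Nat.card H ≤ p ^ 2)
    (t g : MulAut H) {k : ℕ} (hk : t ^ p ^ k = 1)
    (hnp : ¬ IsPGroup p (Subgroup.closure ({t, g * t * g⁻¹} : Set (MulAut H)))) :
    Nat.card H = p ^ 2 ∧ t ≠ 1 ∧
      ∃ ζ ∈ Subgroup.closure ({t, g * t * g⁻¹} : Set (MulAut H)), ∀ x, ζ x = x⁻¹ := by
  have ht1 : t ≠ 1 := by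
    rintro rfl
    apply hnp
    have : Subgroup.closure ({1, g * 1 * g⁻¹} : Set (MulAut H)) = ⊥ := by simp
    rw [this]; exact IsPGroup.of_bot
  have hH : IsPGroup p H := fun x => ⟨1, by rw [pow_one]; exact hexp x⟩
  let _ : CommGroup H := { (inferInstance : Group H) with mul_comm := hcomm }
  obtain ⟨hc2, hDc, hDA⟩ := quad_of_card hexp hcard t hk ht1
  obtain ⟨ζ, hζ, P₁, hDP, -, hζinv, -, hdec, -, hbot, -⟩ :=
    inv_interface hcomm hH t g (Dg t) hDc (fun x => cm_mem t x)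
      (fun d hd => mem_Ax.mp (hDA ▸ hd)) ht1 hnp
  refine ⟨hc2, ht1, ζ, hζ, fun x => ?_⟩
  obtain ⟨u, hu, c, hc, rfl⟩ := hdec x
  have hc1 : c = 1 := by
    have hcA : c ∈ Ax t := mem_Ax.mpr ((mem_fix2.mp hc).1)
    rw [← hDA] at hcA
    have : c ∈ P₁ ⊓ fix2 t g := ⟨hDP hcA, hc⟩
    rw [hbot] at this
    exact this
  rw [hc1, mul_one]
  exact hζinv u hu

/-! ### restriction of automorphisms to an invariant subgroup -/

section res

variable {Y : Type*} [Group Y]

/-- The automorphisms of `Y` stabilizing the subgroup `W`. -/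
def stab (W : Subgroup Y) : Subgroup (MulAut Y) where
  carrier := {α | ∀ x, α x ∈ W ↔ x ∈ W}
  mul_mem' := by
    intro α β ha hb x
    rw [MulAut.mul_apply, ha, hb]
  one_mem' := fun x => Iff.rfl
  inv_mem' := by
    intro α ha x
    rw [← ha (α⁻¹ x), MulAut.apply_inv_self]

/-- Restriction to `W`. -/
def resAut (W : Subgroup Y) (α : stab W) : MulAut W where
  toFun x := ⟨α.1 x, (α.2 x).mpr x.2⟩
  invFun x := ⟨α.1⁻¹ x, (((stab W).inv_mem α.2) x).mpr x.2⟩
  left_inv x := Subtype.ext (MulAut.inv_apply_self _ _ _)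
  right_inv x := Subtype.ext (MulAut.apply_inv_self _ _ _)
  map_mul' a b := Subtype.ext (map_mul α.1 _ _)

/-- Restriction to `W`, as a homomorphism. -/
def res (W : Subgroup Y) : stab W →* MulAut W :=
  MonoidHom.mk' (resAut W) (by intro a b; ext x; rfl)

theorem res_apply (W : Subgroup Y) (α : stab W) (x : W) : ((res W α x : W) : Y) = α.1 x := rfl

end res

/-! ### the main result -/

section main

variable {Ω : Type*} [Group Ω] {S : Subgroup Ω} [Finite S] {p : ℕ} [Fact p.Prime]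

/-- A strongly closed metacyclic subgroup (`p` odd) lies in every essential subgroup. -/
theorem le_of_essential (hp2 : p ≠ 2) (hS : IsPGroup p S) (F : FusionSystem S)
    (hF : F.IsSaturated p) {P : Subgroup Ω} (hP : F.StronglyClosed P)
    (hm : Cfsg.IsMetacyclic P) {E : Subgroup Ω} (hE : F.IsEssential p E) : P ≤ E := by
  by_contra hPE
  have hp : p.Prime := Fact.out
  obtain ⟨hES, hC⟩ := ess_centric F hE
  haveI : Finite E := finite_of_le hES
  haveI : Finite P := finite_of_le hP.1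
  have hEp : IsPGroup p E := hS.to_le hES
  obtain ⟨t, htP, htN, htE, htp⟩ := exists_t hS F hP hES hPE
  have htS : t ∈ S := hP.1 htP
  obtain ⟨ME, hME⟩ : ∃ ME : Subgroup E, ME = P.subgroupOf E := ⟨_, rfl⟩
  have hMEmem : ∀ x : E, x ∈ ME ↔ (x : Ω) ∈ P := fun x => by
    rw [hME, Subgroup.mem_subgroupOf]
  have hMEm : Cfsg.IsMetacyclic ME := by
    let f : ME →* P :=
      { toFun := fun x => ⟨((x : E) : Ω), (hMEmem x).mp x.2⟩
        map_one' := rfl
        map_mul' := fun _ _ => rfl }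
    refine Cfsg.Agent.S1447.isMetacyclic_of_injective hm f (fun a b hab => ?_)
    apply Subtype.ext
    apply Subtype.ext
    exact congrArg (fun z : P => (z : Ω)) hab
  obtain ⟨W0, hW0, hW0c, hW0card⟩ := exists_omega hp2 (hEp.to_subgroup ME) hMEm
  obtain ⟨W, hW⟩ : ∃ W : Subgroup E, W = W0.map ME.subtype := ⟨_, rfl⟩
  have hWmem : ∀ x : E, x ∈ W ↔ (x : Ω) ∈ P ∧ x ^ p = 1 := by
    intro x
    rw [hW]
    constructor
    · rintro ⟨w, hw, rfl⟩
      refine ⟨(hMEmem _).mp w.2, ?_⟩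
      have h1 := (hW0 w).mp hw
      have h2 := congrArg Subtype.val h1
      simpa using h2
    · rintro ⟨hxP, hxp⟩
      exact ⟨⟨x, (hMEmem x).mpr hxP⟩, (hW0 _).mpr (Subtype.ext (by simpa using hxp)), rfl⟩
  have hWcomm : ∀ a b : W, a * b = b * a := by
    rintro ⟨a, ha⟩ ⟨b, hb⟩
    rw [hW] at ha hb
    obtain ⟨a0, ha0, rfl⟩ := ha
    obtain ⟨b0, hb0, rfl⟩ := hb
    apply Subtype.ext
    have h1 := hW0c a0 ha0 b0 hb0
    show (a0 : E) * (b0 : E) = (b0 : E) * (a0 : E)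
    exact congrArg (fun z : ME => (z : E)) h1
  have hWcard : Nat.card W ≤ p ^ 2 := by
    rw [hW, Subgroup.card_map_of_injective ME.subtype_injective]; exact hW0card
  have hWexp : ∀ x : W, x ^ p = 1 := fun x => Subtype.ext (by
    have h1 := ((hWmem x.1).mp x.2).2
    simpa using h1)
  have hGME : ∀ γ ∈ F.autGroup E, ∀ x, x ∈ ME → γ x ∈ ME := fun γ hγ x hx =>
    (hMEmem _).mpr (sc_aut_mem F hP hES hγ x ((hMEmem x).mp hx))
  have hGW : ∀ γ ∈ F.autGroup E, ∀ x, x ∈ W → γ x ∈ W := by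
    intro γ hγ x hx
    rw [hWmem] at hx ⊢
    exact ⟨sc_aut_mem F hP hES hγ x hx.1, by rw [← map_pow, hx.2, map_one]⟩
  have hGstab : ∀ γ ∈ F.autGroup E, γ ∈ stab W := by
    intro γ hγ x
    constructor
    · intro h
      have h1 := hGW γ⁻¹ (inv_mem hγ) _ h
      rwa [MulAut.inv_apply_self] at h1
    · exact hGW γ hγ x
  have hN'p : IsPGroup p (triv ME W) := isPGroup_triv_omega hp2 hEp ME W
    (fun x hx hxp => (hWmem x).mpr ⟨(hMEmem x).mp hx, hxp⟩)
  have hN'inn : triv ME W ⊓ F.autGroup E ≤ Inn E := normal_pSubgroup_le_inn F hE (triv ME W)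
    (fun γ hγ k hk => conj_mem_triv hk (hGME γ hγ) (fun x hx => hGW γ⁻¹ (inv_mem hγ) x hx)) hN'p
  -- the automorphism induced by `t`
  obtain ⟨ct, hct⟩ : ∃ ct : MulAut E, ct = conjAut E t htN := ⟨_, rfl⟩
  have hctG : ct ∈ F.autGroup E := hct ▸ conjAut_mem_autGroup F hES htS htN
  have hctI : ct ∉ Inn E := hct ▸ conjAut_not_inn hES hC htS htN htE
  have hctp : ct ^ p ∈ Inn E := hct ▸ conjAut_pow_inn htN htp
  have hctap : ∀ x : E, ((ct x : E) : Ω) = t * x * t⁻¹ := fun x => by rw [hct]; rfl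
  have hctB : ct ∈ triv ME ⊥ := by
    refine ⟨fun x => ?_, fun x hx => by rw [Subgroup.mem_bot.mp hx, map_one]⟩
    rw [hMEmem]
    show (x : Ω)⁻¹ * ((ct x : E) : Ω) ∈ P
    rw [hctap]
    have h1 : (x : Ω)⁻¹ * t * ((x : Ω)⁻¹)⁻¹ ∈ P :=
      sc_conj_mem F hP (S.inv_mem (hES x.2)) htP
    have h2 : (x : Ω)⁻¹ * (t * x * t⁻¹) = ((x : Ω)⁻¹ * t * ((x : Ω)⁻¹)⁻¹) * t⁻¹ := by group
    rw [h2]; exact P.mul_mem h1 (P.inv_mem htP)
  obtain ⟨γ, hγG, hγnp⟩ := exists_aut_not_pgroup F hE hctG hctI hctp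
  have hcgB : γ * ct * γ⁻¹ ∈ triv ME ⊥ := conj_mem_triv hctB (hGME γ hγG)
    (fun x hx => by rw [Subgroup.mem_bot.mp hx, map_one]; exact Subgroup.mem_bot.mpr rfl)
  obtain ⟨ct', hct'⟩ : ∃ ct' : stab W, ct' = ⟨ct, hGstab ct hctG⟩ := ⟨_, rfl⟩
  obtain ⟨γ', hγ'⟩ : ∃ γ' : stab W, γ' = ⟨γ, hGstab γ hγG⟩ := ⟨_, rfl⟩
  have hD'le : Subgroup.closure ({ct', γ' * ct' * γ'⁻¹} : Set (stab W)) ≤
      (F.autGroup E ⊓ triv ME ⊥).comap (stab W).subtype := by
    rw [Subgroup.closure_le]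
    intro d hd
    simp only [Set.mem_insert_iff, Set.mem_singleton_iff] at hd
    rcases hd with rfl | rfl
    · refine Subgroup.mem_comap.mpr ?_
      rw [hct']; exact ⟨hctG, hctB⟩
    · refine Subgroup.mem_comap.mpr ?_
      rw [hct', hγ']
      exact ⟨Subgroup.mul_mem _ (Subgroup.mul_mem _ hγG hctG) (Subgroup.inv_mem _ hγG), hcgB⟩
  have hmap1 : (Subgroup.closure ({ct', γ' * ct' * γ'⁻¹} : Set (stab W))).map (stab W).subtype =
      Subgroup.closure {ct, γ * ct * γ⁻¹} := by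
    rw [MonoidHom.map_closure, Set.image_pair, hct', hγ']; rfl
  have hmap2 : (Subgroup.closure ({ct', γ' * ct' * γ'⁻¹} : Set (stab W))).map (res W) =
      Subgroup.closure {res W ct', res W γ' * res W ct' * (res W γ')⁻¹} := by
    rw [MonoidHom.map_closure, Set.image_pair, map_mul, map_mul, map_inv]
  have hres_np : ¬ IsPGroup p (Subgroup.closure
      ({res W ct', res W γ' * res W ct' * (res W γ')⁻¹} : Set (MulAut W))) := by
    intro hpg
    apply hγnp
    rw [← hmap1]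
    rintro ⟨_, d, hd, rfl⟩
    have hrd : res W d ∈ Subgroup.closure
        ({res W ct', res W γ' * res W ct' * (res W γ')⁻¹} : Set (MulAut W)) := by
      rw [← hmap2]; exact ⟨d, hd, rfl⟩
    obtain ⟨a, ha⟩ := hpg ⟨_, hrd⟩
    have ha' : res W (d ^ p ^ a) = 1 := by rw [map_pow]; exact congrArg Subtype.val ha
    have hdG := hD'le hd
    have hmem : ((d ^ p ^ a : stab W) : MulAut E) ∈ triv ME W := by
      have h1 : ((d ^ p ^ a : stab W) : MulAut E) ∈ triv ME ⊥ := by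
        rw [Subgroup.coe_pow]; exact Subgroup.pow_mem _ hdG.2 _
      refine ⟨h1.1, fun x hx => ?_⟩
      have h2 := congrArg (fun f : MulAut W => ((f ⟨x, hx⟩ : W) : E)) ha'
      exact h2
    obtain ⟨b, hb⟩ := hN'p ⟨_, hmem⟩
    refine ⟨a + b, ?_⟩
    apply Subtype.ext
    have hb' : (((d ^ p ^ a : stab W) : MulAut E)) ^ p ^ b = 1 := congrArg Subtype.val hb
    rw [Subgroup.coe_pow] at hb'
    rw [Subgroup.coe_pow, Subgroup.coe_one]
    show (d : MulAut E) ^ p ^ (a + b) = 1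
    rw [pow_add, pow_mul]
    exact hb'
  have hτk : ∃ k : ℕ, (res W ct') ^ p ^ k = 1 := by
    obtain ⟨k, hk⟩ := hS ⟨t, htS⟩
    refine ⟨k, ?_⟩
    rw [← map_pow]
    have h1 : ct' ^ p ^ k = 1 := by
      apply Subtype.ext
      rw [Subgroup.coe_pow, hct']
      show ct ^ p ^ k = 1
      apply MulEquiv.ext
      intro x
      apply Subtype.ext
      have h2 : t ^ p ^ k = 1 := congrArg Subtype.val hk
      rw [hct, conjAut_pow, h2]
      simp
    rw [h1, map_one]
  obtain ⟨k, hk⟩ := hτk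
  obtain ⟨hWc2, hτ1, ζ, hζ, hζinv⟩ :=
    exists_inv_of_card hWcomm hWexp hWcard (res W ct') (res W γ') hk hres_np
  have hζ' : ζ ∈ (Subgroup.closure ({ct', γ' * ct' * γ'⁻¹} : Set (stab W))).map (res W) := by
    rw [hmap2]; exact hζ
  obtain ⟨d, hd, rfl⟩ := hζ'
  have hdG := hD'le hd
  obtain ⟨φ, hφ⟩ : ∃ φ : MulAut E, φ = (d : MulAut E) := ⟨_, rfl⟩
  have hφG : φ ∈ F.autGroup E := hφ ▸ hdG.1
  have hφB : φ ∈ triv ME ⊥ := hφ ▸ hdG.2
  have hφinv : ∀ x ∈ W, φ x = x⁻¹ := by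
    intro x hx
    have h1 := congrArg (fun w : W => (w : E)) (hζinv ⟨x, hx⟩)
    rw [hφ]; exact h1
  have hκ : φ * ct * φ⁻¹ * ct⁻¹ ∈ triv ME W ⊓ F.autGroup E := by
    refine ⟨⟨?_, ?_⟩, ?_⟩
    · exact ((triv ME ⊥).mul_mem ((triv ME ⊥).mul_mem ((triv ME ⊥).mul_mem hφB hctB)
        ((triv ME ⊥).inv_mem hφB)) ((triv ME ⊥).inv_mem hctB)).1
    · intro x hx
      have h1 : ct⁻¹ x ∈ W := hGW ct⁻¹ (inv_mem hctG) x hx
      have h2 : φ⁻¹ (ct⁻¹ x) = (ct⁻¹ x)⁻¹ := by
        have h3 := hφinv _ (W.inv_mem h1)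
        rw [inv_inv] at h3
        calc φ⁻¹ (ct⁻¹ x) = φ⁻¹ (φ ((ct⁻¹ x)⁻¹)) := by rw [h3]
          _ = (ct⁻¹ x)⁻¹ := MulAut.inv_apply_self _ _ _
      rw [MulAut.mul_apply, MulAut.mul_apply, MulAut.mul_apply, h2, map_inv,
        MulAut.apply_inv_self, map_inv, hφinv x hx, inv_inv]
    · exact Subgroup.mul_mem _ (Subgroup.mul_mem _ (Subgroup.mul_mem _ hφG hctG) (inv_mem hφG))
        (inv_mem hctG)
  obtain ⟨e, he⟩ := hN'inn hκ
  have hth : ∀ x : E, ((φ (conjAut E t htN x) : E) : Ω) =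
      ((e : Ω) * t) * ((φ x : E) : Ω) * ((e : Ω) * t)⁻¹ := by
    intro x
    have h1 : φ (ct x) = (φ * ct * φ⁻¹ * ct⁻¹) (ct (φ x)) := by
      rw [MulAut.mul_apply, MulAut.mul_apply, MulAut.mul_apply, MulAut.inv_apply_self,
        MulAut.inv_apply_self]
    rw [← he] at h1
    have h2 : ((φ (ct x) : E) : Ω) = (e : Ω) * ((ct (φ x) : E) : Ω) * (e : Ω)⁻¹ := by
      rw [h1]; rfl
    rw [← hct, h2, hctap]
    group
  obtain ⟨N, ψ, hψ, hEN, htm, hψE, hψS, hψh⟩ :=
    exists_ext hS F hF hE hφG htS htN (S.mul_mem (hES e.2) htS) hth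
  have hψtP : ψ ⟨t, htm⟩ ∈ P := by
    have hzle : Subgroup.zpowers t ≤ N := by rw [Subgroup.zpowers_le]; exact htm
    have hres := hom_restrict F hψ hzle
    exact hP.2 (Subgroup.zpowers t) (by rw [Subgroup.zpowers_le]; exact htP) _ hres
      ⟨t, Subgroup.mem_zpowers t⟩
  have hmE : ψ ⟨t, htm⟩ * t⁻¹ ∈ E := by
    have h1 : t * (((e : Ω) * t)⁻¹ * ψ ⟨t, htm⟩) * t⁻¹ ∈ E :=
      (Subgroup.mem_normalizer_iff.mp htN _).mp hψh
    have h2 : ψ ⟨t, htm⟩ * t⁻¹ = (e : Ω) * (t * (((e : Ω) * t)⁻¹ * ψ ⟨t, htm⟩) * t⁻¹) := by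
      group
    rw [h2]; exact E.mul_mem e.2 h1
  have hmP : ψ ⟨t, htm⟩ * t⁻¹ ∈ P := P.mul_mem hψtP (P.inv_mem htP)
  -- the subgroup `M1 = (E ∩ P)⟨t⟩`
  obtain ⟨M1, hM1⟩ : ∃ M1 : Subgroup Ω, M1 = (E ⊓ P) ⊔ Subgroup.zpowers t := ⟨_, rfl⟩
  have hM1N : M1 ≤ N := by
    rw [hM1]
    exact sup_le (inf_le_left.trans hEN) (by rw [Subgroup.zpowers_le]; exact htm)
  have hM1P : M1 ≤ P := by
    rw [hM1]
    exact sup_le inf_le_right (by rw [Subgroup.zpowers_le]; exact htP)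
  have htM1 : t ∈ M1 := by
    rw [hM1]
    exact (le_sup_right : Subgroup.zpowers t ≤ _) (Subgroup.mem_zpowers t)
  have hEPM1 : E ⊓ P ≤ M1 := by rw [hM1]; exact le_sup_left
  haveI : Finite M1 := finite_of_le (hM1P.trans hP.1)
  have hψ1 := hom_restrict F hψ hM1N
  have hK : (E ⊓ P) ⊔ Subgroup.zpowers t ≤ (M1.comap ψ).map N.subtype := by
    refine sup_le ?_ ?_
    · intro x hx
      refine ⟨⟨x, hEN hx.1⟩, ?_, rfl⟩
      show ψ ⟨x, hEN hx.1⟩ ∈ M1
      rw [hψE ⟨x, hx.1⟩ (hEN hx.1)]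
      exact hEPM1 ⟨(φ ⟨x, hx.1⟩).2, sc_aut_mem F hP hES hφG ⟨x, hx.1⟩ hx.2⟩
    · rw [Subgroup.zpowers_le]
      refine ⟨⟨t, htm⟩, ?_, rfl⟩
      show ψ ⟨t, htm⟩ ∈ M1
      have h1 : ψ ⟨t, htm⟩ = (ψ ⟨t, htm⟩ * t⁻¹) * t := by group
      rw [h1]
      exact M1.mul_mem (hEPM1 ⟨hmE, hmP⟩) htM1
  have hrange_le : (ψ.comp (Subgroup.inclusion hM1N)).range ≤ M1 := by
    rintro _ ⟨x, rfl⟩
    have hx : (x : Ω) ∈ (E ⊓ P) ⊔ Subgroup.zpowers t := by rw [← hM1]; exact x.2
    obtain ⟨n, hn, hnx⟩ := hK hx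
    have h1 : Subgroup.inclusion hM1N x = n := Subtype.ext hnx.symm
    show ψ (Subgroup.inclusion hM1N x) ∈ M1
    rw [h1]; exact hn
  have hr : (ψ.comp (Subgroup.inclusion hM1N)).range = M1 :=
    Subgroup.eq_of_le_of_card_ge hrange_le
      (by rw [Cfsg.Agent.Lib.Helper87.FSSat.card_range F hψ1])
  obtain ⟨α1, hα1⟩ : ∃ α1 : MulAut M1, ∀ x : M1, ((α1 x : M1) : Ω) = ψ ⟨x, hM1N x.2⟩ :=
    ⟨Cfsg.Agent.Lib.Helper87.FSBasic.autOfMap _ (F.injective_of_mem hψ1) hr, fun x => rfl⟩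
  have hM1p : IsPGroup p M1 := hS.to_le (hM1P.trans hP.1)
  have hM1m : Cfsg.IsMetacyclic M1 :=
    Cfsg.Agent.S1447.isMetacyclic_of_injective hm (Subgroup.inclusion hM1P)
      (Subgroup.inclusion_injective hM1P)
  obtain ⟨W1, hW1, -, hW1card⟩ := exists_omega hp2 hM1p hM1m
  have hW1W : ∀ y : M1, y ^ p = 1 → ∃ w : E, w ∈ W ∧ (w : Ω) = y := by
    have hle : W.map E.subtype ≤ W1.map M1.subtype := by
      rintro _ ⟨w, hw, rfl⟩
      have hw' := (hWmem w).mp hw
      refine ⟨⟨w, hEPM1 ⟨w.2, hw'.1⟩⟩, (hW1 _).mpr (Subtype.ext ?_), rfl⟩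
      have h1 := congrArg Subtype.val hw'.2
      simpa using h1
    haveI : Finite (W1.map M1.subtype : Subgroup Ω) :=
      finite_of_le (S := S) (by
        rintro _ ⟨w, -, rfl⟩
        exact hP.1 (hM1P w.2))
    have heq := Subgroup.eq_of_le_of_card_ge hle (by
      rw [Subgroup.card_map_of_injective M1.subtype_injective,
        Subgroup.card_map_of_injective E.subtype_injective, hWc2]
      exact hW1card)
    intro y hy
    have h1 : (y : Ω) ∈ W1.map M1.subtype := ⟨y, (hW1 y).mpr hy, rfl⟩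
    rw [← heq] at h1
    obtain ⟨w, hw, hwy⟩ := h1
    exact ⟨w, hw, hwy⟩
  have hα1inv : ∀ y : M1, y ^ p = 1 → α1 y = y⁻¹ := by
    intro y hy
    obtain ⟨w, hw, hwy⟩ := hW1W y hy
    apply Subtype.ext
    rw [hα1]
    have h1 : (⟨(y : Ω), hM1N y.2⟩ : N) = ⟨(w : Ω), hEN w.2⟩ := Subtype.ext hwy.symm
    rw [h1, hψE w (hEN w.2), hφinv w hw]
    show ((w⁻¹ : E) : Ω) = ((y⁻¹ : M1) : Ω)
    rw [Subgroup.coe_inv, Subgroup.coe_inv, hwy]
  obtain ⟨w, hw⟩ : ∃ w : W, res W ct' w ≠ w := by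
    by_contra hcon
    push_neg at hcon
    exact hτ1 (MulEquiv.ext hcon)
  have hwP := ((hWmem w.1).mp w.2).1
  have hab : (⟨t, htM1⟩ : M1) * ⟨((w : E) : Ω), hEPM1 ⟨(w : E).2, hwP⟩⟩ ≠
      ⟨((w : E) : Ω), hEPM1 ⟨(w : E).2, hwP⟩⟩ * ⟨t, htM1⟩ := by
    intro h
    apply hw
    apply Subtype.ext
    apply Subtype.ext
    have h' : t * ((w : E) : Ω) = ((w : E) : Ω) * t := congrArg Subtype.val h
    rw [res_apply, hct']
    show ((ct (w : E) : E) : Ω) = _
    rw [hctap, h']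
    group
  obtain ⟨k1, m1, hm1, hkm⟩ :=
    Nat.exists_eq_pow_mul_and_not_dvd (orderOf_pos α1).ne' p hp.ne_one
  obtain ⟨β, hβ⟩ : ∃ β : MulAut M1, β = α1 ^ p ^ k1 := ⟨_, rfl⟩
  have hβord : (orderOf β).Coprime p := by
    have h1 : orderOf β = m1 := by
      rw [hβ, orderOf_pow_of_dvd (pow_pos hp.pos k1).ne' ⟨m1, hkm⟩, hkm,
        Nat.mul_div_cancel_left _ (pow_pos hp.pos k1)]
    rw [h1]
    exact ((Nat.Prime.coprime_iff_not_dvd hp).2 hm1).symm
  have hβinv : ∀ y : M1, y ^ p = 1 → β y = y⁻¹ := by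
    intro y hy
    have key : ∀ n : ℕ, (α1 ^ n) y = y ^ ((-1 : ℤ) ^ n) := by
      intro n
      induction n with
      | zero => simp
      | succ n ih =>
        rw [pow_succ', MulAut.mul_apply, ih, map_zpow, hα1inv y hy, inv_zpow, ← zpow_neg,
          pow_succ' (-1 : ℤ) n, neg_one_mul]
    rw [hβ, key, Odd.neg_one_pow (Odd.pow (hp.odd_of_ne_two hp2)), zpow_neg_one]
  obtain ⟨x, hx1, hxfix⟩ := exists_fixed_of_coprime hp2 hM1p hM1m hab β hβord
  let C : Subgroup M1 :=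
    { carrier := {y | β y = y}
      mul_mem' := by
        intro a b ha hb
        have ha' : β a = a := ha
        have hb' : β b = b := hb
        show β (a * b) = a * b
        rw [map_mul, ha', hb']
      one_mem' := map_one β
      inv_mem' := by
        intro a ha
        have ha' : β a = a := ha
        show β a⁻¹ = a⁻¹
        rw [map_inv, ha'] }
  have hCp : IsPGroup p C := hM1p.to_subgroup C
  have hCne : Nat.card C ≠ 1 := by
    intro h
    rw [Subgroup.card_eq_one] at h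
    have h1 : x ∈ C := hxfix
    rw [h, Subgroup.mem_bot] at h1
    exact hx1 h1
  have hdvd : p ∣ Nat.card C := (hCp.card_eq_or_dvd).resolve_left hCne
  obtain ⟨y, hy⟩ := exists_prime_orderOf_dvd_card' p hdvd
  have hyp : (y : M1) ^ p = 1 := by
    have h1 := pow_orderOf_eq_one y
    rw [hy] at h1
    exact congrArg Subtype.val h1
  have hy1 : (y : M1) ≠ 1 := by
    intro h
    have h1 : y = 1 := Subtype.ext h
    rw [h1, orderOf_one] at hy
    exact hp.one_lt.ne hy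
  have hfix : β (y : M1) = y := y.2
  have hinv := hβinv _ hyp
  have hy2 : (y : M1) ^ 2 = 1 := by
    have h1 : (y : M1) = (y : M1)⁻¹ := by rw [← hinv, hfix]
    rw [pow_two]
    nth_rewrite 1 [h1]
    exact inv_mul_cancel _
  have hord : orderOf (y : M1) ∣ Nat.gcd 2 p :=
    Nat.dvd_gcd (orderOf_dvd_of_pow_eq_one hy2) (orderOf_dvd_of_pow_eq_one hyp)
  have hg : Nat.gcd 2 p = 1 := (Nat.coprime_primes Nat.prime_two hp).mpr (Ne.symm hp2)
  rw [hg, Nat.dvd_one, orderOf_eq_one_iff] at hord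
  exact hy1 hord

end main

end Cfsg.Agent.H84.SCMeta
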