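import Cfsg.Agent.S3888
import Cfsg.Agent.S5234
import Cfsg.Agent.S5087
import Cfsg.Agent.S5187
import Cfsg.Agent.S5254
import Cfsg.Agent.H84.SupB
import Cfsg.Agent.H84.RkH
import Cfsg.Agent.H84.GpnB
import Cfsg.Agent.Lib.Helper33.Gpn
import Cfsg.Agent.Lib.Helper69.Cpn
import Cfsg.Agent.Lib.Helper69.Cpn3
import Cfsg.Agent.Lib.Helper69.FratTwo
import Cfsg.Agent.Lib.Helper69.TypeH
import Cfsg.Agent.Lib.Lead.TypeB
import Cfsg.Agent.Lib.Helper88.CaseB
import Cfsg.Agent.Lib.Helper91.TorusSq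

set_option autoImplicit false
open Cfsg Cfsg.FusionSystem

/-! Rank-two `p`-groups for `p ≥ 5` are resistant (assembly). -/

namespace Cfsg.Agent.H84.RkMain

open Cfsg.Agent.H84 Cfsg.Agent.H84.SCEss

theorem isMulComm_of_equiv {G H : Type*} [Group G] [Group H] (e : G ≃* H)
    (h : IsMulCommutative G) : IsMulCommutative H :=
  ⟨⟨fun a b => by
    have h1 := h.is_comm.comm (e.symm a) (e.symm b)
    have h2 := congrArg e h1
    simpa using h2⟩⟩

variable {Ω : Type*} [Group Ω] {S : Subgroup Ω} [Finite S] {p : ℕ} [Fact p.Prime]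

theorem normal_of_no_ess (hS : IsPGroup p S) (F : Cfsg.FusionSystem S) (hF : F.IsSaturated p)
    (h : ∀ E : Subgroup Ω, ¬ F.IsEssential p E) : F.IsNormal S := by
  rw [Cfsg.Agent.S5087.result p hS F hF S]
  intro P hP
  rcases hP with hPS | hP
  · refine ⟨hPS.ge, fun α _ => ?_⟩
    have : S.subgroupOf P = ⊤ := Subgroup.subgroupOf_eq_top.mpr hPS.le
    rw [this]
    exact Subgroup.map_top_of_surjective _ α.surjective
  · exact absurd hP (h P)

theorem prank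
    (hrank3 : ∀ E : Subgroup Ω, E ≤ S → Cfsg.IsElementaryAbelian p E → Nat.card E ≤ p ^ 2) :
    Cfsg.PRankLE p 2 ↥S := by
  intro A₀ hab hexp
  have hle : A₀.map S.subtype ≤ S := Subgroup.map_subtype_le A₀
  have hea : Cfsg.IsElementaryAbelian p (A₀.map S.subtype) := by
    refine ⟨isMulComm_of_equiv (A₀.equivMapOfInjective S.subtype S.subtype_injective) hab, ?_⟩
    rintro _ ⟨a, ha, rfl⟩
    have := hexp a ha
    have h2 := congrArg Subtype.val this
    simpa using h2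
  have := hrank3 _ hle hea
  rwa [Subgroup.card_map_of_injective S.subtype_injective] at this

theorem no_ess_cpn (hp5 : 5 ≤ p) (hS : IsPGroup p S) (F : Cfsg.FusionSystem S)
    (hF : F.IsSaturated p) (n : ℕ) (hn : 4 ≤ n) (hG : Nat.card S = p ^ n) (x y z : S)
    (hgen : Subgroup.closure ({x, y, z} : Set S) = ⊤) (hx : x ^ p = 1) (hy : y ^ p = 1)
    (hz : z ^ p ^ (n - 2) = 1) (hxz : x * z = z * x) (hyz : y * z = z * y)
    (hxy : x⁻¹ * y * x = y * z ^ p ^ (n - 3)) : ∀ E : Subgroup Ω, ¬ F.IsEssential p E := by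
  have hp2 : p ≠ 2 := by omega
  intro E hE
  obtain ⟨hES, hC⟩ := ess_centric F hE
  have hne : E ≠ S := Cfsg.Agent.H84.FusZ.ess_ne hS F hF hE
  have hcen : Subgroup.center ↥S ≤ E.subgroupOf S := by
    intro c hc
    rw [Subgroup.mem_subgroupOf]
    apply hC
    refine ⟨c.2, ?_⟩
    show _ ∈ Subgroup.centralizer (E : Set Ω)
    rw [Subgroup.mem_centralizer_iff]
    intro u hu
    have := Subgroup.mem_center_iff.mp hc ⟨u, hES hu⟩
    exact congrArg Subtype.val this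
  have hne' : E.subgroupOf S ≠ ⊤ := by
    intro h
    apply hne
    exact le_antisymm hES (Subgroup.subgroupOf_eq_top.mp h)
  obtain ⟨hzp, hzE, hab, e, hEe⟩ := Cfsg.Agent.Lib.Helper69.Cpn.cpn_large (p := p) hp2 n hn hG x y z hgen hx hy hz hxz
    hyz hxy (E.subgroupOf S) hcen hne'
  have hEeq : E = Subgroup.closure {(z : Ω), (e : Ω)} := by
    rw [← Subgroup.map_subgroupOf_eq_of_le hES, hEe, MonoidHom.map_closure, Set.image_pair]
    rfl
  have habE : IsMulCommutative ↥E := isMulComm_of_equiv (Subgroup.subgroupOfEquivOfLe hES) hab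
  haveI : Finite E := finite_of_le hES
  have hfr : (frattini ↥E).index ≤ p ^ 2 :=
    Cfsg.Agent.Lib.Helper69.FratTwo.frattini_index_le E (hS.to_le hES) habE _ _ hEeq
  rcases Cfsg.Agent.S5187.result p hS F hF E hE habE hfr with ⟨⟨-, hexp⟩, -⟩ | ⟨h3, -⟩
  · apply hzp
    have := hexp (z : Ω) (by rw [Subgroup.mem_subgroupOf] at hzE; exact hzE)
    exact Subtype.ext (by simpa using this)
  · omega

theorem half_contra (hp5 : 5 ≤ p) (b : ℕ) (hb : 2 * b ≡ 1 [MOD p])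
    (h : (p - 1) * b * ((p - 1) * b) ≡ 1 [MOD p]) : False := by
  have hp : p.Prime := Fact.out
  haveI : NeZero p := ⟨hp.ne_zero⟩
  have h1 : ((2 : ZMod p) * (b : ZMod p)) = 1 := by
    have := (ZMod.natCast_eq_natCast_iff _ _ p).mpr hb
    push_cast at this
    exact this
  have h2 : (((p - 1 : ℕ) : ZMod p) * (b : ZMod p)) * (((p - 1 : ℕ) : ZMod p) * (b : ZMod p)) = 1 := by
    have := (ZMod.natCast_eq_natCast_iff _ _ p).mpr h
    push_cast at this
    exact this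
  have h3 : ((p - 1 : ℕ) : ZMod p) = -1 := by
    have : ((p - 1 : ℕ) : ZMod p) + 1 = 0 := by
      have h4 : (((p - 1 + 1 : ℕ)) : ZMod p) = 0 := by
        have : p - 1 + 1 = p := Nat.sub_add_cancel hp.one_le
        rw [this]; exact ZMod.natCast_self p
      push_cast at h4
      exact h4
    exact eq_neg_of_add_eq_zero_left this
  rw [h3] at h2
  have h5 : (b : ZMod p) * (b : ZMod p) = 1 := by
    have : (-1 * (b : ZMod p)) * (-1 * (b : ZMod p)) = (b : ZMod p) * (b : ZMod p) := by ring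
    rw [← this]; exact h2
  have h6 : (4 : ZMod p) = 1 := by
    have : (4 : ZMod p) * ((b : ZMod p) * (b : ZMod p)) = ((2 : ZMod p) * b) * ((2 : ZMod p) * b) := by
      ring
    rw [h5, h1] at this
    simpa using this
  have h7 : ((3 : ℕ) : ZMod p) = 0 := by
    have : (3 : ZMod p) = 4 - 1 := by ring
    push_cast
    rw [this, h6]; ring
  have h8 : p ∣ 3 := (ZMod.natCast_eq_zero_iff 3 p).mp h7
  have := Nat.le_of_dvd (by norm_num) h8
  omega

theorem no_ess_gpn (hp5 : 5 ≤ p) (hS : IsPGroup p S) (F : Cfsg.FusionSystem S)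
    (hF : F.IsSaturated p) (n : ℕ) (hn : 4 ≤ n) (hG : Nat.card S = p ^ n) (s : ℕ) (x y z : S)
    (hs : ¬ p ∣ s)
    (hgen : Subgroup.closure ({x, y, z} : Set S) = ⊤) (hx : x ^ p = 1) (hy : y ^ p = 1)
    (hz : z ^ p ^ (n - 2) = 1) (hyz : y * z = z * y)
    (hxy : x⁻¹ * y * x = y * z ^ (s * p ^ (n - 3))) (hxz : x⁻¹ * z * x = y * z) :
    ∀ E : Subgroup Ω, ¬ F.IsEssential p E := by
  have hp2 : p ≠ 2 := by omega
  have hpp : p.Prime := Fact.out
  obtain ⟨hord, hxA₀, habA₀, hidx, huniq₀, hcardA₀, hna, hcyc, hZ3⟩ :=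
    Cfsg.Agent.Lib.Helper33.Gpn.gpn_structA hp2 n hn hG s x y z hs hgen hx hy hz hyz hxy hxz
  obtain ⟨A₀, hA₀def⟩ : ∃ A₀ : Subgroup S, A₀ = Subgroup.closure ({y, z} : Set S) := ⟨_, rfl⟩
  rw [← hA₀def] at hxA₀ habA₀ hidx huniq₀ hcardA₀
  have hchar : ∀ (α : MulAut S), ∀ a ∈ A₀, α a ∈ A₀ := by
    intro α a ha
    have hB : A₀.map α.toMonoidHom = A₀ :=
      huniq₀ _ (isMulComm_of_equiv (A₀.equivMapOfInjective _ α.injective) habA₀)
        (by rw [← hidx]; exact Subgroup.index_map_equiv A₀ α)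
    rw [← hB]; exact Subgroup.mem_map_of_mem _ ha
  have hM := Cfsg.Agent.H84.GpnB.gpn_structB hp2 n hn hG s x y z hs hgen hx hy hz hyz hxy hxz hord
    (hA₀def ▸ hxA₀) (hA₀def ▸ hidx) (hA₀def ▸ hchar)
  rw [← hA₀def] at hM
  haveI hnormal : A₀.Normal := ⟨fun a ha g => hchar (MulAut.conj g) a ha⟩
  have hcardq : Nat.card (S ⧸ A₀) = p := by
    rw [← Subgroup.index_eq_card]; exact hidx
  have hcomm₀ : ∀ s u : S, u⁻¹ * (s * u * s⁻¹) ∈ A₀ := by
    intro s u
    haveI : IsCyclic (S ⧸ A₀) := isCyclic_of_prime_card hcardq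
    have hc := (IsCyclic.commGroup (α := S ⧸ A₀)).mul_comm (s : S ⧸ A₀) (u : S ⧸ A₀)
    rw [← QuotientGroup.eq_one_iff]
    push_cast
    have : ((u : S ⧸ A₀))⁻¹ * ((s : S ⧸ A₀) * (u : S ⧸ A₀) * ((s : S ⧸ A₀))⁻¹) = 1 := by
      rw [hc]; group
    exact this
  have hpow₀ : ∀ g : S, g ^ p ∈ A₀ := by
    intro g
    rw [← QuotientGroup.eq_one_iff]
    have h1 : ((g : S ⧸ A₀)) ^ p = 1 := by
      rw [← hcardq]
      exact pow_card_eq_one'
    exact_mod_cast h1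
  obtain ⟨A, hAdef⟩ : ∃ A : Subgroup Ω, A = A₀.map S.subtype := ⟨_, rfl⟩
  have hAS : A ≤ S := by rw [hAdef]; exact Subgroup.map_subtype_le _
  have hmemA : ∀ (g : Ω) (hg : g ∈ S), g ∈ A ↔ (⟨g, hg⟩ : S) ∈ A₀ := by
    intro g hg
    rw [hAdef]
    constructor
    · rintro ⟨a, ha, rfl⟩; exact ha
    · intro h; exact ⟨_, h, rfl⟩
  have hAsub : A.subgroupOf S = A₀ := by
    ext g
    rw [Subgroup.mem_subgroupOf]
    exact hmemA g g.2
  have habA : IsMulCommutative ↥A := by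
    rw [hAdef]
    exact isMulComm_of_equiv (A₀.equivMapOfInjective _ S.subtype_injective) habA₀
  have hA : A ≤ S ∧ IsMulCommutative ↥A ∧ (A.subgroupOf S).index = p :=
    ⟨hAS, habA, by rw [hAsub]; exact hidx⟩
  have huniq : ∀ B : Subgroup Ω, B ≤ S → IsMulCommutative ↥B → (B.subgroupOf S).index = p →
      B = A := by
    intro B hBS hBab hBidx
    have := huniq₀ (B.subgroupOf S)
      (isMulComm_of_equiv (Subgroup.subgroupOfEquivOfLe hBS).symm hBab) hBidx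
    rw [← Subgroup.map_subgroupOf_eq_of_le hBS, this, hAdef]
  have hcomm : ∀ s ∈ S, ∀ u ∈ S, u⁻¹ * (s * u * s⁻¹) ∈ A := by
    intro s hs u hu
    rw [hAdef]
    exact ⟨_, hcomm₀ ⟨s, hs⟩ ⟨u, hu⟩, rfl⟩
  have key : ∀ (α : MulAut S) (b : ℕ) (g : Ω) (hg : g ∈ S), g ∉ A → 2 * b ≡ 1 [MOD p] →
      ((α ⟨g, hg⟩ : S) : Ω) * g ^ b ∈ A → False := by
    intro α b g hg hgA hb hmem
    have h1 : (⟨g, hg⟩ : S) ∉ A₀ := fun h => hgA ((hmemA g hg).mpr h)
    have hmem' : α ⟨g, hg⟩ * (⟨g, hg⟩ : S) ^ b ∈ A₀ := by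
      have := (hmemA _ (S.mul_mem (α ⟨g, hg⟩).2 (S.pow_mem hg b))).mp hmem
      exact this
    have h2 : α ⟨g, hg⟩ * ((⟨g, hg⟩ : S) ^ ((p - 1) * b))⁻¹ ∈ A₀ := by
      have e : α ⟨g, hg⟩ * ((⟨g, hg⟩ : S) ^ ((p - 1) * b))⁻¹ =
          (α ⟨g, hg⟩ * (⟨g, hg⟩ : S) ^ b) * (((⟨g, hg⟩ : S) ^ p) ^ b)⁻¹ := by
        have e1 : ((⟨g, hg⟩ : S) ^ p) ^ b = (⟨g, hg⟩ : S) ^ ((p - 1) * b) * (⟨g, hg⟩ : S) ^ b := by
          rw [← pow_mul, ← pow_add]
          congr 1
          have : p = (p - 1) + 1 := (Nat.sub_add_cancel hpp.one_le).symm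
          nth_rewrite 1 [this]
          ring
        rw [e1]
        group
      rw [e]
      exact A₀.mul_mem hmem' (A₀.inv_mem (A₀.pow_mem (hpow₀ _) b))
    exact half_contra hp5 b hb (hM α ⟨g, hg⟩ ((p - 1) * b) h1 h2)
  have typeH : ∀ P : Subgroup Ω, F.IsEssential p P →
      (∃ x ∈ S, x ∉ A ∧ P = (S ⊓ Subgroup.centralizer (S : Set Ω)) ⊔ Subgroup.zpowers x) →
      Nat.card P = p ^ 2 := by
    rintro P hP ⟨x, hxS, hxA, hPx⟩
    obtain ⟨hPab, c, hPc⟩ := Cfsg.Agent.Lib.Helper69.TypeH.typeH_data hcyc x hxS P hPx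
    have hPS := (ess_centric F hP).1
    haveI : Finite P := finite_of_le hPS
    have hfr := Cfsg.Agent.Lib.Helper69.FratTwo.frattini_index_le P (hS.to_le hPS) hPab c x hPc
    rcases Cfsg.Agent.S5187.result p hS F hF P hP hPab hfr with ⟨-, hc⟩ | ⟨h3, -⟩
    · exact hc
    · omega
  have hAne : ¬ F.IsEssential p A := by
    intro hAe
    haveI : Finite A := finite_of_le hAS
    have hAcl : A = Subgroup.closure {(y : Ω), (z : Ω)} := by
      rw [hAdef, hA₀def, MonoidHom.map_closure, Set.image_pair]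
      rfl
    have hfr : (frattini ↥A).index ≤ p ^ 2 :=
      Cfsg.Agent.Lib.Helper69.FratTwo.frattini_index_le A (hS.to_le hAS) habA (y : Ω) (z : Ω) hAcl
    rcases Cfsg.Agent.S5187.result p hS F hF A hAe habA hfr with ⟨-, hc⟩ | ⟨h3, -⟩
    · have hc2 : Nat.card A = p ^ (n - 1) := by
        rw [hAdef, Subgroup.card_map_of_injective S.subtype_injective]; exact hcardA₀
      rw [hc] at hc2
      have := Nat.pow_right_injective hpp.two_le hc2
      omega
    · omega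
  have hBne : ∀ P : Subgroup Ω, F.IsEssential p P →
      ¬ ((Subgroup.upperCentralSeries ↥S 2).map S.subtype ≤ A ∧ ∃ x ∈ S, x ∉ A ∧
        P = (Subgroup.upperCentralSeries ↥S 2).map S.subtype ⊔ Subgroup.zpowers x) := by
    rintro P hP ⟨hZ2, x, hxS, hxA, hPx⟩
    obtain ⟨hInn, hZ, t, htS, htN, htP, htp, hgenP⟩ :=
      Cfsg.Agent.Lib.Lead.TypeB.typeB_data p hS hna A hA hZ3 x hxS hxA hZ2 P hPx
    haveI : Finite P := finite_of_le (ess_centric F hP).1
    obtain ⟨α, hα, b, hb, hαb⟩ :=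
      Cfsg.Agent.Lib.Helper88.CaseB.caseB_of_torus hp5 hS F hF A hcomm P hP hInn hZ t htS htN htP
        htp hgenP (fun t g htp hnp a b hab =>
          Cfsg.Agent.Lib.Helper91.TorusSq.torus_sq hInn t g htp hnp a b hab)
    have hxP : x ∈ P := by rw [hPx]; exact (le_sup_right : Subgroup.zpowers x ≤ _ ⊔ Subgroup.zpowers x) (Subgroup.mem_zpowers x)
    exact key α b x hxS hxA hb (hαb x hxS hxP)
  have hbig : ∀ P : Subgroup Ω, F.IsEssential p P → Nat.card P ≤ p ^ 2 := by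
    intro P hP
    obtain ⟨hc, -⟩ := Cfsg.Agent.S5254.result p hS F hF hp2 hna A hA huniq P hP
    rcases hc with hPA | hH | hB
    · rw [hPA] at hP; exact absurd hP hAne
    · exact (typeH P hP hH).le
    · exact absurd hB (hBne P hP)
  intro E hE
  obtain ⟨hcases, -⟩ := Cfsg.Agent.S5254.result p hS F hF hp2 hna A hA huniq E hE
  rcases hcases with hEA | hH | hB
  · rw [hEA] at hE; exact hAne hE
  · have hEcard := typeH E hE hH
    obtain ⟨x, hxS, hxA, hEx⟩ := hH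
    obtain ⟨α, hα, b, hb, hαb⟩ := RkH.caseH hp5 hS F hF A hcomm E hE hEcard hbig
    have hxE : x ∈ E := by rw [hEx]; exact (le_sup_right : Subgroup.zpowers x ≤ _ ⊔ Subgroup.zpowers x) (Subgroup.mem_zpowers x)
    exact key α b x hxS hxA hb (hαb x hxS hxE)
  · exact hBne E hE hB


theorem main (p : ℕ) [Fact p.Prime] (hS : IsPGroup p S)
    (F : Cfsg.FusionSystem S) (hF : F.IsSaturated p) (hp : 5 ≤ p)
    (hrank3 : ∀ E : Subgroup Ω, E ≤ S → Cfsg.IsElementaryAbelian p E → Nat.card E ≤ p ^ 2)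
    (hnotE : ¬ (Nat.card S = p ^ 3 ∧ Monoid.exponent ↥S = p)) : F.IsNormal S := by
  have hp2 : p ≠ 2 := by omega
  have hpp : p.Prime := Fact.out
  obtain ⟨n, hG⟩ := IsPGroup.iff_card.mp hS
  rcases Cfsg.Agent.S3888.result (G := ↥S) hp2 n hG (prank hrank3) with
    hm | ⟨h3n, x, y, z, hgen, hx, hy, hz, hxz, hyz, hxy⟩ |
    ⟨h4n, s, x, y, z, hs, hgen, hx, hy, hz, hyz, hxy, hxz⟩ | ⟨h3, -⟩
  · exact Cfsg.Agent.S5234.result p hS F hF S (SupB.stronglyClosed_self F) hp2 hm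
  · by_cases hn : n = 3
    · subst hn
      exact absurd ⟨hG, Cfsg.Agent.Lib.Helper69.Cpn3.cpn_three hp2 hG x y z hgen hx hy hz hxz hyz hxy⟩ hnotE
    · exact normal_of_no_ess hS F hF
        (no_ess_cpn hp hS F hF n (by omega) hG x y z hgen hx hy hz hxz hyz hxy)
  · have hs' : ¬ p ∣ s := by
      rcases hs with rfl | hs
      · exact fun h => hpp.one_lt.ne' (Nat.dvd_one.mp h)
      · intro h
        apply hs
        have : (s : ZMod p) = 0 := (ZMod.natCast_eq_zero_iff s p).mpr h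
        rw [this]
        exact ⟨0, by simp⟩
    exact normal_of_no_ess hS F hF
      (no_ess_gpn hp hS F hF n h4n hG s x y z hs' hgen hx hy hz hyz hxy hxz)
  · omega

end Cfsg.Agent.H84.RkMain
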