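import Cfsg.Agent.H84.SCMeta
import Cfsg.Agent.Lib.Helper63.PFrattini
import Cfsg.Agent.Lib.Helper24.MetaCoprime

set_option autoImplicit false
open Cfsg Cfsg.FusionSystem
open scoped commutatorElement

/-! Strongly closed subgroups `P` with `Φ(P) = P'` of order `p`: if `P` does not lie in some
essential subgroup, then `P` contains an element `w` with elementary abelian centralizer and an
element `t` not centralizing `w` (of order `p` when `p` is odd). -/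

namespace Cfsg.Agent.H84.SCGes

open Cfsg.Agent.H84 Cfsg.Agent.H84.SCEss Cfsg.Agent.H84.SCMeta Cfsg.Agent.H84.Transv
  Cfsg.Agent.Lib.Helper24.ConjAction

theorem conj_mem_chainStab {H : Type*} [Group H] {N₁ N₂ : Subgroup H} (h : N₂ ≤ N₁)
    {α γ : MulAut H} (hα : α ∈ chainStab N₁ N₂ h) (h1 : ∀ x, x ∈ N₁ → γ x ∈ N₁)
    (h1' : ∀ x, x ∈ N₁ → γ⁻¹ x ∈ N₁) (h2 : ∀ x, x ∈ N₂ → γ x ∈ N₂)
    (h2' : ∀ x, x ∈ N₂ → γ⁻¹ x ∈ N₂) : γ * α * γ⁻¹ ∈ chainStab N₁ N₂ h := by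
  obtain ⟨a1, a2, a3⟩ := hα
  have key : ∀ x, x⁻¹ * (γ * α * γ⁻¹) x = γ ((γ⁻¹ x)⁻¹ * α (γ⁻¹ x)) := by
    intro x
    rw [MulAut.mul_apply, MulAut.mul_apply, map_mul, map_inv, MulAut.apply_inv_self]
  refine ⟨fun x => ?_, fun x hx => ?_, fun x hx => ?_⟩
  · rw [key]; exact h1 _ (a1 _)
  · rw [key]; exact h2 _ (a2 _ (h1' x hx))
  · rw [MulAut.mul_apply, MulAut.mul_apply, a3 _ (h2' x hx), MulAut.apply_inv_self]

section zfacts

variable {Ω : Type*} [Group Ω]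

/-- The derived subgroup of `P`, as a subgroup of the ambient group. -/
def Zc (P : Subgroup Ω) : Subgroup Ω := (commutator P).map P.subtype

theorem Zc_le (P : Subgroup Ω) : Zc P ≤ P := by
  rintro _ ⟨x, -, rfl⟩; exact x.2

theorem comm_mem_Zc {P : Subgroup Ω} {a b : Ω} (ha : a ∈ P) (hb : b ∈ P) :
    a * b * a⁻¹ * b⁻¹ ∈ Zc P :=
  ⟨⁅(⟨a, ha⟩ : P), ⟨b, hb⟩⁆,
    Subgroup.commutator_mem_commutator (Subgroup.mem_top _) (Subgroup.mem_top _), rfl⟩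

variable {P : Subgroup Ω} [Finite P] {p : ℕ} [Fact p.Prime]

theorem pow_mem_Zc (hP : IsPGroup p P) (hge : frattini P = commutator P) {a : Ω} (ha : a ∈ P) :
    a ^ p ∈ Zc P := by
  refine ⟨(⟨a, ha⟩ : P) ^ p, ?_, rfl⟩
  rw [← hge]
  exact Cfsg.Agent.Lib.Helper63.PFrattini.pow_mem_frattini hP _

theorem Zc_comm (hP : IsPGroup p P) (hc : Nat.card (commutator P) = p) {z a : Ω}
    (hz : z ∈ Zc P) (ha : a ∈ P) : a * z = z * a := by
  obtain ⟨z', hz', rfl⟩ := hz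
  have h := Cfsg.Agent.Lib.Helper24.MetaCoprime.comm_le_center hP hc hz'
  have h2 := Subgroup.mem_center_iff.mp h ⟨a, ha⟩
  exact congrArg Subtype.val h2

theorem Zc_eq_zpowers (hc : Nat.card (commutator P) = p) {z : Ω} (hz : z ∈ Zc P)
    (hz1 : z ≠ 1) : Zc P = Subgroup.zpowers z := by
  obtain ⟨z', hz', rfl⟩ := hz
  have h1 : z' ≠ 1 := fun h => hz1 (by rw [h]; rfl)
  have h2 := zpowers_eq_of_prime hc hz' h1
  rw [Zc, ← h2, MonoidHom.map_zpowers]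

end zfacts

section main

variable {Ω : Type*} [Group Ω] {S : Subgroup Ω} [Finite S] {p : ℕ} [Fact p.Prime]

theorem exists_config (hS : IsPGroup p S) (F : FusionSystem S) (hF : F.IsSaturated p)
    {P : Subgroup Ω} (hP : F.StronglyClosed P) (hfr : frattini P = commutator P)
    (hc : Nat.card (commutator P) = p) {E : Subgroup Ω} (hE : F.IsEssential p E)
    (hPE : ¬ P ≤ E) :
    ∃ t w : Ω, t ∈ P ∧ w ∈ P ∧ t * w ≠ w * t ∧
      (∀ a b : Ω, a ∈ P → b ∈ P → a * w = w * a → b * w = w * b → a * b = b * a) ∧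
      (∀ a : Ω, a ∈ P → a * w = w * a → a ^ p = 1) ∧ (p ≠ 2 → t ^ p = 1) := by
  have hp : p.Prime := Fact.out
  obtain ⟨hES, hC⟩ := ess_centric F hE
  haveI : Finite E := finite_of_le hES
  haveI : Finite P := finite_of_le hP.1
  have hEp : IsPGroup p E := hS.to_le hES
  have hPp : IsPGroup p P := hS.to_le hP.1
  obtain ⟨t, htP, htN, htE, htp⟩ := exists_t hS F hP hES hPE
  have htS : t ∈ S := hP.1 htP
  obtain ⟨ME, hME⟩ : ∃ ME : Subgroup E, ME = P.subgroupOf E := ⟨_, rfl⟩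
  have hMEmem : ∀ x : E, x ∈ ME ↔ (x : Ω) ∈ P := fun x => by
    rw [hME, Subgroup.mem_subgroupOf]
  obtain ⟨ZE, hZE⟩ : ∃ ZE : Subgroup E, ZE = (Zc P).subgroupOf E := ⟨_, rfl⟩
  have hZEmem : ∀ x : E, x ∈ ZE ↔ (x : Ω) ∈ Zc P := fun x => by
    rw [hZE, Subgroup.mem_subgroupOf]
  have hZM : ZE ≤ ME := fun x hx => (hMEmem x).mpr (Zc_le P ((hZEmem x).mp hx))
  have hGME : ∀ γ ∈ F.autGroup E, ∀ x, x ∈ ME → γ x ∈ ME := fun γ hγ x hx =>
    (hMEmem _).mpr (sc_aut_mem F hP hES hγ x ((hMEmem x).mp hx))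
  obtain ⟨ct, hct⟩ : ∃ ct : MulAut E, ct = conjAut E t htN := ⟨_, rfl⟩
  have hctG : ct ∈ F.autGroup E := hct ▸ conjAut_mem_autGroup F hES htS htN
  have hctI : ct ∉ Inn E := hct ▸ conjAut_not_inn hES hC htS htN htE
  have hctp : ct ^ p ∈ Inn E := hct ▸ conjAut_pow_inn htN htp
  have hctap : ∀ x : E, ((ct x : E) : Ω) = t * x * t⁻¹ := fun x => by rw [hct]; rfl
  have hctB : ct ∈ triv ME ⊥ := by
    refine ⟨fun x => ?_, fun x hx => by rw [Subgroup.mem_bot.mp hx, map_one]⟩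
    rw [hMEmem]
    show (x : Ω)⁻¹ * ((ct x : E) : Ω) ∈ P
    rw [hctap]
    have h1 : (x : Ω)⁻¹ * t * ((x : Ω)⁻¹)⁻¹ ∈ P :=
      sc_conj_mem F hP (S.inv_mem (hES x.2)) htP
    have h2 : (x : Ω)⁻¹ * (t * x * t⁻¹) = ((x : Ω)⁻¹ * t * ((x : Ω)⁻¹)⁻¹) * t⁻¹ := by group
    rw [h2]; exact P.mul_mem h1 (P.inv_mem htP)
  have hctK : ct ∈ chainStab ME ZE hZM := by
    refine ⟨hctB.1, fun x hx => ?_, fun x hx => ?_⟩
    · rw [hZEmem]
      show (x : Ω)⁻¹ * ((ct x : E) : Ω) ∈ Zc P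
      rw [hctap]
      have h1 := comm_mem_Zc (P := P) (P.inv_mem ((hMEmem x).mp hx)) htP
      have h2 : (x : Ω)⁻¹ * (t * x * t⁻¹) = (x : Ω)⁻¹ * t * ((x : Ω)⁻¹)⁻¹ * t⁻¹ := by group
      rw [h2]; exact h1
    · apply Subtype.ext
      rw [hctap]
      have h1 := Zc_comm hPp hc ((hZEmem x).mp hx) htP
      rw [h1, mul_inv_cancel_right]
  have hninv : ¬ (∀ γ ∈ F.autGroup E, ∀ x, x ∈ ZE → γ x ∈ ZE) := by
    intro hinv
    have hKp : IsPGroup p (chainStab ME ZE hZM) := isPGroup_chainStab hEp ME ZE hZM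
    have hKinn : chainStab ME ZE hZM ⊓ F.autGroup E ≤ Inn E :=
      normal_pSubgroup_le_inn F hE _ (fun γ hγ k hk => conj_mem_chainStab hZM hk (hGME γ hγ)
        (hGME γ⁻¹ (inv_mem hγ)) (hinv γ hγ) (hinv γ⁻¹ (inv_mem hγ))) hKp
    exact hctI (hKinn ⟨hctK, hctG⟩)
  have hkey : ∀ u : E, (u : Ω) ∈ Zc P → (∀ γ ∈ F.autGroup E, ((γ u : E) : Ω) ∈ Zc P) →
      u = 1 := by
    intro u hu hγu
    by_contra hu1
    apply hninv
    intro γ hγ x hx
    rw [hZEmem] at hx ⊢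
    have hu1' : (u : Ω) ≠ 1 := fun h => hu1 (Subtype.ext h)
    have hz := Zc_eq_zpowers hc hu hu1'
    rw [hz] at hx
    obtain ⟨k, hk⟩ := Subgroup.mem_zpowers_iff.mp hx
    have hxk : x = u ^ k := Subtype.ext (by rw [Subgroup.coe_zpow]; exact hk.symm)
    rw [hxk, map_zpow, Subgroup.coe_zpow]
    exact Subgroup.zpow_mem _ (hγu γ hγ) k
  have hMEc : ∀ a b : E, a ∈ ME → b ∈ ME → a * b = b * a := by
    intro a b ha hb
    have h1 := hkey (a * b * a⁻¹ * b⁻¹)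
      (comm_mem_Zc ((hMEmem a).mp ha) ((hMEmem b).mp hb)) (fun γ hγ => by
        rw [map_mul, map_mul, map_mul, map_inv, map_inv]
        exact comm_mem_Zc ((hMEmem _).mp (hGME γ hγ a ha)) ((hMEmem _).mp (hGME γ hγ b hb)))
    calc a * b = (a * b * a⁻¹ * b⁻¹) * b * a := by group
      _ = b * a := by rw [h1, one_mul]
  have hMEe : ∀ a : E, a ∈ ME → a ^ p = 1 := by
    intro a ha
    exact hkey (a ^ p) (pow_mem_Zc hPp hfr ((hMEmem a).mp ha)) (fun γ hγ => by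
      rw [map_pow]
      exact pow_mem_Zc hPp hfr ((hMEmem _).mp (hGME γ hγ a ha)))
  have hTp : IsPGroup p (triv ME ME) := by
    have hle : triv ME ME ≤ chainStab ME ⊥ bot_le := by
      intro α hα
      refine ⟨hα.1, fun x hx => ?_, fun x hx => ?_⟩
      · rw [hα.2 x hx, inv_mul_cancel]; exact Subgroup.mem_bot.mpr rfl
      · rw [Subgroup.mem_bot.mp hx, map_one]
    exact (isPGroup_chainStab hEp ME ⊥ bot_le).to_le hle
  have hTinn : triv ME ME ⊓ F.autGroup E ≤ Inn E := normal_pSubgroup_le_inn F hE (triv ME ME)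
    (fun γ hγ k hk => conj_mem_triv hk (hGME γ hγ) (fun x hx => hGME γ⁻¹ (inv_mem hγ) x hx))
    hTp
  obtain ⟨γ0, hγ0, z0, hz0, hw0⟩ : ∃ γ0 ∈ F.autGroup E, ∃ z0 : E, z0 ∈ ZE ∧ γ0 z0 ∉ ZE := by
    by_contra hcon
    push_neg at hcon
    exact hninv hcon
  obtain ⟨w, hw⟩ : ∃ w : Ω, w = ((γ0 z0 : E) : Ω) := ⟨_, rfl⟩
  have hwZ : w ∉ Zc P := by rw [hw]; exact fun h => hw0 ((hZEmem _).mpr h)
  have hz0Z : (z0 : Ω) ∈ Zc P := (hZEmem z0).mp hz0
  have hwME : γ0 z0 ∈ ME := hGME γ0 hγ0 z0 (hZM hz0)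
  have hwP : w ∈ P := by rw [hw]; exact (hMEmem _).mp hwME
  have hz01 : (z0 : Ω) ≠ 1 := by
    intro h
    apply hwZ
    have h1 : z0 = 1 := Subtype.ext h
    rw [hw, h1, map_one]; exact (Zc P).one_mem
  have hZz : Zc P = Subgroup.zpowers (z0 : Ω) := Zc_eq_zpowers hc hz0Z hz01
  -- a nontrivial commutator generating `Zc P`
  obtain ⟨x0, hx0M, hx0⟩ : ∃ x0 ∈ ME, ct x0 ≠ x0 := by
    by_contra hcon
    push_neg at hcon
    exact hctI (hTinn ⟨⟨hctB.1, hcon⟩, hctG⟩)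
  obtain ⟨c0, hc0⟩ : ∃ c0 : Ω, c0 = t * x0 * t⁻¹ * (x0 : Ω)⁻¹ := ⟨_, rfl⟩
  have hx0P : (x0 : Ω) ∈ P := (hMEmem x0).mp hx0M
  have hc0Z : c0 ∈ Zc P := hc0 ▸ comm_mem_Zc htP hx0P
  have hc01 : c0 ≠ 1 := by
    intro h
    apply hx0
    apply Subtype.ext
    rw [hctap]
    rw [hc0] at h
    exact mul_inv_eq_one.mp h
  have hZc0 : Zc P = Subgroup.zpowers c0 := Zc_eq_zpowers hc hc0Z hc01
  -- the subgroup generated by `z0` and the map induced by `γ0` on it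
  have hZ1E : Subgroup.zpowers (z0 : Ω) ≤ E := by rw [Subgroup.zpowers_le]; exact z0.2
  have hZ1S : Subgroup.zpowers (z0 : Ω) ≤ S := hZ1E.trans hES
  have hγ0hom : E.subtype.comp γ0.toMonoidHom ∈ F.Hom E := (mem_autGroup_iff F hES γ0).mp hγ0
  obtain ⟨φ0, hφ0def⟩ : ∃ φ0 : Subgroup.zpowers (z0 : Ω) →* Ω,
      φ0 = (E.subtype.comp γ0.toMonoidHom).comp (Subgroup.inclusion hZ1E) := ⟨_, rfl⟩
  have hφ0 : φ0 ∈ F.Hom (Subgroup.zpowers (z0 : Ω)) := hφ0def ▸ hom_restrict F hγ0hom hZ1E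
  have hφ0z : φ0 ⟨z0, Subgroup.mem_zpowers _⟩ = w := by rw [hφ0def, hw]; rfl
  obtain ⟨Q, ⟨ρ, hρ, hρQ⟩, -, hrec⟩ := hF _ hZ1S
  have he1 := isIso_ofInjective hφ0
  have he2 := isIso_ofInjective hρ
  have hχ := he1.symm.trans he2
  obtain ⟨χ, hχdef⟩ : ∃ χ : φ0.range →* Ω, χ = ρ.range.subtype.comp
      (((φ0.ofInjective (F.injective_of_mem hφ0)).symm.trans
        (ρ.ofInjective (F.injective_of_mem hρ))).toMonoidHom) := ⟨_, rfl⟩
  have hχF : χ ∈ F.Hom φ0.range := hχdef ▸ hχ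
  have hχr : χ.range = Q := by
    rw [← hρQ, hχdef]
    ext y
    constructor
    · rintro ⟨x, rfl⟩
      exact (((φ0.ofInjective (F.injective_of_mem hφ0)).symm.trans
        (ρ.ofInjective (F.injective_of_mem hρ))) x).2
    · intro hy
      exact ⟨((φ0.ofInjective (F.injective_of_mem hφ0)).symm.trans
        (ρ.ofInjective (F.injective_of_mem hρ))).symm ⟨y, hy⟩, by simp⟩
  have hwr : w ∈ φ0.range := ⟨⟨z0, Subgroup.mem_zpowers _⟩, hφ0z⟩
  have hχw : χ ⟨w, hwr⟩ = ρ ⟨z0, Subgroup.mem_zpowers _⟩ := by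
    rw [hχdef]
    have h1 : (φ0.ofInjective (F.injective_of_mem hφ0)).symm ⟨w, hwr⟩ =
        ⟨z0, Subgroup.mem_zpowers _⟩ := by
      rw [MulEquiv.symm_apply_eq]
      apply Subtype.ext
      exact hφ0z.symm
    show ((ρ.ofInjective (F.injective_of_mem hρ)
      ((φ0.ofInjective (F.injective_of_mem hφ0)).symm ⟨w, hwr⟩) : ρ.range) : Ω) = _
    rw [h1]; rfl
  obtain ⟨ψ1, hψ1, hψ1a⟩ := hrec.2 _ χ hχF hχr
  obtain ⟨ψ2, hψ2, hψ2a⟩ := hrec.2 _ ρ hρ hρQ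
  have hPext : P ≤ extender S (Subgroup.zpowers (z0 : Ω)) ρ := by
    intro a ha
    apply centralizerIn_le_extender S _ ρ
    refine ⟨hP.1 ha, ?_⟩
    show a ∈ Subgroup.centralizer _
    rw [Subgroup.mem_centralizer_iff]
    intro y hy
    obtain ⟨k, rfl⟩ := Subgroup.mem_zpowers_iff.mp hy
    have h1 : Commute a (z0 : Ω) := Zc_comm hPp hc hz0Z ha
    exact (h1.zpow_right k).symm.eq
  have hψP := hom_restrict F hψ2 hPext
  have hψPmem : ∀ a : P, (ψ2.comp (Subgroup.inclusion hPext)) a ∈ P := hP.2 P le_rfl _ hψP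
  have hρz : ρ ⟨z0, Subgroup.mem_zpowers _⟩ ∈ Zc P := by
    have h1 : ρ ⟨z0, Subgroup.mem_zpowers _⟩ = ψ2 ⟨z0, hPext (Zc_le P hz0Z)⟩ :=
      (hψ2a _ _ _).symm
    rw [h1]
    have h2 := hz0Z
    rw [hZc0] at h2
    obtain ⟨k, hk⟩ := Subgroup.mem_zpowers_iff.mp h2
    have hc0P : c0 ∈ P := Zc_le P hc0Z
    have h3 : (⟨z0, hPext (Zc_le P hz0Z)⟩ : extender S (Subgroup.zpowers (z0 : Ω)) ρ) =
        (Subgroup.inclusion hPext ⟨c0, hc0P⟩) ^ k := by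
      apply Subtype.ext
      rw [Subgroup.coe_zpow]; exact hk.symm
    rw [h3, map_zpow]
    apply Subgroup.zpow_mem
    have h4 : (⟨c0, hc0P⟩ : P) = ⟨t, htP⟩ * ⟨x0, hx0P⟩ * ⟨t, htP⟩⁻¹ * ⟨x0, hx0P⟩⁻¹ :=
      Subtype.ext hc0
    have h5 : ψ2 (Subgroup.inclusion hPext ⟨c0, hc0P⟩) =
        (ψ2.comp (Subgroup.inclusion hPext)) ⟨c0, hc0P⟩ := rfl
    rw [h5, h4, map_mul, map_mul, map_mul, map_inv, map_inv]
    exact comm_mem_Zc (hψPmem _) (hψPmem _)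
  -- the centralizer of `w` in `P`
  obtain ⟨CP, hCP⟩ : ∃ CP : Subgroup Ω, CP = P ⊓ Subgroup.centralizer {w} := ⟨_, rfl⟩
  have hCPmem : ∀ a : Ω, a ∈ CP ↔ a ∈ P ∧ a * w = w * a := by
    intro a
    rw [hCP, Subgroup.mem_inf, Subgroup.mem_centralizer_iff]
    constructor
    · rintro ⟨h1, h2⟩
      exact ⟨h1, (h2 w rfl).symm⟩
    · rintro ⟨h1, h2⟩
      exact ⟨h1, fun h hh => by rw [Set.mem_singleton_iff.mp hh]; exact h2.symm⟩
  have hCPext : CP ≤ extender S φ0.range χ := by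
    intro a ha
    rw [hCPmem] at ha
    apply centralizerIn_le_extender S _ χ
    refine ⟨hP.1 ha.1, ?_⟩
    show a ∈ Subgroup.centralizer _
    rw [Subgroup.mem_centralizer_iff]
    rintro _ ⟨⟨x, hx⟩, rfl⟩
    obtain ⟨k, rfl⟩ := Subgroup.mem_zpowers_iff.mp hx
    have h1 : φ0 ⟨(z0 : Ω) ^ k, hx⟩ = w ^ k := by
      have h0 : (⟨(z0 : Ω) ^ k, hx⟩ : Subgroup.zpowers (z0 : Ω)) =
          ⟨z0, Subgroup.mem_zpowers _⟩ ^ k := Subtype.ext (by rw [Subgroup.coe_zpow])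
      rw [h0, map_zpow, hφ0z]
    rw [h1]
    have h2 : Commute a w := ha.2
    exact (h2.zpow_right k).symm.eq
  have hθ := hom_restrict F hψ1 hCPext
  obtain ⟨θ, hθdef⟩ : ∃ θ : CP →* Ω, θ = ψ1.comp (Subgroup.inclusion hCPext) := ⟨_, rfl⟩
  have hθF : θ ∈ F.Hom CP := hθdef ▸ hθ
  have hCPP : CP ≤ P := by rw [hCP]; exact inf_le_left
  have hθP : ∀ a : CP, θ a ∈ P := hP.2 CP hCPP θ hθF
  have hθinj := F.injective_of_mem hθF
  have hwCP : w ∈ CP := (hCPmem w).mpr ⟨hwP, rfl⟩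
  have hθw : θ ⟨w, hwCP⟩ ∈ Zc P := by
    have h1 : θ ⟨w, hwCP⟩ = χ ⟨w, hwr⟩ := by
      rw [hθdef]; exact hψ1a w _ _
    rw [h1, hχw]; exact hρz
  have hθkey : ∀ u : CP, (u : Ω) ∈ Zc P → θ u ∈ Zc P → u = 1 := by
    intro u hu hθu
    by_contra hu1
    apply hwZ
    have hθu1 : θ u ≠ 1 := fun h => hu1 (hθinj (h.trans (map_one θ).symm))
    have hz := Zc_eq_zpowers hc hθu hθu1
    have h2 := hθw
    rw [hz] at h2
    obtain ⟨k, hk⟩ := Subgroup.mem_zpowers_iff.mp h2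
    have h3 : θ (u ^ k) = θ ⟨w, hwCP⟩ := by rw [map_zpow]; exact hk
    have h4 := hθinj h3
    have h5 : (u : Ω) ^ k = w := by
      have := congrArg Subtype.val h4
      rwa [Subgroup.coe_zpow] at this
    rw [← h5]; exact Subgroup.zpow_mem _ hu k
  have hCPc : ∀ a b : Ω, a ∈ CP → b ∈ CP → a * b = b * a := by
    intro a b ha hb
    have h1 := hθkey (⟨a, ha⟩ * ⟨b, hb⟩ * ⟨a, ha⟩⁻¹ * ⟨b, hb⟩⁻¹)
      (comm_mem_Zc (hCPP ha) (hCPP hb)) (by
        rw [map_mul, map_mul, map_mul, map_inv, map_inv]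
        exact comm_mem_Zc (hθP _) (hθP _))
    have h2 : a * b * a⁻¹ * b⁻¹ = 1 := congrArg Subtype.val h1
    calc a * b = (a * b * a⁻¹ * b⁻¹) * b * a := by group
      _ = b * a := by rw [h2, one_mul]
  have hCPe : ∀ a : Ω, a ∈ CP → a ^ p = 1 := by
    intro a ha
    have h1 := hθkey (⟨a, ha⟩ ^ p) (pow_mem_Zc hPp hfr (hCPP ha)) (by
      rw [map_pow]; exact pow_mem_Zc hPp hfr (hθP _))
    exact congrArg Subtype.val h1
  have htw : t * w ≠ w * t := by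
    intro h
    have htCP : t ∈ CP := (hCPmem t).mpr ⟨htP, h⟩
    apply hctI
    apply hTinn
    refine ⟨⟨hctB.1, fun x hx => ?_⟩, hctG⟩
    apply Subtype.ext
    rw [hctap]
    have hxCP : (x : Ω) ∈ CP := by
      rw [hCPmem]
      refine ⟨(hMEmem x).mp hx, ?_⟩
      have := hMEc x (γ0 z0) hx hwME
      rw [hw]
      exact congrArg Subtype.val this
    rw [hCPc t x htCP hxCP, mul_inv_cancel_right]
  refine ⟨t, w, htP, hwP, htw, ?_, ?_, ?_⟩
  · intro a b ha hb haw hbw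
    exact hCPc a b ((hCPmem a).mpr ⟨ha, haw⟩) ((hCPmem b).mpr ⟨hb, hbw⟩)
  · intro a ha haw
    exact hCPe a ((hCPmem a).mpr ⟨ha, haw⟩)
  · intro hp2
    obtain ⟨γ, hγG, hγnp⟩ := exists_aut_not_pgroup F hE hctG hctI hctp
    have hcgB : γ * ct * γ⁻¹ ∈ triv ME ⊥ := conj_mem_triv hctB (hGME γ hγG)
      (fun x hx => by rw [Subgroup.mem_bot.mp hx, map_one]; exact Subgroup.mem_bot.mpr rfl)
    have hGstab : ∀ γ ∈ F.autGroup E, γ ∈ stab ME := by
      intro γ hγ x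
      constructor
      · intro h
        have h1 := hGME γ⁻¹ (inv_mem hγ) _ h
        rwa [MulAut.inv_apply_self] at h1
      · exact hGME γ hγ x
    obtain ⟨ct', hct'⟩ : ∃ ct' : stab ME, ct' = ⟨ct, hGstab ct hctG⟩ := ⟨_, rfl⟩
    obtain ⟨γ', hγ'⟩ : ∃ γ' : stab ME, γ' = ⟨γ, hGstab γ hγG⟩ := ⟨_, rfl⟩
    have hD'le : Subgroup.closure ({ct', γ' * ct' * γ'⁻¹} : Set (stab ME)) ≤
        (F.autGroup E ⊓ triv ME ⊥).comap (stab ME).subtype := by
      rw [Subgroup.closure_le]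
      intro d hd
      simp only [Set.mem_insert_iff, Set.mem_singleton_iff] at hd
      rcases hd with rfl | rfl
      · refine Subgroup.mem_comap.mpr ?_
        rw [hct']; exact ⟨hctG, hctB⟩
      · refine Subgroup.mem_comap.mpr ?_
        rw [hct', hγ']
        exact ⟨Subgroup.mul_mem _ (Subgroup.mul_mem _ hγG hctG) (Subgroup.inv_mem _ hγG), hcgB⟩
    have hmap1 : (Subgroup.closure ({ct', γ' * ct' * γ'⁻¹} : Set (stab ME))).map
        (stab ME).subtype = Subgroup.closure {ct, γ * ct * γ⁻¹} := by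
      rw [MonoidHom.map_closure, Set.image_pair, hct', hγ']; rfl
    have hmap2 : (Subgroup.closure ({ct', γ' * ct' * γ'⁻¹} : Set (stab ME))).map (res ME) =
        Subgroup.closure {res ME ct', res ME γ' * res ME ct' * (res ME γ')⁻¹} := by
      rw [MonoidHom.map_closure, Set.image_pair, map_mul, map_mul, map_inv]
    have hres_np : ¬ IsPGroup p (Subgroup.closure
        ({res ME ct', res ME γ' * res ME ct' * (res ME γ')⁻¹} : Set (MulAut ME))) := by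
      intro hpg
      apply hγnp
      rw [← hmap1]
      rintro ⟨_, d, hd, rfl⟩
      have hrd : res ME d ∈ Subgroup.closure
          ({res ME ct', res ME γ' * res ME ct' * (res ME γ')⁻¹} : Set (MulAut ME)) := by
        rw [← hmap2]; exact ⟨d, hd, rfl⟩
      obtain ⟨a, ha⟩ := hpg ⟨_, hrd⟩
      have ha' : res ME (d ^ p ^ a) = 1 := by rw [map_pow]; exact congrArg Subtype.val ha
      have hdG := hD'le hd
      have hmem : ((d ^ p ^ a : stab ME) : MulAut E) ∈ triv ME ME := by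
        have h1 : ((d ^ p ^ a : stab ME) : MulAut E) ∈ triv ME ⊥ := by
          rw [Subgroup.coe_pow]; exact Subgroup.pow_mem _ hdG.2 _
        refine ⟨h1.1, fun x hx => ?_⟩
        have h2 := congrArg (fun f : MulAut ME => ((f ⟨x, hx⟩ : ME) : E)) ha'
        exact h2
      obtain ⟨b, hb⟩ := hTp ⟨_, hmem⟩
      refine ⟨a + b, ?_⟩
      apply Subtype.ext
      have hb' : (((d ^ p ^ a : stab ME) : MulAut E)) ^ p ^ b = 1 := congrArg Subtype.val hb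
      rw [Subgroup.coe_pow] at hb'
      rw [Subgroup.coe_pow, Subgroup.coe_one]
      show (d : MulAut E) ^ p ^ (a + b) = 1
      rw [pow_add, pow_mul]
      exact hb'
    -- the transvection structure on `ME`
    have hHcomm : ∀ a b : ME, a * b = b * a := fun a b => Subtype.ext (hMEc a b a.2 b.2)
    have hHp : IsPGroup p ME := hEp.to_subgroup ME
    obtain ⟨d0, hd0⟩ : ∃ d0 : ME, d0 = ⟨z0, hZM hz0⟩ := ⟨_, rfl⟩
    have hd0ord : orderOf d0 = p := by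
      apply orderOf_eq_prime
      · rw [hd0]; apply Subtype.ext; exact hMEe z0 (hZM hz0)
      · intro h
        apply hz01
        rw [hd0] at h
        exact congrArg (fun q : ME => ((q : E) : Ω)) h
    have hDcard : Nat.card (Subgroup.zpowers d0) = p := by rw [Nat.card_zpowers, hd0ord]
    have hmemD : ∀ x : ME, ((x : E) : Ω) ∈ Zc P → x ∈ Subgroup.zpowers d0 := by
      intro x hx
      rw [hZz] at hx
      obtain ⟨k, hk⟩ := Subgroup.mem_zpowers_iff.mp hx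
      refine Subgroup.mem_zpowers_iff.mpr ⟨k, ?_⟩
      apply Subtype.ext
      apply Subtype.ext
      rw [hd0, Subgroup.coe_zpow, Subgroup.coe_zpow]
      exact hk
    have hDt : ∀ x : ME, x⁻¹ * res ME ct' x ∈ Subgroup.zpowers d0 := by
      intro x
      apply hmemD
      have h1 := hctK.2.1 x.1 x.2
      rw [hZEmem] at h1
      rw [hct']
      exact h1
    have hDf : ∀ d ∈ Subgroup.zpowers d0, res ME ct' d = d := by
      intro d hd
      obtain ⟨k, rfl⟩ := Subgroup.mem_zpowers_iff.mp hd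
      rw [map_zpow]
      congr 1
      apply Subtype.ext
      rw [res_apply, hct', hd0]
      exact hctK.2.2 z0 hz0
    have ht1 : res ME ct' ≠ 1 := by
      intro h
      apply hctI
      apply hTinn
      refine ⟨⟨hctB.1, fun x hx => ?_⟩, hctG⟩
      have h2 := congrArg (fun f : MulAut ME => ((f ⟨x, hx⟩ : ME) : E)) h
      rw [hct'] at h2
      exact h2
    obtain ⟨ζ, hζ, P₁, hDP, -, hζinv, -, -, -, -, hζt⟩ :=
      inv_interface hHcomm hHp (res ME ct') (res ME γ') (Subgroup.zpowers d0) hDcard hDt hDf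
        ht1 hres_np
    have hζ' : ζ ∈ (Subgroup.closure ({ct', γ' * ct' * γ'⁻¹} : Set (stab ME))).map (res ME) := by
      rw [hmap2]; exact hζ
    obtain ⟨d, hd, rfl⟩ := hζ'
    have hdG := hD'le hd
    obtain ⟨φ, hφ⟩ : ∃ φ : MulAut E, φ = (d : MulAut E) := ⟨_, rfl⟩
    have hφG : φ ∈ F.autGroup E := hφ ▸ hdG.1
    have hφB : φ ∈ triv ME ⊥ := hφ ▸ hdG.2
    have hφinv : ∀ x : E, (x : Ω) ∈ Zc P → φ x = x⁻¹ := by
      intro x hx
      have hxM : x ∈ ME := (hMEmem x).mpr (Zc_le P hx)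
      have h1 := hζinv ⟨x, hxM⟩ (hDP (hmemD ⟨x, hxM⟩ hx))
      have h2 := congrArg (fun w : ME => (w : E)) h1
      rw [hφ]; exact h2
    have hκ : φ * ct * φ⁻¹ * ct⁻¹ ∈ triv ME ME ⊓ F.autGroup E := by
      refine ⟨⟨?_, ?_⟩, ?_⟩
      · exact ((triv ME ⊥).mul_mem ((triv ME ⊥).mul_mem ((triv ME ⊥).mul_mem hφB hctB)
          ((triv ME ⊥).inv_mem hφB)) ((triv ME ⊥).inv_mem hctB)).1
      · intro x hx
        have h1 : res ME (d * ct' * d⁻¹ * ct'⁻¹) = 1 := by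
          rw [map_mul, map_mul, map_mul, map_inv, map_inv, hζt]
          group
        have h2 := congrArg (fun f : MulAut ME => ((f ⟨x, hx⟩ : ME) : E)) h1
        rw [hct'] at h2
        rw [hφ]
        exact h2
      · exact Subgroup.mul_mem _ (Subgroup.mul_mem _ (Subgroup.mul_mem _ hφG hctG) (inv_mem hφG))
          (inv_mem hctG)
    obtain ⟨e, he⟩ := hTinn hκ
    have hth : ∀ x : E, ((φ (conjAut E t htN x) : E) : Ω) =
        ((e : Ω) * t) * ((φ x : E) : Ω) * ((e : Ω) * t)⁻¹ := by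
      intro x
      have h1 : φ (ct x) = (φ * ct * φ⁻¹ * ct⁻¹) (ct (φ x)) := by
        rw [MulAut.mul_apply, MulAut.mul_apply, MulAut.mul_apply, MulAut.inv_apply_self,
          MulAut.inv_apply_self]
      rw [← he] at h1
      have h2 : ((φ (ct x) : E) : Ω) = (e : Ω) * ((ct (φ x) : E) : Ω) * (e : Ω)⁻¹ := by
        rw [h1]; rfl
      rw [← hct, h2, hctap]
      group
    obtain ⟨N, ψ, hψ, hEN, htm, hψE, hψS, hψh⟩ :=
      exists_ext hS F hF hE hφG htS htN (S.mul_mem (hES e.2) htS) hth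
    have hψtP : ψ ⟨t, htm⟩ ∈ P := by
      have hzle : Subgroup.zpowers t ≤ N := by rw [Subgroup.zpowers_le]; exact htm
      have hres := hom_restrict F hψ hzle
      exact hP.2 (Subgroup.zpowers t) (by rw [Subgroup.zpowers_le]; exact htP) _ hres
        ⟨t, Subgroup.mem_zpowers t⟩
    have hmE : ψ ⟨t, htm⟩ * t⁻¹ ∈ E := by
      have h1 : t * (((e : Ω) * t)⁻¹ * ψ ⟨t, htm⟩) * t⁻¹ ∈ E :=
        (Subgroup.mem_normalizer_iff.mp htN _).mp hψh
      have h2 : ψ ⟨t, htm⟩ * t⁻¹ = (e : Ω) * (t * (((e : Ω) * t)⁻¹ * ψ ⟨t, htm⟩) * t⁻¹) := by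
        group
      rw [h2]; exact E.mul_mem e.2 h1
    have hmP : ψ ⟨t, htm⟩ * t⁻¹ ∈ P := P.mul_mem hψtP (P.inv_mem htP)
    obtain ⟨m, hm⟩ : ∃ m : Ω, m = ψ ⟨t, htm⟩ * t⁻¹ := ⟨_, rfl⟩
    have hmE' : m ∈ E := hm ▸ hmE
    have hmP' : m ∈ P := hm ▸ hmP
    have hmp : m ^ p = 1 := by
      have h1 := hMEe ⟨m, hmE'⟩ ((hMEmem _).mpr hmP')
      exact congrArg Subtype.val h1
    have hψt : ψ ⟨t, htm⟩ = m * t := by rw [hm]; group
    obtain ⟨c, hcdef⟩ : ∃ c : Ω, c = t⁻¹ * m⁻¹ * (t⁻¹)⁻¹ * (m⁻¹)⁻¹ := ⟨_, rfl⟩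
    have hcZ : c ∈ Zc P := hcdef ▸ comm_mem_Zc (P.inv_mem htP) (P.inv_mem hmP')
    have hcm : t * m = m * t * c := by rw [hcdef]; group
    have hcp : c ^ p = 1 := by
      have h1 := hcZ
      rw [hZz] at h1
      obtain ⟨k, hk⟩ := Subgroup.mem_zpowers_iff.mp h1
      have h2 : (z0 : Ω) ^ p = 1 := congrArg Subtype.val (hMEe z0 (hZM hz0))
      rw [← hk, ← zpow_natCast, ← zpow_mul, mul_comm, zpow_mul, zpow_natCast, h2, one_zpow]
    have hpow := Cfsg.Agent.Lib.Helper24.Coprime.mul_pow_of_central hcm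
      (Zc_comm hPp hc hcZ hmP').symm (Zc_comm hPp hc hcZ htP).symm p
    have hdvd : p ∣ p.choose 2 := hp.dvd_choose_self (by norm_num) (by
      have := hp.two_le
      omega)
    have hc2 : c ^ (p.choose 2) = 1 := by
      obtain ⟨q, hq⟩ := hdvd
      rw [hq, pow_mul, hcp, one_pow]
    rw [hmp, hc2, one_mul, mul_one] at hpow
    -- `ψ (t ^ p) = (t ^ p)⁻¹`
    have htpZ : t ^ p ∈ Zc P := pow_mem_Zc hPp hfr htP
    have h1 : ψ (⟨t, htm⟩ ^ p) = (t ^ p)⁻¹ := by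
      have h2 : (⟨t, htm⟩ : N) ^ p = ⟨((⟨t ^ p, htp⟩ : E) : Ω), hEN htp⟩ := Subtype.ext rfl
      rw [h2, hψE ⟨t ^ p, htp⟩ (hEN htp), hφinv ⟨t ^ p, htp⟩ htpZ]
      rfl
    rw [map_pow, hψt, hpow] at h1
    have h2 : (t ^ p) ^ 2 = 1 := by
      rw [pow_two]
      nth_rewrite 1 [h1]
      exact inv_mul_cancel _
    have h3 : (t ^ p) ^ p = 1 := by
      have h4 := htpZ
      rw [hZz] at h4
      obtain ⟨k, hk⟩ := Subgroup.mem_zpowers_iff.mp h4
      have h5 : (z0 : Ω) ^ p = 1 := congrArg Subtype.val (hMEe z0 (hZM hz0))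
      rw [← hk, ← zpow_natCast, ← zpow_mul, mul_comm, zpow_mul, zpow_natCast, h5, one_zpow]
    have hord : orderOf (t ^ p) ∣ Nat.gcd 2 p :=
      Nat.dvd_gcd (orderOf_dvd_of_pow_eq_one h2) (orderOf_dvd_of_pow_eq_one h3)
    have hg : Nat.gcd 2 p = 1 := (Nat.coprime_primes Nat.prime_two hp).mpr (Ne.symm hp2)
    rw [hg, Nat.dvd_one, orderOf_eq_one_iff] at hord
    exact hord

end main

end Cfsg.Agent.H84.SCGes
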