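import Cfsg.Agent.H84.SCMeta2

set_option autoImplicit false
open Cfsg Cfsg.FusionSystem

/-! Saturated fusion systems on metacyclic `2`-groups outside the small list are inner. -/

namespace Cfsg.Agent.H84.SCMeta3

open Cfsg.Agent.H84 Cfsg.Agent.H84.SCEss Cfsg.Agent.H84.SCMeta2 Cfsg.Agent.H84.Meta2

/-- The homocyclic group of rank two as a group of functions on `Fin 2`. -/
def prodFinTwo (n : ℕ) : Multiplicative (ZMod (2 ^ n)) × Multiplicative (ZMod (2 ^ n)) ≃*
    Multiplicative (Fin 2 → ZMod (2 ^ n)) where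
  toFun q := Multiplicative.ofAdd ![Multiplicative.toAdd q.1, Multiplicative.toAdd q.2]
  invFun f := (Multiplicative.ofAdd (Multiplicative.toAdd f 0),
    Multiplicative.ofAdd (Multiplicative.toAdd f 1))
  left_inv q := rfl
  right_inv f := by
    apply Multiplicative.toAdd.injective
    funext i
    fin_cases i <;> rfl
  map_mul' a b := by
    apply Multiplicative.toAdd.injective
    funext i
    fin_cases i <;> rfl

variable {Ω : Type*} [Group Ω] {S : Subgroup Ω} [Finite S]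

theorem inner_of_metacyclic (hS : IsPGroup 2 S) (F : FusionSystem S) (hF : F.IsSaturated 2)
    (hm : Cfsg.IsMetacyclic S)
    (hh : ¬ ∃ n k : ℕ, Nonempty (S ≃* Multiplicative (Fin k → ZMod (2 ^ n))))
    (hd : ¬ ∃ m : ℕ, Nonempty (S ≃* DihedralGroup m))
    (hq : ¬ ∃ m : ℕ, Nonempty (S ≃* QuaternionGroup m)) (hsd : ¬ Cfsg.IsQuasiDihedral S) :
    ∀ P : Subgroup Ω, F.Hom P = (innerFusionSystem S).Hom P := by
  haveI : Fact (Nat.Prime 2) := ⟨Nat.prime_two⟩
  have hSC : F.StronglyClosed S := ⟨le_rfl, fun R hR φ hφ x => (F.le_of_mem hφ).2 x⟩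
  have hdqs : ¬ DQS S := by
    rintro (h | h | h)
    · exact hd h
    · exact hq h
    · exact hsd h
  have hne : ∀ E, ¬ F.IsEssential 2 E := fun E hE =>
    Cfsg.Agent.H84.FusZ.ess_ne hS F hF hE
      (le_antisymm hE.1.1 (le_of_essential₂ hS F hSC hm hdqs hE))
  have hA : IsPGroup 2 (MulAut S) := by
    by_contra hA
    rcases Cfsg.Agent.S1896.result hS hm hA with ⟨⟨e⟩⟩ | ⟨n, ⟨e⟩⟩
    · exact hq ⟨2, ⟨e⟩⟩
    · exact hh ⟨n, 2, ⟨e.trans (prodFinTwo n)⟩⟩
  have hAut : F.autGroup S ≤ autInducedBy S S := by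
    obtain ⟨⟨-, R, hR⟩, -⟩ := Cfsg.Agent.Lib.Helper87.FSSat.far_top F hF
    have hG2 : IsPGroup 2 (⊤ : Subgroup (F.autGroup S)) := (hA.to_subgroup _).to_subgroup _
    have hRtop : (⊤ : Subgroup (F.autGroup S)) = R := R.is_maximal' hG2 le_top
    intro α hα
    have h1 : (⟨α, hα⟩ : F.autGroup S) ∈ (R : Subgroup _) := by rw [← hRtop]; trivial
    rw [hR, Subgroup.mem_subgroupOf] at h1
    exact h1
  have hle : F ≤ innerFusionSystem S := by
    apply Cfsg.Agent.S5082.result 2 hS F hF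
    rintro P (rfl | hP)
    · exact hAut.trans (autInducedBy_le_autGroup (innerFusionSystem P) le_rfl)
    · exact absurd hP (hne P)
  intro P
  apply Set.Subset.antisymm (hle P)
  rintro φ ⟨hPS, g, hg, hφ⟩
  have h1 : φ = conjHom P g := MonoidHom.ext hφ
  rw [h1]; exact F.conj_mem hPS hg

end Cfsg.Agent.H84.SCMeta3
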