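import Mathlib

set_option autoImplicit false

/-! Finite `p`-group facts used for the weakly-embedded nilpotency criterion: orders of joins,
subgroups of prescribed order between two subgroups, and normal subgroups of prescribed order
above a normal subgroup. -/

namespace Cfsg.Agent.H84.WEmbA

section General

variable {G : Type*} [Group G]

theorem card_mul_le_card_sup {H K : Subgroup G} [Finite ↥(H ⊔ K)] (h : H ⊓ K = ⊥) :
    Nat.card H * Nat.card K ≤ Nat.card ↥(H ⊔ K) := by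
  rw [← Nat.card_prod]
  refine Nat.card_le_card_of_injective (fun x : H × K =>
    (⟨(x.1 : G) * x.2, Subgroup.mul_mem _ (Subgroup.mem_sup_left x.1.2)
      (Subgroup.mem_sup_right x.2.2)⟩ : ↥(H ⊔ K))) ?_
  rintro ⟨a, b⟩ ⟨a', b'⟩ hab
  have e : (a : G) * b = a' * b' := congrArg Subtype.val hab
  have h1 : (a' : G)⁻¹ * a = b' * (b : G)⁻¹ := by
    rw [inv_mul_eq_iff_eq_mul, ← mul_assoc, ← e, mul_inv_cancel_right]
  have h2 : (a' : G)⁻¹ * a ∈ H ⊓ K :=
    ⟨H.mul_mem (H.inv_mem a'.2) a.2, h1 ▸ K.mul_mem b'.2 (K.inv_mem b.2)⟩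
  rw [h, Subgroup.mem_bot, inv_mul_eq_one] at h2
  have ha : a = a' := Subtype.ext h2.symm
  subst ha
  have hb : (b : G) = b' := mul_left_cancel e
  exact Prod.ext rfl (Subtype.ext hb)

theorem card_sup_le_mul {H K : Subgroup G} [Finite H] [Finite K]
    (hn : H ≤ Subgroup.normalizer (K : Set G)) :
    Nat.card ↥(H ⊔ K) ≤ Nat.card H * Nat.card K := by
  rw [← Nat.card_prod]
  refine Nat.card_le_card_of_surjective (fun x : H × K =>
    (⟨(x.1 : G) * x.2, Subgroup.mul_mem _ (Subgroup.mem_sup_left x.1.2)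
      (Subgroup.mem_sup_right x.2.2)⟩ : ↥(H ⊔ K))) ?_
  rintro ⟨y, hy⟩
  have hy' : y ∈ ((H ⊔ K : Subgroup G) : Set G) := hy
  rw [Subgroup.coe_mul_of_left_le_normalizer_right H K hn] at hy'
  obtain ⟨a, ha, b, hb, rfl⟩ := Set.mem_mul.mp hy'
  exact ⟨(⟨a, ha⟩, ⟨b, hb⟩), rfl⟩

theorem card_subgroupOf {A B : Subgroup G} (h : A ≤ B) : Nat.card (A.subgroupOf B) = Nat.card A :=
  Nat.card_congr (Subgroup.subgroupOfEquivOfLe h).toEquiv

theorem exists_between_aux [Finite G] {p : ℕ} [Fact p.Prime] (hG : IsPGroup p G) (A : Subgroup G)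
    {m : ℕ} (h1 : Nat.card A ≤ p ^ m) (h2 : p ^ m ≤ Nat.card G) :
    ∃ K : Subgroup G, A ≤ K ∧ Nat.card K = p ^ m := by
  have hp : p.Prime := Fact.out
  obtain ⟨a, ha⟩ := (hG.to_subgroup A).exists_card_eq
  obtain ⟨b, hb⟩ := hG.exists_card_eq
  have ham : a ≤ m := by
    rw [ha] at h1
    exact (Nat.pow_le_pow_iff_right hp.one_lt).mp h1
  have hmb : m ≤ b := by
    rw [hb] at h2
    exact (Nat.pow_le_pow_iff_right hp.one_lt).mp h2
  have hdvd : p ^ m ∣ Nat.card G := by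
    rw [hb]
    exact pow_dvd_pow p hmb
  obtain ⟨K, hK, hAK⟩ := Sylow.exists_subgroup_card_pow_prime_le p hdvd A ha ham
  exact ⟨K, hAK, hK⟩

/-- A proper normal subgroup of a finite `p`-group lies in a normal subgroup `p` times as big. -/
theorem exists_normal_step [Finite G] {p : ℕ} [Fact p.Prime] (hG : IsPGroup p G) (N : Subgroup G)
    [hNn : N.Normal] (hN : N ≠ ⊤) :
    ∃ K : Subgroup G, K.Normal ∧ N ≤ K ∧ Nat.card K = p * Nat.card N := by
  have hp : p.Prime := Fact.out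
  haveI : Nontrivial (G ⧸ N) := QuotientGroup.nontrivial_iff.mpr hN
  have hQ : IsPGroup p (G ⧸ N) := hG.to_quotient N
  haveI := hQ.center_nontrivial
  obtain ⟨z, hz1⟩ := exists_ne (1 : Subgroup.center (G ⧸ N))
  obtain ⟨g, hg⟩ := QuotientGroup.mk_surjective (z : G ⧸ N)
  let Z : Subgroup G := (Subgroup.center (G ⧸ N)).comap (QuotientGroup.mk' N)
  have hmemZ : ∀ x : G, x ∈ Z ↔ (x : G ⧸ N) ∈ Subgroup.center (G ⧸ N) := fun x => Iff.rfl
  have hNZ : N ≤ Z := by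
    intro x hx
    rw [hmemZ, (QuotientGroup.eq_one_iff x).mpr hx]
    exact Subgroup.one_mem _
  have hgZ : g ∈ Z := by
    rw [hmemZ, hg]
    exact z.2
  have hgN : g ∉ N := by
    intro h
    apply hz1
    apply Subtype.ext
    rw [← hg]
    exact (QuotientGroup.eq_one_iff g).mpr h
  have hcomm : ∀ k ∈ Z, ∀ x : G, x * k * x⁻¹ * k⁻¹ ∈ N := by
    intro k hk x
    rw [← QuotientGroup.eq_one_iff]
    have hcen := (hmemZ k).mp hk
    rw [Subgroup.mem_center_iff] at hcen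
    have h1 := hcen (x : G ⧸ N)
    show ((x : G ⧸ N) * (k : G ⧸ N) * (x : G ⧸ N)⁻¹ * (k : G ⧸ N)⁻¹) = 1
    rw [h1, mul_inv_cancel_right, mul_inv_cancel]
  obtain ⟨a, ha⟩ := (hG.to_subgroup N).exists_card_eq
  obtain ⟨c, hc⟩ := (hG.to_subgroup Z).exists_card_eq
  have hlt : Nat.card N < Nat.card Z := by
    by_contra hle
    push_neg at hle
    have := Subgroup.eq_of_le_of_card_ge hNZ hle
    exact hgN (this ▸ hgZ)
  have hac : a < c := by
    rw [ha, hc] at hlt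
    exact (Nat.pow_lt_pow_iff_right hp.one_lt).mp hlt
  have hle : p ^ (a + 1) ≤ Nat.card Z := by
    rw [hc]
    exact Nat.pow_le_pow_right hp.pos hac
  obtain ⟨K', hNK', hK'⟩ := exists_between_aux (hG.to_subgroup Z) (N.subgroupOf Z) (m := a + 1)
    (by rw [card_subgroupOf hNZ, ha]; exact Nat.pow_le_pow_right hp.pos (Nat.le_succ a)) hle
  have hNK : N ≤ K'.map Z.subtype := by
    intro x hx
    exact ⟨⟨x, hNZ hx⟩, hNK' (Subgroup.mem_subgroupOf.mpr hx), rfl⟩
  refine ⟨K'.map Z.subtype, ⟨?_⟩, hNK, ?_⟩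
  · rintro _ ⟨k, hk, rfl⟩ x
    have h1 := hcomm (k : G) k.2 x
    have h2 : x * (k : G) * x⁻¹ = (x * (k : G) * x⁻¹ * (k : G)⁻¹) * (k : G) := by group
    show x * (k : G) * x⁻¹ ∈ Subgroup.map Z.subtype K'
    rw [h2]
    exact Subgroup.mul_mem _ (hNK h1) ⟨k, hk, rfl⟩
  · rw [Subgroup.card_map_of_injective Z.subtype_injective, hK', ha, pow_succ']

/-- Normal subgroups of every admissible order above a normal subgroup of a finite `p`-group. -/
theorem exists_normal_card [Finite G] {p : ℕ} [Fact p.Prime] (hG : IsPGroup p G) (N : Subgroup G)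
    [hN : N.Normal] {m : ℕ} (h1 : Nat.card N ≤ p ^ m) (h2 : p ^ m ≤ Nat.card G) :
    ∃ K : Subgroup G, K.Normal ∧ N ≤ K ∧ Nat.card K = p ^ m := by
  classical
  have hp : p.Prime := Fact.out
  let X : Type _ := {K : Subgroup G // K.Normal ∧ N ≤ K ∧ Nat.card K ≤ p ^ m}
  haveI : Nonempty X := ⟨⟨N, hN, le_rfl, h1⟩⟩
  obtain ⟨⟨K, hKn, hNK, hKc⟩, hmax⟩ := Finite.exists_max (fun K : X => Nat.card (K.1 : Subgroup G))
  refine ⟨K, hKn, hNK, ?_⟩
  by_contra hne
  have hlt : Nat.card K < p ^ m := lt_of_le_of_ne hKc hne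
  have hKtop : K ≠ ⊤ := by
    rintro rfl
    rw [Subgroup.card_top] at hlt
    omega
  haveI := hKn
  obtain ⟨K₁, hK₁n, hKK₁, hK₁c⟩ := exists_normal_step hG K hKtop
  obtain ⟨a, ha⟩ := (hG.to_subgroup K).exists_card_eq
  have ham : a < m := by
    rw [ha] at hlt
    exact (Nat.pow_lt_pow_iff_right hp.one_lt).mp hlt
  have hle : Nat.card K₁ ≤ p ^ m := by
    rw [hK₁c, ha, ← pow_succ']
    exact Nat.pow_le_pow_right hp.pos ham
  have h3 := hmax ⟨K₁, hK₁n, hNK.trans hKK₁, hle⟩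
  have h4 : Nat.card K₁ ≤ Nat.card K := h3
  rw [hK₁c] at h4
  have hpos : 0 < Nat.card K := Nat.card_pos
  have h2p : 2 ≤ p := hp.two_le
  nlinarith

end General

section Ambient

variable {Ω : Type*} [Group Ω] {S : Subgroup Ω}

theorem fin_of_le [Finite S] {A : Subgroup Ω} (h : A ≤ S) : Finite A :=
  Finite.of_injective (Subgroup.inclusion h) (Subgroup.inclusion_injective h)

theorem exists_between [Finite S] {p : ℕ} [Fact p.Prime] (hS : IsPGroup p S) {A B : Subgroup Ω}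
    (hAB : A ≤ B) (hB : B ≤ S) {m : ℕ} (h1 : Nat.card A ≤ p ^ m) (h2 : p ^ m ≤ Nat.card B) :
    ∃ Q : Subgroup Ω, A ≤ Q ∧ Q ≤ B ∧ Nat.card Q = p ^ m := by
  haveI : Finite B := fin_of_le hB
  have hBp : IsPGroup p B := hS.to_le hB
  obtain ⟨K, hAK, hK⟩ := exists_between_aux hBp (A.subgroupOf B) (m := m)
    (by rw [card_subgroupOf hAB]; exact h1) h2
  refine ⟨K.map B.subtype, ?_, ?_, ?_⟩
  · intro x hx
    exact ⟨⟨x, hAB hx⟩, hAK (Subgroup.mem_subgroupOf.mpr hx), rfl⟩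
  · rintro _ ⟨y, -, rfl⟩
    exact y.2
  · rw [Subgroup.card_map_of_injective B.subtype_injective]
    exact hK

/-- The image in the ambient group of a normal subgroup of `S` is normalized by `S`. -/
theorem le_normalizer_map (K : Subgroup S) [hK : K.Normal] :
    S ≤ Subgroup.normalizer ((K.map S.subtype : Subgroup Ω) : Set Ω) := by
  intro g hg
  rw [Subgroup.mem_normalizer_iff]
  intro h
  constructor
  · rintro ⟨k, hk, rfl⟩
    exact ⟨(⟨g, hg⟩ : S) * k * (⟨g, hg⟩ : S)⁻¹, hK.conj_mem k hk _, rfl⟩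
  · rintro ⟨k, hk, hkh⟩
    refine ⟨(⟨g, hg⟩ : S)⁻¹ * k * (⟨g, hg⟩ : S)⁻¹⁻¹, hK.conj_mem k hk _, ?_⟩
    show g⁻¹ * (S.subtype k) * g⁻¹⁻¹ = h
    rw [hkh]
    group

theorem le_normalizer_bot : S ≤ Subgroup.normalizer (((⊥ : Subgroup Ω)) : Set Ω) := by
  intro g _
  rw [Subgroup.mem_normalizer_iff]
  intro h
  simp only [Subgroup.mem_bot]
  exact conj_eq_one_iff.symm

theorem le_normalizer_inf {A B : Subgroup Ω} (hA : S ≤ Subgroup.normalizer (A : Set Ω))
    (hB : S ≤ Subgroup.normalizer (B : Set Ω)) :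
    S ≤ Subgroup.normalizer ((A ⊓ B : Subgroup Ω) : Set Ω) := by
  intro g hg
  rw [Subgroup.mem_normalizer_iff]
  intro h
  rw [Subgroup.mem_inf, Subgroup.mem_inf, ← Subgroup.mem_normalizer_iff.mp (hA hg) h,
    ← Subgroup.mem_normalizer_iff.mp (hB hg) h]

theorem le_normalizer_sup {A B : Subgroup Ω} (hA : S ≤ Subgroup.normalizer (A : Set Ω))
    (hB : S ≤ Subgroup.normalizer (B : Set Ω)) :
    S ≤ Subgroup.normalizer ((A ⊔ B : Subgroup Ω) : Set Ω) :=
  (le_inf hA hB).trans (Subgroup.normalizer_inf_normalizer_le_normalizer_sup A B)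

/-- Normal subgroups of `S` of every admissible order above a subgroup normalized by `S`. -/
theorem exists_normal_above [Finite S] {p : ℕ} [Fact p.Prime] (hS : IsPGroup p S)
    {T : Subgroup Ω} (hT : T ≤ S) (hTn : S ≤ Subgroup.normalizer (T : Set Ω)) {m : ℕ}
    (h1 : Nat.card T ≤ p ^ m) (h2 : p ^ m ≤ Nat.card S) :
    ∃ Q : Subgroup Ω, T ≤ Q ∧ Q ≤ S ∧ S ≤ Subgroup.normalizer (Q : Set Ω) ∧
      Nat.card Q = p ^ m := by
  haveI : (T.subgroupOf S).Normal := (Subgroup.normal_subgroupOf_iff_le_normalizer hT).mpr hTn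
  obtain ⟨K, hKn, hTK, hK⟩ := exists_normal_card hS (T.subgroupOf S) (m := m)
    (by rw [card_subgroupOf hT]; exact h1) h2
  haveI := hKn
  refine ⟨K.map S.subtype, ?_, ?_, le_normalizer_map K, ?_⟩
  · intro x hx
    exact ⟨⟨x, hT hx⟩, hTK (Subgroup.mem_subgroupOf.mpr hx), rfl⟩
  · rintro _ ⟨y, -, rfl⟩
    exact y.2
  · rw [Subgroup.card_map_of_injective S.subtype_injective]
    exact hK

end Ambient

end Cfsg.Agent.H84.WEmbA
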