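import Mathlib
import Cfsg.Agent.H84.SupB
import Cfsg.Agent.H84.WEmbA
import Cfsg.Agent.S5284
import Cfsg.Agent.S0638

set_option autoImplicit false

/-!
Supersoluble type (S5287), part C: abelian groups for odd primes, and the homocyclic case.
-/

namespace Cfsg.Agent.H84.SupC

open Cfsg Cfsg.FusionSystem Cfsg.Agent.H84.SupA Cfsg.Agent.H84.SupB

variable {Ω : Type*} [Group Ω] {S : Subgroup Ω}

/-- The homocyclic groups of rank two are not of supersoluble type. -/
theorem not_chain_homocyclic [Finite S] (p : ℕ) [Fact p.Prime] (hS : IsPGroup p S) (n : ℕ)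
    (hn : 0 < n)
    (e : S ≃* Multiplicative (ZMod (p ^ n)) × Multiplicative (ZMod (p ^ n))) :
    ¬ ∀ F : FusionSystem S, F.IsSaturated p → Chain F := by
  intro hall
  have hab : IsMulCommutative S :=
    ⟨⟨fun a b => e.injective (by rw [map_mul, map_mul, mul_comm])⟩⟩
  exact (Cfsg.Agent.S5284.result p hS hab).mp hall
    ⟨n, PUnit, inferInstance, hn, ⟨e.trans (MulEquiv.prodUnique).symm⟩⟩

/-- An element of order `p` in the cyclic group of order `p ^ n`. -/
theorem exists_order_p (p : ℕ) [Fact p.Prime] (n : ℕ) (hn : 0 < n) :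
    ∃ g : Multiplicative (ZMod (p ^ n)), g ^ p = 1 ∧ g ≠ 1 := by
  have hp := (Fact.out : p.Prime)
  refine ⟨Multiplicative.ofAdd ((p ^ (n - 1) : ℕ) : ZMod (p ^ n)), ?_, ?_⟩
  · rw [← ofAdd_nsmul, nsmul_eq_mul, ← Nat.cast_mul, ← pow_succ', Nat.sub_add_cancel hn,
      ZMod.natCast_self]
    rfl
  · intro h
    have h0 : ((p ^ (n - 1) : ℕ) : ZMod (p ^ n)) = 0 := h
    rw [ZMod.natCast_eq_zero_iff] at h0
    have h1 : p ^ n ≤ p ^ (n - 1) := Nat.le_of_dvd (pow_pos hp.pos _) h0
    have h2 : p ^ (n - 1) < p ^ n := Nat.pow_lt_pow_right hp.one_lt (by omega)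
    omega

/-- A metacyclic `p`-group (`p` odd) that is a product of a homocyclic group of rank two with
a group `H` has `H` trivial. -/
theorem trivial_factor {R : Type*} [Group R] [Finite R] (p : ℕ) [Fact p.Prime] (hp : p ≠ 2)
    (hR : IsPGroup p R) (hm : Cfsg.IsMetacyclic R) (hnc : ¬ IsCyclic R) (n : ℕ) (hn : 0 < n)
    (H : Type) [CommGroup H]
    (e : R ≃* (Multiplicative (ZMod (p ^ n)) × Multiplicative (ZMod (p ^ n))) × H) :
    ∀ h : H, h = 1 := by
  have hpp := (Fact.out : p.Prime)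
  obtain ⟨-, hW⟩ := Cfsg.Agent.S0638.result hp hR hm hnc
  obtain ⟨g, hgp, hg1⟩ := exists_order_p p n hn
  set W : Subgroup R := Cfsg.omegaOne p (⊤ : Subgroup R) with hWdef
  have hmemW : ∀ x : R, x ^ p = 1 → x ∈ W := fun x hx =>
    Subgroup.subset_closure ⟨Subgroup.mem_top x, hx⟩
  let u : R := e.symm ((g, 1), 1)
  let v : R := e.symm ((1, g), 1)
  have hu : u ^ p = 1 := by
    show (e.symm ((g, 1), 1)) ^ p = 1
    rw [← map_pow]
    have : (((g, 1), 1) : (Multiplicative (ZMod (p ^ n)) × Multiplicative (ZMod (p ^ n))) × H) ^ p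
        = 1 := by
      ext <;> simp [hgp]
    rw [this, map_one]
  have hv : v ^ p = 1 := by
    show (e.symm ((1, g), 1)) ^ p = 1
    rw [← map_pow]
    have : (((1, g), 1) : (Multiplicative (ZMod (p ^ n)) × Multiplicative (ZMod (p ^ n))) × H) ^ p
        = 1 := by
      ext <;> simp [hgp]
    rw [this, map_one]
  have hu1 : u ≠ 1 := by
    intro h
    have h2 : e u = 1 := by rw [h, map_one]
    have h3 : e u = ((g, 1), 1) := e.apply_symm_apply _
    rw [h3] at h2
    exact hg1 (congrArg (fun t => t.1.1) h2)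
  have hv1 : v ≠ 1 := by
    intro h
    have h2 : e v = 1 := by rw [h, map_one]
    have h3 : e v = ((1, g), 1) := e.apply_symm_apply _
    rw [h3] at h2
    exact hg1 (congrArg (fun t => t.1.2) h2)
  have hou : orderOf u = p := orderOf_eq_prime hu hu1
  have hov : orderOf v = p := orderOf_eq_prime hv hv1
  have hinf : Subgroup.zpowers u ⊓ Subgroup.zpowers v = ⊥ := by
    rw [eq_bot_iff]
    rintro x ⟨hxu, hxv⟩
    obtain ⟨i, rfl⟩ := Subgroup.mem_zpowers_iff.mp hxu
    obtain ⟨j, hj⟩ := Subgroup.mem_zpowers_iff.mp hxv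
    have h1 : e (u ^ i) = ((g ^ i, 1), 1) := by
      rw [map_zpow]
      have h3 : e u = ((g, 1), 1) := e.apply_symm_apply _
      rw [h3]
      ext <;> simp
    have h2 : e (v ^ j) = ((1, g ^ j), 1) := by
      rw [map_zpow]
      have h3 : e v = ((1, g), 1) := e.apply_symm_apply _
      rw [h3]
      ext <;> simp
    rw [hj, h1] at h2
    have h4 : g ^ i = 1 := congrArg (fun t => t.1.1) h2
    rw [h4] at h1
    rw [Subgroup.mem_bot]
    apply e.injective
    rw [h1, map_one]
    rfl
  have hle : Subgroup.zpowers u ⊔ Subgroup.zpowers v ≤ W :=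
    sup_le ((Subgroup.zpowers_le).mpr (hmemW u hu)) ((Subgroup.zpowers_le).mpr (hmemW v hv))
  have hcard : Nat.card W ≤ Nat.card ↥(Subgroup.zpowers u ⊔ Subgroup.zpowers v) := by
    have := Cfsg.Agent.H84.WEmbA.card_mul_le_card_sup hinf
    rw [Nat.card_zpowers, Nat.card_zpowers, hou, hov] at this
    rw [hW, pow_two]
    exact this
  have hWeq : Subgroup.zpowers u ⊔ Subgroup.zpowers v = W :=
    Subgroup.eq_of_le_of_card_ge hle hcard
  -- the kernel of the projection to `H`
  let π : R →* H := (MonoidHom.snd _ H).comp e.toMonoidHom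
  have hWker : W ≤ π.ker := by
    rw [← hWeq]
    refine sup_le ((Subgroup.zpowers_le).mpr ?_) ((Subgroup.zpowers_le).mpr ?_)
    · rw [MonoidHom.mem_ker]
      show (e u).2 = 1
      have h3 : e u = ((g, 1), 1) := e.apply_symm_apply _
      rw [h3]
    · rw [MonoidHom.mem_ker]
      show (e v).2 = 1
      have h3 : e v = ((1, g), 1) := e.apply_symm_apply _
      rw [h3]
  -- every element of `H` killed by `p` is trivial
  have hH1 : ∀ h : H, h ^ p = 1 → h = 1 := by
    intro h hh
    let x : R := e.symm ((1, 1), h)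
    have hx : x ^ p = 1 := by
      show (e.symm ((1, 1), h)) ^ p = 1
      rw [← map_pow]
      have : (((1, 1), h) : (Multiplicative (ZMod (p ^ n)) × Multiplicative (ZMod (p ^ n))) × H) ^ p
          = 1 := by
        ext <;> simp [hh]
      rw [this, map_one]
    have h1 := hWker (hmemW x hx)
    rw [MonoidHom.mem_ker] at h1
    have h2 : (e x).2 = 1 := h1
    have h3 : e x = ((1, 1), h) := e.apply_symm_apply _
    rw [h3] at h2
    exact h2
  intro h
  by_contra hne
  let x : R := e.symm ((1, 1), h)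
  obtain ⟨k, hk⟩ := hR x
  have hhk : h ^ p ^ k = 1 := by
    have h1 : e (x ^ p ^ k) = 1 := by rw [hk, map_one]
    rw [map_pow] at h1
    have h3 : e x = ((1, 1), h) := e.apply_symm_apply _
    rw [h3] at h1
    exact congrArg (fun t => t.2) h1
  -- descend
  have key : ∀ j : ℕ, h ^ p ^ j = 1 → h = 1 := by
    intro j
    induction j with
    | zero => intro h0; simpa using h0
    | succ j ih =>
      intro hj
      apply ih
      apply hH1
      rw [← pow_mul, ← pow_succ]
      exact hj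
  exact hne (key k hhk)

/-- Abelian metacyclic groups for odd `p` that are not homocyclic of rank two. -/
theorem chain_odd_abelian [Finite S] (p : ℕ) [Fact p.Prime] (hp : p ≠ 2) (hS : IsPGroup p S)
    (hm : Cfsg.IsMetacyclic S) (hab : IsMulCommutative S)
    (hH : ¬ ∃ n : ℕ, 0 < n ∧
      Nonempty (S ≃* Multiplicative (ZMod (p ^ n)) × Multiplicative (ZMod (p ^ n))))
    (F : FusionSystem S) (hF : F.IsSaturated p) : Chain F := by
  by_cases hc : IsCyclic S
  · exact chain_of_cyclic F hc
  refine (Cfsg.Agent.S5284.result p hS hab).mpr ?_ F hF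
  rintro ⟨n, H, _, hn, ⟨e⟩⟩
  have h1 := trivial_factor p hp hS hm hc n hn H e
  haveI : Unique H := ⟨⟨1⟩, h1⟩
  exact hH ⟨n, hn, ⟨e.trans MulEquiv.prodUnique⟩⟩

end Cfsg.Agent.H84.SupC
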