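import Mathlib
import Cfsg.Agent.H84.SupA
import Cfsg.Agent.S5076
import Cfsg.Agent.S3116
import Cfsg.Agent.H85.DihAut
import Cfsg.Agent.Lib.Helper20.QD
import Cfsg.Agent.Lib.Helper14.QDIso

set_option autoImplicit false

/-!
Supersoluble type (S5287), part D: generalized quaternion, quasi-dihedral and dihedral groups are
not of supersoluble type, given a finite group realising a fusion that is not inner.
-/

namespace Cfsg.Agent.H84.SupD

open Cfsg Cfsg.FusionSystem Cfsg.Agent.H84.SupA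

variable {Ω : Type*} [Group Ω] {S : Subgroup Ω}

/-- A conjugation between two elements of a Sylow subgroup is a map of the group fusion system
on the cyclic subgroup. -/
theorem conj_mem_groupFS {G : Type*} [Group G] (P : Subgroup G) {g₁ g₂ c : G} (h₁ : g₁ ∈ P)
    (h₂ : g₂ ∈ P) (hc : c * g₁ * c⁻¹ = g₂) :
    conjHom (Subgroup.zpowers g₁) c ∈ (groupFusionSystem P).Hom (Subgroup.zpowers g₁) := by
  refine ⟨(Subgroup.zpowers_le).mpr h₁, ?_, c, fun x => rfl⟩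
  rintro ⟨x, hx⟩
  obtain ⟨j, rfl⟩ := Subgroup.mem_zpowers_iff.mp hx
  show c * g₁ ^ j * c⁻¹ ∈ P
  rw [← conj_zpow, hc]
  exact zpow_mem h₂ j

/-- The generic obstruction for the fusion system of a finite group on a Sylow `2`-subgroup. -/
theorem not_all_chain_of_group [Finite S] (hS : IsPGroup 2 S)
    (hodd : ∀ (α : MulAut S) (N : ℕ), Odd N → α ^ N = 1 → α = 1)
    {G : Type*} [Group G] [Finite G] (P : Sylow 2 G) (e : ↥(P : Subgroup G) ≃* S)
    {g₁ g₂ c : G} (h₁ : g₁ ∈ (P : Subgroup G)) (h₂ : g₂ ∈ (P : Subgroup G))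
    (hc : c * g₁ * c⁻¹ = g₂) (hn : ∀ s ∈ (P : Subgroup G), s * g₁ * s⁻¹ ≠ g₂) :
    ¬ ∀ F : FusionSystem S, F.IsSaturated 2 → Chain F := by
  haveI : Fact (Nat.Prime 2) := ⟨Nat.prime_two⟩
  refine not_all_chain hS hodd P.isPGroup' (groupFusionSystem (P : Subgroup G))
    (Cfsg.Agent.S5076.result 2 P) e (Subgroup.zpowers g₁) (conjHom (Subgroup.zpowers g₁) c)
    (conj_mem_groupFS _ h₁ h₂ hc) ⟨g₁, Subgroup.mem_zpowers g₁⟩ ?_
  intro s hs
  show s * g₁ * s⁻¹ ≠ c * g₁ * c⁻¹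
  rw [hc]
  exact hn s hs

/-- No odd-order automorphisms, from a `2`-group of automorphisms. -/
theorem hodd_of_isPGroup {X : Type*} [Group X] (h : IsPGroup 2 (MulAut X))
    (α : MulAut X) (N : ℕ) (hN : Odd N) (hα : α ^ N = 1) : α = 1 := by
  obtain ⟨k, hk⟩ := h α
  have h1 : orderOf α ∣ N := orderOf_dvd_of_pow_eq_one hα
  have h2 : orderOf α ∣ 2 ^ k := orderOf_dvd_of_pow_eq_one hk
  have h3 : Nat.Coprime N (2 ^ k) := (Nat.Coprime.pow_right k hN.coprime_two_right)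
  have h4 : orderOf α = 1 := Nat.eq_one_of_dvd_coprimes h3 h1 h2
  exact orderOf_eq_one_iff.mp h4

/-- Generalized quaternion groups of order at least `16`. -/
theorem not_chain_quat [Finite S] (hS : IsPGroup 2 S) (k : ℕ) (hk : 2 ≤ k)
    (eS : S ≃* QuaternionGroup (2 ^ k))
    {G : Type} [Group G] [Finite G] (P : Sylow 2 G)
    (e : ↥(P : Subgroup G) ≃* QuaternionGroup (2 ^ k)) (c : G)
    (hc : c * ((e.symm (QuaternionGroup.a ((2 ^ (k - 1) : ℕ) : ZMod (2 * 2 ^ k)))) : G) * c⁻¹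
        = ((e.symm (QuaternionGroup.xa 0)) : G)) :
    ¬ ∀ F : FusionSystem S, F.IsSaturated 2 → Chain F := by
  have hodd : ∀ (α : MulAut S) (N : ℕ), Odd N → α ^ N = 1 → α = 1 := by
    intro α N hN hα
    have h1 : (MulAut.congr eS α) ^ N = 1 := by rw [← map_pow, hα, map_one]
    have h2 := Cfsg.Agent.H85.quaternion_aut_eq_one_of_odd k hk _ N hN h1
    exact (MulAut.congr eS).injective (by rw [h2, map_one])
  refine not_all_chain_of_group hS hodd P (e.trans eS.symm) (SetLike.coe_mem _)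
    (SetLike.coe_mem _) hc ?_
  intro s hs heq
  set i : ZMod (2 * 2 ^ k) := ((2 ^ (k - 1) : ℕ) : ZMod (2 * 2 ^ k)) with hi
  have h1 : (⟨s, hs⟩ : ↥(P : Subgroup G)) * e.symm (QuaternionGroup.a i)
      = e.symm (QuaternionGroup.xa 0) * ⟨s, hs⟩ := by
    apply Subtype.ext
    show s * ((e.symm (QuaternionGroup.a i) : ↥(P : Subgroup G)) : G)
      = ((e.symm (QuaternionGroup.xa 0) : ↥(P : Subgroup G)) : G) * s
    rw [← heq]
    group
  have h2 : e ⟨s, hs⟩ * QuaternionGroup.a i = QuaternionGroup.xa 0 * e ⟨s, hs⟩ := by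
    have := congrArg e h1
    rwa [map_mul, map_mul, e.apply_symm_apply, e.apply_symm_apply] at this
  generalize e ⟨s, hs⟩ = t at h2
  cases t with
  | a j =>
    rw [QuaternionGroup.a_mul_a, QuaternionGroup.xa_mul_a] at h2
    cases h2
  | xa j =>
    rw [QuaternionGroup.xa_mul_a, QuaternionGroup.xa_mul_xa] at h2
    cases h2

/-- Quasi-dihedral groups. -/
theorem not_chain_qd [Finite S] (hS : IsPGroup 2 S) (n : ℕ) (xS yS : S)
    (hSD : Cfsg.Agent.Lib.Helper20.QD.IsQD n xS yS)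
    {G : Type} [Group G] [Finite G] (P : Sylow 2 G) (x y : ↥(P : Subgroup G)) (c : G)
    (hcard : Nat.card ↥(P : Subgroup G) = 2 ^ (n + 1)) (hx : orderOf x = 2 ^ n)
    (hy : orderOf y = 2) (hrel : y * x * y⁻¹ = x ^ (2 ^ (n - 1) - 1))
    (hc : c * ((x ^ 2 ^ (n - 2) : ↥(P : Subgroup G)) : G) * c⁻¹
      = ((x * y : ↥(P : Subgroup G)) : G)) :
    ¬ ∀ F : FusionSystem S, F.IsSaturated 2 → Chain F := by
  have hP : Cfsg.Agent.Lib.Helper20.QD.IsQD n x y := ⟨hSD.hn, hcard, hx, hy, hrel⟩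
  obtain ⟨e, -, -⟩ := Cfsg.Agent.Lib.Helper14.QDIso.qd_iso n x y xS yS hP hSD
  have hqd : Cfsg.IsQuasiDihedral S :=
    ⟨n, hSD.hn, hSD.card, xS, yS, hSD.hx, hSD.hy, hSD.rel⟩
  have hodd : ∀ (α : MulAut S) (N : ℕ), Odd N → α ^ N = 1 → α = 1 :=
    hodd_of_isPGroup (Cfsg.Agent.S3116.result hS (Or.inr hqd))
  refine not_all_chain_of_group hS hodd P e (SetLike.coe_mem _) (SetLike.coe_mem _) hc ?_
  intro s hs heq
  apply Cfsg.Agent.Lib.Helper20.QD.not_isConj_X_Xy hP ((2 ^ (n - 2) : ℕ) : ZMod (2 ^ n)) 1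
  rw [isConj_iff]
  refine ⟨⟨s, hs⟩, ?_⟩
  have e1 : Cfsg.Agent.Lib.Helper20.QD.X x n ((2 ^ (n - 2) : ℕ) : ZMod (2 ^ n))
      = x ^ 2 ^ (n - 2) := Cfsg.Agent.Lib.Helper20.ZP.zp_natCast hP.hx _
  have e2 : Cfsg.Agent.Lib.Helper20.QD.X x n 1 = x := Cfsg.Agent.Lib.Helper20.ZP.zp_one hP.hx
  rw [e1, e2]
  apply Subtype.ext
  exact heq

/-- Dihedral groups of order at least `8`, given a saturated system with a map that is not a
conjugation. -/
theorem not_chain_dih [Finite S] (hS : IsPGroup 2 S) (k : ℕ) (hk : 2 ≤ k)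
    (eD : S ≃* DihedralGroup (2 ^ k))
    (hex : ∃ E : Cfsg.FusionSystem S, E.IsSaturated 2 ∧ ∃ (A : Subgroup Ω) (φ : A →* Ω) (a : A),
      φ ∈ E.Hom A ∧ ∀ s ∈ S, s * (a : Ω) * s⁻¹ ≠ φ a) :
    ¬ ∀ F : FusionSystem S, F.IsSaturated 2 → Chain F := by
  have hodd : ∀ (α : MulAut S) (N : ℕ), Odd N → α ^ N = 1 → α = 1 := by
    intro α N hN hα
    have h1 : (MulAut.congr eD α) ^ N = 1 := by rw [← map_pow, hα, map_one]
    have h2 := Cfsg.Agent.H85.dihedral_aut_eq_one_of_odd k hk _ N hN h1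
    exact (MulAut.congr eD).injective (by rw [h2, map_one])
  obtain ⟨E, hE, A, φ, a, hφ, hn⟩ := hex
  exact not_all_chain hS hodd hS E hE (MulEquiv.refl _) A φ hφ a hn

end Cfsg.Agent.H84.SupD
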