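import Mathlib
import Cfsg.Agent.H84.SupC
import Cfsg.Agent.H84.SupD
import Cfsg.Agent.S5234

set_option autoImplicit false

/-!
Supersoluble type (S5287), part E: assembly from the group-theoretic inputs.
-/

namespace Cfsg.Agent.H84.SupE

open Cfsg Cfsg.FusionSystem Cfsg.Agent.H84.SupA Cfsg.Agent.H84.SupB Cfsg.Agent.H84.SupC
  Cfsg.Agent.H84.SupD

variable {Ω : Type*} [Group Ω] {S : Subgroup Ω}

/-- The quaternion group of order `8` is not of supersoluble type. -/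
theorem not_chain_q8 [Finite S] (hS : IsPGroup 2 S) (e : S ≃* QuaternionGroup 2)
    (hq8 : ∃ α : MulAut (QuaternionGroup 2), α ^ 3 = 1 ∧ α ≠ 1) :
    ¬ ∀ F : FusionSystem S, F.IsSaturated 2 → Chain F := by
  intro hall
  haveI : Fact (Nat.Prime 2) := ⟨Nat.prime_two⟩
  have h83 := ((Cfsg.Agent.S5283.result 2 hS).mp hall).2
  obtain ⟨α, hα3, hα1⟩ := hq8
  set β : MulAut S := MulAut.congr e.symm α with hβ
  have hβ3 : β ^ 3 = 1 := by rw [hβ, ← map_pow, hα3, map_one]
  have hβ1 : β ≠ 1 := by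
    intro h
    apply hα1
    apply (MulAut.congr e.symm).injective
    rw [map_one]
    exact h
  have hcard : (Nat.card (Subgroup.zpowers β)).Coprime 2 := by
    rw [Nat.card_zpowers]
    have h1 : orderOf β ∣ 3 := orderOf_dvd_of_pow_eq_one hβ3
    exact Nat.Coprime.coprime_dvd_left h1 (by norm_num)
  have h2 := (h83 (Subgroup.zpowers β) hcard).2 β (Subgroup.mem_zpowers β)
  apply hβ1
  simpa using h2

/-- Nonabelian metacyclic groups for odd `p`. -/
theorem chain_odd_nonabelian [Finite S] (p : ℕ) [Fact p.Prime] (hp : p ≠ 2) (hS : IsPGroup p S)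
    (hm : Cfsg.IsMetacyclic S)
    (hP4 : ∀ H : Subgroup (MulAut S), (Nat.card H).Coprime p →
      IsMulCommutative H ∧ ∀ h ∈ H, h ^ (p - 1) = 1)
    (F : FusionSystem S) (hF : F.IsSaturated p) : Chain F :=
  (Cfsg.Agent.S5283.result p hS).mpr
    ⟨fun F' hF' => Cfsg.Agent.S5234.result p hS F' hF' S (stronglyClosed_self F') hp hm, hP4⟩ F hF

/-- A dihedral or quaternion `2`-group has parameter a power of two. -/
theorem pow_of_card [Finite S] (hS : IsPGroup 2 S) (n c : ℕ) (hc : c ≠ 0) (h : Nat.card S = c * n) :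
    ∃ k : ℕ, n = 2 ^ k := by
  haveI : Fact (Nat.Prime 2) := ⟨Nat.prime_two⟩
  obtain ⟨j, hj⟩ := IsPGroup.iff_card.mp hS
  have hdvd : n ∣ 2 ^ j := by
    rw [← hj, h]
    exact dvd_mul_left n c
  obtain ⟨k, -, hk⟩ := (Nat.dvd_prime_pow Nat.prime_two).mp hdvd
  exact ⟨k, hk⟩

/-- The assembly of S5287 from its group-theoretic inputs. -/
theorem main [Finite S] (p : ℕ) [Fact p.Prime] (hS : IsPGroup p S)
    (hm : Cfsg.IsMetacyclic S)
    (P1 : ∀ k : ℕ, 2 ≤ k → ∃ (G : Type) (_ : Group G) (_ : Finite G) (P : Sylow 2 G)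
      (e : ↥(P : Subgroup G) ≃* QuaternionGroup (2 ^ k)) (c : G),
      c * ((e.symm (QuaternionGroup.a ((2 ^ (k - 1) : ℕ) : ZMod (2 * 2 ^ k)))) : G) * c⁻¹
        = ((e.symm (QuaternionGroup.xa 0)) : G))
    (P2 : ∀ n : ℕ, 3 ≤ n → ∃ (G : Type) (_ : Group G) (_ : Finite G) (P : Sylow 2 G)
      (x y : ↥(P : Subgroup G)) (c : G),
      Nat.card ↥(P : Subgroup G) = 2 ^ (n + 1) ∧ orderOf x = 2 ^ n ∧ orderOf y = 2 ∧
      y * x * y⁻¹ = x ^ (2 ^ (n - 1) - 1) ∧
      c * ((x ^ 2 ^ (n - 2) : ↥(P : Subgroup G)) : G) * c⁻¹ = ((x * y : ↥(P : Subgroup G)) : G))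
    (P4 : p ≠ 2 → ¬ IsMulCommutative S → ∀ H : Subgroup (MulAut S), (Nat.card H).Coprime p →
      IsMulCommutative H ∧ ∀ h ∈ H, h ^ (p - 1) = 1)
    (P5 : ∀ k : ℕ, 2 ≤ k → S ≃* DihedralGroup (2 ^ k) →
      ∃ E : Cfsg.FusionSystem S, E.IsSaturated 2 ∧ ∃ (A : Subgroup Ω) (φ : A →* Ω) (a : A),
        φ ∈ E.Hom A ∧ ∀ s ∈ S, s * (a : Ω) * s⁻¹ ≠ φ a)
    (P6a : ∃ α : MulAut (QuaternionGroup 2), α ^ 3 = 1 ∧ α ≠ 1)
    (P6b : Nonempty (DihedralGroup 2 ≃*
      Multiplicative (ZMod (2 ^ 1)) × Multiplicative (ZMod (2 ^ 1)))) :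
    (∀ F : Cfsg.FusionSystem S, F.IsSaturated p → Chain F) ↔
      ¬ ((∃ n : ℕ, 0 < n ∧
          Nonempty (↥S ≃* Multiplicative (ZMod (p ^ n)) × Multiplicative (ZMod (p ^ n)))) ∨
        (p = 2 ∧ ((∃ n : ℕ, 2 ≤ n ∧ Nonempty (↥S ≃* DihedralGroup n)) ∨
          Cfsg.IsQuasiDihedral ↥S ∨ (∃ n : ℕ, 2 ≤ n ∧ Nonempty (↥S ≃* QuaternionGroup n))))) := by
  constructor
  · intro hall hbad
    rcases hbad with ⟨n, hn, ⟨e⟩⟩ | ⟨rfl, hD | hSD | hQ⟩
    · exact not_chain_homocyclic p hS n hn e hall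
    · obtain ⟨n, hn, ⟨e⟩⟩ := hD
      have hce := Nat.card_congr e.toEquiv
      rw [DihedralGroup.nat_card] at hce
      obtain ⟨k, rfl⟩ := pow_of_card hS n 2 (by norm_num) hce
      rcases Nat.lt_or_ge k 2 with hk | hk
      · have hk1 : k = 1 := by
          rcases Nat.lt_or_ge k 1 with h0 | h0
          · have : k = 0 := by omega
            subst this
            norm_num at hn
          · omega
        subst hk1
        obtain ⟨e2⟩ := P6b
        exact not_chain_homocyclic 2 hS 1 (by norm_num) (e.trans e2) hall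
      · exact not_chain_dih hS k hk e (P5 k hk e) hall
    · obtain ⟨n, xS, yS, hqd⟩ := Cfsg.Agent.Lib.Helper20.QD.exists_isQD hSD
      obtain ⟨G, _, _, P, x, y, c, hcard, hx, hy, hrel, hc⟩ := P2 n hqd.hn
      exact not_chain_qd hS n xS yS hqd P x y c hcard hx hy hrel hc hall
    · obtain ⟨n, hn, ⟨e⟩⟩ := hQ
      haveI : NeZero n := ⟨by omega⟩
      have hce := Nat.card_congr e.toEquiv
      rw [Nat.card_eq_fintype_card (α := QuaternionGroup n), QuaternionGroup.card] at hce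
      obtain ⟨k, rfl⟩ := pow_of_card hS n 4 (by norm_num) hce
      rcases Nat.lt_or_ge k 2 with hk | hk
      · have hk1 : k = 1 := by
          rcases Nat.lt_or_ge k 1 with h0 | h0
          · have : k = 0 := by omega
            subst this
            norm_num at hn
          · omega
        subst hk1
        exact not_chain_q8 hS e P6a hall
      · obtain ⟨G, _, _, P, eP, c, hc⟩ := P1 k hk
        exact not_chain_quat hS k hk e P eP c hc hall
  · intro hgood F hF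
    have hH : ¬ ∃ n : ℕ, 0 < n ∧
        Nonempty (↥S ≃* Multiplicative (ZMod (p ^ n)) × Multiplicative (ZMod (p ^ n))) :=
      fun h => hgood (Or.inl h)
    by_cases h2 : p = 2
    · subst h2
      exact chain_two hS hm hH (fun h => hgood (Or.inr ⟨rfl, Or.inl h⟩))
        (fun h => hgood (Or.inr ⟨rfl, Or.inr (Or.inl h)⟩))
        (fun h => hgood (Or.inr ⟨rfl, Or.inr (Or.inr h)⟩)) F hF
    · by_cases hab : IsMulCommutative S
      · exact chain_odd_abelian p h2 hS hm hab hH F hF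
      · exact chain_odd_nonabelian p h2 hS hm (P4 h2 hab) F hF

end Cfsg.Agent.H84.SupE
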