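import Mathlib
import Cfsg.Prelude.Def_FusionSystem
import Cfsg.Prelude.Def_FusionComponents
import Cfsg.Agent.Lib.Helper87.FSFactor
import Cfsg.Agent.H84.WEmbA

set_option autoImplicit false

/-! Strongly closed subgroups and factor systems: minimal strongly closed subgroups, the order
bound coming from weak embedding, and transfer of data along a factor system. -/

namespace Cfsg.Agent.H84.WEmbB

open Cfsg Cfsg.FusionSystem
open Cfsg.Agent.Lib.Helper87.FSBasic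
open Cfsg.Agent.Lib.Helper87.FSNormal
open Cfsg.Agent.Lib.Helper87.FSQuot
open Cfsg.Agent.Lib.Helper87.FSImage2
open Cfsg.Agent.Lib.Helper87.FSFactor
open Cfsg.Agent.H84.WEmbA

variable {Ω : Type*} [Group Ω] {S : Subgroup Ω}

/-- A minimal nontrivial strongly closed subgroup. -/
def MinSC (F : FusionSystem S) (T : Subgroup Ω) : Prop :=
  F.StronglyClosed T ∧ T ≠ ⊥ ∧ ∀ U : Subgroup Ω, F.StronglyClosed U → U ≤ T → U = ⊥ ∨ U = T

theorem sc_inf (F : FusionSystem S) {A B : Subgroup Ω} (hA : F.StronglyClosed A)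
    (hB : F.StronglyClosed B) : F.StronglyClosed (A ⊓ B) :=
  ⟨inf_le_left.trans hA.1, fun R hR φ hφ x =>
    ⟨hA.2 R (hR.trans inf_le_left) φ hφ x, hB.2 R (hR.trans inf_le_right) φ hφ x⟩⟩

theorem sc_bot (F : FusionSystem S) : F.StronglyClosed ⊥ := by
  refine ⟨bot_le, fun R hR φ _ x => ?_⟩
  have e : x = 1 := Subtype.ext (Subgroup.mem_bot.mp (hR x.2))
  rw [e, map_one]
  exact Subgroup.one_mem _

theorem sc_top (F : FusionSystem S) : F.StronglyClosed S :=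
  ⟨le_rfl, fun _ _ _ hφ x => (F.le_of_mem hφ).2 x⟩

theorem exists_minSC [Finite S] (F : FusionSystem S) {P : Subgroup Ω} (hP : F.StronglyClosed P)
    (hP1 : P ≠ ⊥) : ∃ T : Subgroup Ω, MinSC F T ∧ T ≤ P := by
  classical
  have hex : ∃ n : ℕ, ∃ U : Subgroup Ω, F.StronglyClosed U ∧ U ≠ ⊥ ∧ U ≤ P ∧ Nat.card U = n :=
    ⟨_, P, hP, hP1, le_rfl, rfl⟩
  obtain ⟨U, hU, hU1, hUP, hUc⟩ := Nat.find_spec hex
  refine ⟨U, ⟨hU, hU1, fun U' hU' hU'U => ?_⟩, hUP⟩
  by_cases h : U' = ⊥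
  · exact Or.inl h
  · right
    haveI : Finite U := fin_of_le hU.1
    have hmin : Nat.find hex ≤ Nat.card U' :=
      Nat.find_min' hex ⟨U', hU', h, hU'U.trans hUP, rfl⟩
    rw [← hUc] at hmin
    exact Subgroup.eq_of_le_of_card_ge hU'U hmin

/-- Under weak embedding of all subgroups of order `p ^ d`, a minimal nontrivial strongly closed
subgroup has order at most `p ^ d`. -/
theorem card_minSC_le [Finite S] {p : ℕ} [Fact p.Prime] (hS : IsPGroup p S) (F : FusionSystem S)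
    {d : ℕ} (hd : 0 < d)
    (ha : ∀ Q : Subgroup Ω, Q ≤ S → Nat.card Q = p ^ d →
      ∃ P : Subgroup Ω, F.StronglyClosed P ∧ F.StronglyClosed (Q ⊔ P) ∧ F.StronglyClosed (Q ⊓ P))
    {T : Subgroup Ω} (hT : MinSC F T) : Nat.card T ≤ p ^ d := by
  have hp : p.Prime := Fact.out
  by_contra hlt
  push_neg at hlt
  obtain ⟨hTsc, hT1, hTmin⟩ := hT
  have hTS := hTsc.1
  obtain ⟨Q, -, hQT, hQc⟩ := exists_between hS (bot_le : (⊥ : Subgroup Ω) ≤ T) hTS (m := d)
    (by rw [Subgroup.card_bot]; exact Nat.one_le_pow _ _ hp.pos) hlt.le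
  obtain ⟨P, hP, hQP, hQiP⟩ := ha Q (hQT.trans hTS) hQc
  have hQ1 : Q ≠ ⊥ := by
    rintro rfl
    rw [Subgroup.card_bot] at hQc
    exact absurd hQc (Nat.one_lt_pow hd.ne' hp.one_lt).ne
  have hQneT : Q ≠ T := by
    rintro rfl
    omega
  have h1 : Q ⊓ P = ⊥ := by
    rcases hTmin _ hQiP (inf_le_left.trans hQT) with h | h
    · exact h
    · exfalso
      exact hQneT (le_antisymm hQT (h ▸ inf_le_left))
  have h2 : P ⊓ T = ⊥ := by
    rcases hTmin _ (sc_inf F hP hTsc) inf_le_right with h | h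
    · exact h
    · exfalso
      have hTP : T ≤ P := h ▸ inf_le_left
      have h3 : Q ≤ Q ⊓ P := le_inf le_rfl (hQT.trans hTP)
      rw [h1] at h3
      exact hQ1 (le_bot_iff.mp h3)
  have h3 : T ≤ Q ⊔ P := by
    rcases hTmin _ (sc_inf F hQP hTsc) inf_le_right with h | h
    · exfalso
      have h4 : Q ≤ (Q ⊔ P) ⊓ T := le_inf le_sup_left hQT
      rw [h] at h4
      exact hQ1 (le_bot_iff.mp h4)
    · exact h ▸ inf_le_left
  have hPn : S ≤ Subgroup.normalizer (P : Set Ω) := le_normalizer_of_stronglyClosed F hP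
  haveI : Finite P := fin_of_le hP.1
  haveI : Finite Q := fin_of_le (hQT.trans hTS)
  haveI : Finite ↥(Q ⊔ P) := fin_of_le hQP.1
  haveI : Finite ↥(T ⊔ P) := fin_of_le (sup_le hTS hP.1)
  have c1 : Nat.card T * Nat.card P ≤ Nat.card ↥(T ⊔ P) :=
    card_mul_le_card_sup (by rw [inf_comm]; exact h2)
  have c2 : Nat.card ↥(T ⊔ P) ≤ Nat.card ↥(Q ⊔ P) :=
    Subgroup.card_le_of_le (sup_le h3 le_sup_right)
  have c3 : Nat.card ↥(Q ⊔ P) ≤ Nat.card Q * Nat.card P :=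
    card_sup_le_mul ((hQT.trans hTS).trans hPn)
  have hPpos : 0 < Nat.card P := Nat.card_pos
  have c4 : Nat.card T ≤ Nat.card Q := Nat.le_of_mul_le_mul_right (c1.trans (c2.trans c3)) hPpos
  omega

section Factor

variable {Ω' : Type*} [Group Ω'] {S' : Subgroup Ω'}

/-- A map of the factor system induced by a conjugation map is a conjugation map. -/
theorem induced_inner {F : FusionSystem S} {T : Subgroup Ω} {θ : S →* Ω'} {E : FusionSystem S'}
    (hE : F.IsFactorSystem T θ E) {P' : Subgroup Ω'} (hP' : P' ≤ S')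
    {φ : ↥(preimageAlong θ P') →* Ω}
    (hφ : φ ∈ (innerFusionSystem S).Hom (preimageAlong θ P'))
    {φ' : P' →* Ω'} (hind : InducedAlong θ φ φ') : φ' ∈ (innerFusionSystem S').Hom P' := by
  obtain ⟨-, g, hg, hφg⟩ := hφ
  obtain ⟨hP, hφS, hPP', h⟩ := hind
  refine ⟨hP', θ ⟨g, hg⟩, factor_maps_into hE ⟨g, hg⟩, fun y => ?_⟩
  have hy : (y : Ω') ∈ θ.range := by
    rw [hE.2.2.1]
    exact hP' y.2
  obtain ⟨s, hs⟩ := hy
  have hsmem : (s : Ω) ∈ preimageAlong θ P' :=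
    (mem_preimageAlong_iff θ P' s).mpr ⟨s.2, by rw [Subtype.coe_eta, hs]; exact y.2⟩
  have e : y = ⟨θ ⟨((⟨(s : Ω), hsmem⟩ : preimageAlong θ P') : Ω), hP hsmem⟩,
      hPP' ⟨s, hsmem⟩⟩ := Subtype.ext hs.symm
  have h1 := h ⟨s, hsmem⟩
  rw [e, h1]
  have e2 : (⟨φ ⟨s, hsmem⟩, hφS ⟨s, hsmem⟩⟩ : S) = ⟨g, hg⟩ * s * (⟨g, hg⟩ : S)⁻¹ :=
    Subtype.ext (hφg ⟨s, hsmem⟩)
  rw [e2, map_mul, map_mul, map_inv]

/-- If the factor system modulo `T` consists of conjugation maps, then every subgroup of `S`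
containing `T` and normalized by `S` is strongly closed. -/
theorem sc_of_normal [Finite S] {p : ℕ} [Fact p.Prime] (hS : IsPGroup p S) (F : FusionSystem S)
    (hF : F.IsSaturated p) {T : Subgroup Ω} (hT : F.StronglyClosed T) {θ : S →* Ω'}
    {E : FusionSystem S'} (hE : F.IsFactorSystem T θ E)
    (hEi : ∀ P' : Subgroup Ω', E.Hom P' ⊆ (innerFusionSystem S').Hom P')
    {U : Subgroup Ω} (hU : U ≤ S) (hUn : S ≤ Subgroup.normalizer (U : Set Ω)) (hTU : T ≤ U) :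
    F.StronglyClosed U := by
  have hθ : ∀ s, θ s ∈ S' := factor_maps_into hE
  refine ⟨hU, fun R hR φ hφ x => ?_⟩
  obtain ⟨-, φ', hφ', hRS, hφS, hR', hind⟩ := le_indSys hS F hF T hT θ E hE hθ R hφ
  obtain ⟨-, g', hg', hφ'g⟩ := hEi _ hφ'
  have hg'r : g' ∈ θ.range := by
    rw [hE.2.2.1]
    exact hg'
  obtain ⟨g, rfl⟩ := hg'r
  have h1 := hind x
  rw [hφ'g] at h1
  have h2 : θ ((g * ⟨x, hRS x.2⟩ * g⁻¹)⁻¹ * ⟨φ x, hφS x⟩) = 1 := by
    rw [map_mul, map_inv, map_mul, map_mul, map_inv, ← h1]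
    exact inv_mul_cancel _
  rw [hE.2.1] at h2
  have h3 : (g : Ω) * x * (g : Ω)⁻¹ ∈ U :=
    ((Subgroup.mem_normalizer_iff.mp (hUn g.2)) x).mp (hR x.2)
  have h4 := U.mul_mem h3 (hTU h2)
  have e : (g : Ω) * x * (g : Ω)⁻¹ *
      (((g * ⟨x, hRS x.2⟩ * g⁻¹)⁻¹ * ⟨φ x, hφS x⟩ : S) : Ω) = φ x := by
    show (g : Ω) * x * (g : Ω)⁻¹ * (((g : Ω) * x * (g : Ω)⁻¹)⁻¹ * φ x) = φ x
    rw [mul_inv_cancel_left]
  rwa [e] at h4

/-- The image of a strongly closed subgroup is strongly closed in the factor system. -/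
theorem image_sc (F : FusionSystem S) {T : Subgroup Ω} {θ : S →* Ω'} {E : FusionSystem S'}
    (hE : F.IsFactorSystem T θ E) {U : Subgroup Ω} (hU : F.StronglyClosed U) :
    E.StronglyClosed (imageAlong θ U) := by
  have hθ : ∀ s, θ s ∈ S' := factor_maps_into hE
  refine ⟨imageAlong_le θ hθ U, fun P' hP' φ' hφ' y => ?_⟩
  obtain ⟨-, φ, hφ, hPS, hφS, hPP', hind⟩ := (hE.2.2.2 P' φ').mp hφ'
  obtain ⟨u, hu⟩ := exists_of_mem_imageAlong θ hU.1 (hP' y.2)
  have hux : (u : Ω) ∈ preimageAlong θ P' :=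
    (mem_preimageAlong_iff θ P' _).mpr ⟨hU.1 u.2, by rw [hu]; exact y.2⟩
  have h1 := hind ⟨u, hux⟩
  have e : (⟨θ ⟨((⟨u, hux⟩ : preimageAlong θ P') : Ω), hPS hux⟩, hPP' ⟨u, hux⟩⟩ : P') = y :=
    Subtype.ext hu
  rw [e] at h1
  rw [h1]
  exact imageAlong_mem θ hU.1 ⟨φ ⟨u, hux⟩, stronglyClosed_maps F hU hφ ⟨u, hux⟩ u.2⟩

theorem imageAlong_sup (θ : S →* Ω') {A B : Subgroup Ω} (hA : A ≤ S) (hB : B ≤ S) :
    imageAlong θ (A ⊔ B) = imageAlong θ A ⊔ imageAlong θ B := by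
  unfold imageAlong
  rw [Subgroup.subgroupOf_sup hA hB, Subgroup.map_sup]

theorem inf_imageAlong (θ : S →* Ω') (Q' : Subgroup Ω') {B : Subgroup Ω} (hB : B ≤ S) :
    Q' ⊓ imageAlong θ B = imageAlong θ (preimageAlong θ Q' ⊓ B) := by
  apply le_antisymm
  · rintro y ⟨hyQ, hyB⟩
    obtain ⟨b, hb⟩ := exists_of_mem_imageAlong θ hB hyB
    have hbQ : (b : Ω) ∈ preimageAlong θ Q' :=
      (mem_preimageAlong_iff θ Q' _).mpr ⟨hB b.2, by rw [hb]; exact hyQ⟩
    rw [← hb]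
    exact imageAlong_mem θ (inf_le_right.trans hB) ⟨b, ⟨hbQ, b.2⟩⟩
  · intro y hy
    obtain ⟨b, hb⟩ := exists_of_mem_imageAlong θ (inf_le_right.trans hB) hy
    rw [← hb]
    exact ⟨((mem_preimageAlong_iff θ Q' _).mp b.2.1).2, imageAlong_mem θ hB ⟨b, b.2.2⟩⟩

/-- The order of a full preimage along the map defining a factor system. -/
theorem card_preimage [Finite S] {F : FusionSystem S} {T : Subgroup Ω} {θ : S →* Ω'}
    {E : FusionSystem S'} (hE : F.IsFactorSystem T θ E) {K' : Subgroup Ω'} (hK' : K' ≤ S') :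
    Nat.card (preimageAlong θ K') = Nat.card K' * Nat.card T := by
  have hTS : T ≤ S := hE.1
  have e0 : Nat.card (preimageAlong θ K') = Nat.card (K'.comap θ) := by
    unfold preimageAlong
    exact Subgroup.card_map_of_injective S.subtype_injective
  let f : ↥(K'.comap θ) →* Ω' := θ.comp (K'.comap θ).subtype
  have hker : θ.ker = T.subgroupOf S := by
    ext s
    rw [MonoidHom.mem_ker, hE.2.1, Subgroup.mem_subgroupOf]
  have hkerle : θ.ker ≤ K'.comap θ := by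
    intro s hs
    rw [Subgroup.mem_comap, MonoidHom.mem_ker.mp hs]
    exact K'.one_mem
  have hfker : f.ker = θ.ker.subgroupOf (K'.comap θ) := by
    ext x
    rw [MonoidHom.mem_ker, Subgroup.mem_subgroupOf, MonoidHom.mem_ker]
    rfl
  have hfrange : f.range = K' := by
    apply le_antisymm
    · rintro _ ⟨x, rfl⟩
      exact x.2
    · intro y hy
      have hy' : y ∈ θ.range := by
        rw [hE.2.2.1]
        exact hK' hy
      obtain ⟨s, rfl⟩ := hy'
      exact ⟨⟨s, hy⟩, rfl⟩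
  have h1 := Subgroup.index_mul_card f.ker
  rw [Subgroup.index_ker, hfrange, hfker, card_subgroupOf hkerle, hker, card_subgroupOf hTS] at h1
  rw [e0, ← h1]

theorem le_preimage {F : FusionSystem S} {T : Subgroup Ω} {θ : S →* Ω'}
    {E : FusionSystem S'} (hE : F.IsFactorSystem T θ E) (K' : Subgroup Ω') :
    T ≤ preimageAlong θ K' := by
  intro x hx
  refine (mem_preimageAlong_iff θ K' x).mpr ⟨hE.1 hx, ?_⟩
  rw [(hE.2.1 ⟨x, hE.1 hx⟩).mpr hx]
  exact K'.one_mem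

theorem preimage_top {F : FusionSystem S} {T : Subgroup Ω} {θ : S →* Ω'}
    {E : FusionSystem S'} (hE : F.IsFactorSystem T θ E) : preimageAlong θ S' = S := by
  apply le_antisymm (preimageAlong_le θ S')
  intro x hx
  exact (mem_preimageAlong_iff θ S' x).mpr ⟨hx, factor_maps_into hE ⟨x, hx⟩⟩

end Factor

end Cfsg.Agent.H84.WEmbB
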