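import Mathlib
import Cfsg.Prelude.Def_FusionSystem
import Cfsg.Prelude.Def_FusionComponents
import Cfsg.Agent.Lib.Helper87.FSFactor
import Cfsg.Agent.Lib.Helper63.PFrattini
import Cfsg.Agent.H85.Factor
import Cfsg.Agent.S5276
import Cfsg.Agent.S5096
import Cfsg.Agent.H84.WEmbA
import Cfsg.Agent.H84.WEmbB

set_option autoImplicit false

/-! The nilpotency criterion through weakly embedded subgroups of one order: the induction over
factor systems modulo a minimal strongly closed subgroup. -/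

universe u

namespace Cfsg.Agent.H84.WEmbC

open Cfsg Cfsg.FusionSystem
open Cfsg.Agent.Lib.Helper87.FSBasic
open Cfsg.Agent.Lib.Helper87.FSNormal
open Cfsg.Agent.Lib.Helper87.FSQuot
open Cfsg.Agent.Lib.Helper87.FSImage2
open Cfsg.Agent.Lib.Helper87.FSFactor
open Cfsg.Agent.H84.WEmbA
open Cfsg.Agent.H84.WEmbB

variable {Ω : Type u} [Group Ω] {S : Subgroup Ω}

/-- Every subgroup of order `p ^ d` is weakly embedded. -/
def WEmb (F : FusionSystem S) (p d : ℕ) : Prop :=
  ∀ Q : Subgroup Ω, Q ≤ S → Nat.card Q = p ^ d →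
    ∃ P : Subgroup Ω, F.StronglyClosed P ∧ F.StronglyClosed (Q ⊔ P) ∧ F.StronglyClosed (Q ⊓ P)

/-- Above a strongly closed subgroup of order `p ^ d` all maps are conjugations. -/
def InnAbove (F : FusionSystem S) (p d : ℕ) : Prop :=
  ∀ H : Subgroup Ω, F.StronglyClosed H → Nat.card H = p ^ d → ∀ A : Subgroup Ω, H ≤ A →
    ∀ φ ∈ F.Hom A, φ ∈ (innerFusionSystem S).Hom A

/-- The criterion for all systems over groups of order at most `n` (in one universe). -/
def Holds (p n : ℕ) : Prop :=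
  ∀ (Ω : Type u) [Group Ω] (S : Subgroup Ω) [Finite S], IsPGroup p S → ∀ F : FusionSystem S,
    F.IsSaturated p → Nat.card S ≤ n → ∀ d : ℕ, 0 < d → p ^ d < Nat.card S → WEmb F p d →
      InnAbove F p d → ∀ P : Subgroup Ω, F.Hom P ⊆ (innerFusionSystem S).Hom P

/-- Inductive step: modulo a minimal strongly closed subgroup the system is inner, so every
normal subgroup of `S` above it is strongly closed. -/
theorem normSC_of_min {p : ℕ} [Fact p.Prime] {n : ℕ} (ih : Holds.{u} p n) [Finite S]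
    (hS : IsPGroup p S) (F : FusionSystem S) (hF : F.IsSaturated p) (hn : Nat.card S ≤ n + 1)
    {d : ℕ} (hd : 0 < d) (hdS : p ^ d < Nat.card S) (ha : WEmb F p d) (hb : InnAbove F p d)
    {T : Subgroup Ω} (hT : MinSC F T) {U : Subgroup Ω} (hU : U ≤ S)
    (hUn : S ≤ Subgroup.normalizer (U : Set Ω)) (hTU : T ≤ U) : F.StronglyClosed U := by
  have hp : p.Prime := Fact.out
  have hcardT := card_minSC_le hS F hd ha hT
  obtain ⟨hTsc, hT1, hTmin⟩ := hT
  have hTS := hTsc.1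
  have hTn := le_normalizer_of_stronglyClosed F hTsc
  haveI hNn : (T.subgroupOf S).Normal :=
    (Subgroup.normal_subgroupOf_iff_le_normalizer hTS).mpr hTn
  let θ : S →* (↥S ⧸ T.subgroupOf S) := QuotientGroup.mk' (T.subgroupOf S)
  have hker : ∀ s : S, θ s = 1 ↔ (s : Ω) ∈ T := fun s => by
    show (QuotientGroup.mk s : ↥S ⧸ T.subgroupOf S) = 1 ↔ _
    rw [QuotientGroup.eq_one_iff]
    exact Subgroup.mem_subgroupOf
  have hrange : θ.range = ⊤ := MonoidHom.range_eq_top.mpr (QuotientGroup.mk'_surjective _)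
  obtain ⟨E, hE⟩ := Cfsg.Agent.H85.exists_factorSystem F T hTsc θ hker ⊤ hrange
  have hEsat : E.IsSaturated p := factor_saturated hS F hF T hTsc θ E hE
  refine sc_of_normal hS F hF hTsc hE ?_ hU hUn hTU
  rcases hcardT.eq_or_lt with hc | hc
  · intro P' φ' hφ'
    obtain ⟨hP', φ, hφ, hind⟩ := (hE.2.2.2 P' φ').mp hφ'
    exact induced_inner hE hP' (hb T hTsc hc _ (le_preimage hE P') φ hφ) hind
  · haveI : Finite T := fin_of_le hTS
    obtain ⟨t, ht⟩ := (hS.to_le hTS).exists_card_eq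
    have htd : t < d := by
      rw [ht] at hc
      exact (Nat.pow_lt_pow_iff_right hp.one_lt).mp hc
    have ht0 : 0 < t := by
      rcases Nat.eq_zero_or_pos t with h | h
      · exfalso
        rw [h, pow_zero] at ht
        exact hT1 (Subgroup.eq_bot_of_card_eq T ht)
      · exact h
    have hcS : Nat.card S = Nat.card (⊤ : Subgroup (↥S ⧸ T.subgroupOf S)) * p ^ t := by
      rw [← ht, ← card_preimage hE le_rfl, preimage_top hE]
    have hS' : IsPGroup p ↥(⊤ : Subgroup (↥S ⧸ T.subgroupOf S)) :=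
      (hS.to_quotient (T.subgroupOf S)).to_subgroup ⊤
    refine ih (↥S ⧸ T.subgroupOf S) ⊤ hS' E hEsat ?_ (d - t) (by omega) ?_ ?_ ?_
    · have h2 : 2 ≤ p ^ t := le_trans hp.two_le (Nat.le_self_pow (by omega) p)
      have hpos : 0 < Nat.card (⊤ : Subgroup (↥S ⧸ T.subgroupOf S)) := Nat.card_pos
      nlinarith
    · have h3 : p ^ (d - t) * p ^ t < Nat.card (⊤ : Subgroup (↥S ⧸ T.subgroupOf S)) * p ^ t := by
        rw [← pow_add, Nat.sub_add_cancel htd.le, ← hcS]
        exact hdS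
      exact Nat.lt_of_mul_lt_mul_right h3
    · intro Q' hQ' hQ'c
      have hQc : Nat.card (preimageAlong θ Q') = p ^ d := by
        rw [card_preimage hE hQ', hQ'c, ht, ← pow_add, Nat.sub_add_cancel htd.le]
      obtain ⟨P, hP, hQP, hQiP⟩ := ha _ (preimageAlong_le θ Q') hQc
      have hQ'r : Q' ≤ θ.range := by
        rw [hrange]
        exact le_top
      refine ⟨imageAlong θ P, image_sc F hE hP, ?_, ?_⟩
      · have h4 := image_sc F hE hQP
        rw [imageAlong_sup θ (preimageAlong_le θ Q') hP.1, image_preimage θ hQ'r] at h4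
        exact h4
      · rw [inf_imageAlong θ Q' hP.1]
        exact image_sc F hE hQiP
    · intro H' hH' hH'c A' hHA' φ' hφ'
      obtain ⟨hA', φ, hφ, hind⟩ := (hE.2.2.2 A' φ').mp hφ'
      have hHsc := preimage_stronglyClosed hS F hF T hTsc θ E hE hH'
      have hHc : Nat.card (preimageAlong θ H') = p ^ d := by
        rw [card_preimage hE hH'.1, hH'c, ht, ← pow_add, Nat.sub_add_cancel htd.le]
      exact induced_inner hE hA' (hb _ hHsc hHc _ (preimageAlong_mono θ hHA') φ hφ) hind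

theorem inner_of_normal_top (F : FusionSystem S) {Q₁ : Subgroup Ω} (hQ₁S : Q₁ ≤ S)
    (hAut : ∀ A : Subgroup Ω, Q₁ ≤ A → ∀ φ ∈ F.Hom A, φ ∈ (innerFusionSystem S).Hom A)
    (hN : F.IsNormal S) : ∀ P : Subgroup Ω, F.Hom P ⊆ (innerFusionSystem S).Hom P := by
  intro P φ hφ
  obtain ⟨ψ, hψ, hext, -⟩ := hN.2 P φ hφ
  obtain ⟨-, g, hg, hψg⟩ := hAut (P ⊔ S) (hQ₁S.trans le_sup_right) ψ hψ
  exact ⟨dom_le F hφ, g, hg, fun x => by rw [← hext x, hψg]; rfl⟩

/-- If a strongly closed subgroup of order `p` has all normal overgroups strongly closed, then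
`S` is normal in the system. -/
theorem isNormal_top_of_card_prime [Finite S] {p : ℕ} [Fact p.Prime] (hS : IsPGroup p S)
    (F : FusionSystem S) (hF : F.IsSaturated p) {T : Subgroup Ω} (hTsc : F.StronglyClosed T)
    (hTp : Nat.card T = p)
    (hN : ∀ U : Subgroup Ω, U ≤ S → S ≤ Subgroup.normalizer (U : Set Ω) → T ≤ U →
      F.StronglyClosed U) : F.IsNormal S := by
  have hTS := hTsc.1
  have hTn := le_normalizer_of_stronglyClosed F hTsc
  haveI : (T.subgroupOf S).Normal := (Subgroup.normal_subgroupOf_iff_le_normalizer hTS).mpr hTn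
  have hTZ : T.subgroupOf S ≤ Subgroup.center ↥S :=
    Cfsg.Agent.Lib.Helper63.PFrattini.normal_card_prime_le_center hS (T.subgroupOf S)
      (by rw [card_subgroupOf hTS]; exact hTp)
  haveI : Group.IsNilpotent ↥S := hS.isNilpotent
  obtain ⟨k, hk⟩ := Group.IsNilpotent.nilpotent ↥S
  let Z : ℕ → Subgroup Ω := fun j => (Subgroup.upperCentralSeries ↥S j).map S.subtype
  have hZS : ∀ j, Z j ≤ S := fun j => by
    rintro _ ⟨y, -, rfl⟩
    exact y.2
  have hZn : ∀ j, S ≤ Subgroup.normalizer (Z j : Set Ω) := fun j => le_normalizer_map _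
  have hTZ1 : ∀ j, T ≤ Z (j + 1) := by
    intro j x hx
    have h1 : (⟨x, hTS hx⟩ : S) ∈ Subgroup.upperCentralSeries ↥S 1 := by
      rw [Subgroup.upperCentralSeries_one]
      exact hTZ (Subgroup.mem_subgroupOf.mpr hx)
    exact ⟨⟨x, hTS hx⟩, Subgroup.upperCentralSeries_mono _ (Nat.succ_le_succ (Nat.zero_le j)) h1, rfl⟩
  have hZsc : ∀ j, F.StronglyClosed (Z (j + 1)) := fun j => hN _ (hZS _) (hZn _) (hTZ1 j)
  have hZcomm : ∀ j, ⁅Z (j + 1), S⁆ ≤ Z j := by
    intro j
    rw [Subgroup.commutator_le]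
    rintro _ ⟨z, hz, rfl⟩ s hs
    have h1 := (Subgroup.mem_upperCentralSeries_succ_iff.mp hz) ⟨s, hs⟩
    exact ⟨_, h1, rfl⟩
  have hZ0 : Z 0 = ⊥ := by
    show (Subgroup.upperCentralSeries ↥S 0).map S.subtype = ⊥
    rw [Subgroup.upperCentralSeries_zero, Subgroup.map_bot]
  have hZtop : Z (k + 1) = S := by
    have h1 : Subgroup.upperCentralSeries ↥S (k + 1) = ⊤ :=
      top_le_iff.mp (hk ▸ Subgroup.upperCentralSeries_mono _ (Nat.le_succ k))
    show (Subgroup.upperCentralSeries ↥S (k + 1)).map S.subtype = S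
    rw [h1, ← MonoidHom.range_eq_map, Subgroup.range_subtype]
  let C : ℕ → Subgroup Ω := fun j => match j with
    | 0 => ⊥
    | 1 => T
    | (j + 2) => Z (j + 1)
  refine isNormal_of_chain hS F hF S (sc_top F) (k + 2) C rfl hZtop ?_ ?_ ?_ ?_
  · intro j _
    rcases j with _ | _ | j
    · exact le_normalizer_bot
    · exact hTn
    · exact hZn _
  · intro j _
    rcases j with _ | _ | j
    · exact bot_le
    · exact hTS
    · exact hZS _
  · intro j _
    rcases j with _ | _ | j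
    · show ⁅T, S⁆ ≤ ⊥
      have h1 := hZcomm 0
      rw [hZ0] at h1
      exact (Subgroup.commutator_mono (hTZ1 0) le_rfl).trans h1
    · show ⁅Z 1, S⁆ ≤ T
      have h1 := hZcomm 0
      rw [hZ0] at h1
      exact h1.trans bot_le
    · show ⁅Z (j + 2), S⁆ ≤ Z (j + 1)
      exact hZcomm (j + 1)
  · intro j _ Y hCY φ hφ hr x hx
    rcases j with _ | _ | j
    · have hx' : (x : Ω) = 1 := Subgroup.mem_bot.mp hx
      have e : x = 1 := Subtype.ext hx'
      show φ x ∈ (⊥ : Subgroup Ω)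
      rw [e, map_one]
      exact Subgroup.one_mem _
    · exact stronglyClosed_maps F hTsc hφ x hx
    · exact stronglyClosed_maps F (hZsc j) hφ x hx

/-- A minimal strongly closed subgroup of order at least `p ^ 2` lies in the Frattini subgroup. -/
theorem contra_of_not_le_frattini [Finite S] {p : ℕ} [Fact p.Prime] (hS : IsPGroup p S)
    (F : FusionSystem S) {d : ℕ} (hdS : p ^ d < Nat.card S) (ha : WEmb F p d)
    {T : Subgroup Ω} (hT : MinSC F T) (hcardT : Nat.card T ≤ p ^ d) (hTp : Nat.card T ≠ p)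
    (hTΦ : ¬ T ≤ (frattini ↥S).map S.subtype)
    (hN : ∀ T₁ : Subgroup Ω, MinSC F T₁ → ∀ U : Subgroup Ω, U ≤ S →
      S ≤ Subgroup.normalizer (U : Set Ω) → T₁ ≤ U → F.StronglyClosed U) : False := by
  have hp : p.Prime := Fact.out
  obtain ⟨hTsc, hT1, hTmin⟩ := hT
  have hTS := hTsc.1
  have hTn := le_normalizer_of_stronglyClosed F hTsc
  obtain ⟨x, hxT, hxΦ⟩ := SetLike.not_le_iff_exists.mp hTΦ
  have hx' : (⟨x, hTS hxT⟩ : S) ∉ frattini ↥S := fun h => hxΦ ⟨_, h, rfl⟩
  rw [Cfsg.Agent.Lib.Helper63.PFrattini.mem_frattini_iff] at hx'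
  push_neg at hx'
  obtain ⟨M', hM', hxM'⟩ := hx'
  haveI hM'n : M'.Normal := Cfsg.Agent.Lib.Helper63.PFrattini.coatom_normal hS M' hM'
  have hM'i : M'.index = p := Cfsg.Agent.Lib.Helper63.PFrattini.coatom_index hS M' hM'
  obtain ⟨M, hMdef⟩ : ∃ M : Subgroup Ω, M = M'.map S.subtype := ⟨_, rfl⟩
  have hMS : M ≤ S := by
    rw [hMdef]
    rintro _ ⟨y, -, rfl⟩
    exact y.2
  have hMn : S ≤ Subgroup.normalizer (M : Set Ω) := by
    rw [hMdef]
    exact le_normalizer_map M'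
  have hMc : Nat.card M * p = Nat.card S := by
    rw [hMdef, Subgroup.card_map_of_injective S.subtype_injective, ← hM'i]
    exact Subgroup.card_mul_index M'
  have hxM : x ∉ M := by
    rw [hMdef]
    rintro ⟨y, hy, hyx⟩
    apply hxM'
    have e : y = ⟨x, hTS hxT⟩ := Subtype.ext hyx
    rwa [← e]
  haveI : Finite T := fin_of_le hTS
  haveI : Finite M := fin_of_le hMS
  have hT₀T : T ⊓ M ≠ T := fun h => hxM ((h ▸ inf_le_right : T ≤ M) hxT)
  have hT₀1 : T ⊓ M ≠ ⊥ := by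
    intro h
    haveI : Finite ↥(T ⊔ M) := fin_of_le (sup_le hTS hMS)
    have c1 := card_mul_le_card_sup h
    have c2 : Nat.card ↥(T ⊔ M) ≤ Nat.card S := Subgroup.card_le_of_le (sup_le hTS hMS)
    have hMpos : 0 < Nat.card M := Nat.card_pos
    have c3 : Nat.card T ≤ p := by
      have h5 : Nat.card T * Nat.card M ≤ p * Nat.card M := by
        rw [mul_comm p, hMc]
        exact c1.trans c2
      exact Nat.le_of_mul_le_mul_right h5 hMpos
    obtain ⟨t, ht⟩ := (hS.to_le hTS).exists_card_eq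
    have ht0 : t ≠ 0 := by
      rintro rfl
      rw [pow_zero] at ht
      exact hT1 (Subgroup.eq_bot_of_card_eq T ht)
    have c4 : p ≤ Nat.card T := by
      rw [ht]
      exact Nat.le_self_pow ht0 p
    exact hTp (le_antisymm c3 c4)
  obtain ⟨b, hb⟩ := (hS.to_le hMS).exists_card_eq
  have hdM : p ^ d ≤ Nat.card M := by
    rw [← hMc, hb, ← pow_succ] at hdS
    have h5 : d < b + 1 := (Nat.pow_lt_pow_iff_right hp.one_lt).mp hdS
    rw [hb]
    exact Nat.pow_le_pow_right hp.pos (by omega)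
  obtain ⟨Q, hT₀Q, hQM, hQc⟩ := exists_between hS (inf_le_right : T ⊓ M ≤ M) hMS (m := d)
    ((Subgroup.card_le_of_le inf_le_left).trans hcardT) hdM
  obtain ⟨P, hP, hQP, hQiP⟩ := ha Q (hQM.trans hMS) hQc
  have hQT : Q ⊓ T = T ⊓ M :=
    le_antisymm (le_inf inf_le_right (inf_le_left.trans hQM)) (le_inf hT₀Q inf_le_left)
  have h1 : Q ⊓ P ⊓ T = ⊥ := by
    rcases hTmin _ (sc_inf F hQiP hTsc) inf_le_right with h | h
    · exact h
    · exfalso
      have h5 : T ≤ Q ⊓ T := le_inf ((h ▸ inf_le_left : T ≤ Q ⊓ P).trans inf_le_left) le_rfl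
      rw [hQT] at h5
      exact hT₀T (le_antisymm inf_le_left h5)
  have h2 : P ⊓ T = ⊥ := by
    rcases hTmin _ (sc_inf F hP hTsc) inf_le_right with h | h
    · exact h
    · exfalso
      have hTP : T ≤ P := h ▸ inf_le_left
      have h5 : T ⊓ M ≤ Q ⊓ P ⊓ T := le_inf (le_inf hT₀Q (inf_le_left.trans hTP)) inf_le_left
      rw [h1] at h5
      exact hT₀1 (le_bot_iff.mp h5)
  have h3 : T ≤ Q ⊔ P := by
    rcases hTmin _ (sc_inf F hQP hTsc) inf_le_right with h | h
    · exfalso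
      have h5 : T ⊓ M ≤ (Q ⊔ P) ⊓ T := le_inf (hT₀Q.trans le_sup_left) inf_le_left
      rw [h] at h5
      exact hT₀1 (le_bot_iff.mp h5)
    · exact h ▸ inf_le_left
  have hP1 : P ≠ ⊥ := by
    rintro rfl
    rw [sup_bot_eq] at h3
    have h5 : T ≤ Q ⊓ T := le_inf h3 le_rfl
    rw [hQT] at h5
    exact hT₀T (le_antisymm inf_le_left h5)
  obtain ⟨T₁, hT₁, hT₁P⟩ := exists_minSC F hP hP1
  have hT₁sc := hT₁.1
  have hT₁n := le_normalizer_of_stronglyClosed F hT₁sc
  have hU : F.StronglyClosed (T ⊓ M ⊔ T₁) :=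
    hN T₁ hT₁ _ (sup_le (inf_le_left.trans hTS) hT₁sc.1)
      (le_normalizer_sup (le_normalizer_inf hTn hMn) hT₁n) le_sup_right
  have h4 : T ≤ T ⊓ M ⊔ T₁ := by
    rcases hTmin _ (sc_inf F hU hTsc) inf_le_right with h | h
    · exfalso
      have h5 : T ⊓ M ≤ (T ⊓ M ⊔ T₁) ⊓ T := le_inf le_sup_left inf_le_left
      rw [h] at h5
      exact hT₀1 (le_bot_iff.mp h5)
    · exact h.ge.trans inf_le_left
  have h5 : T ⊓ T₁ = ⊥ := by
    apply le_bot_iff.mp
    rw [← h2, inf_comm P T]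
    exact inf_le_inf_left T hT₁P
  haveI : Finite T₁ := fin_of_le hT₁sc.1
  haveI : Finite ↥(T ⊓ M) := fin_of_le (inf_le_left.trans hTS)
  haveI : Finite ↥(T ⊔ T₁) := fin_of_le (sup_le hTS hT₁sc.1)
  haveI : Finite ↥(T ⊓ M ⊔ T₁) := fin_of_le hU.1
  have c1 : Nat.card T * Nat.card T₁ ≤ Nat.card ↥(T ⊔ T₁) := card_mul_le_card_sup h5
  have c2 : Nat.card ↥(T ⊔ T₁) ≤ Nat.card ↥(T ⊓ M ⊔ T₁) :=
    Subgroup.card_le_of_le (sup_le h4 le_sup_right)
  have c3 : Nat.card ↥(T ⊓ M ⊔ T₁) ≤ Nat.card ↥(T ⊓ M) * Nat.card T₁ :=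
    card_sup_le_mul ((inf_le_left.trans hTS).trans hT₁n)
  have hpos : 0 < Nat.card T₁ := Nat.card_pos
  have c4 : Nat.card T ≤ Nat.card ↥(T ⊓ M) :=
    Nat.le_of_mul_le_mul_right (c1.trans (c2.trans c3)) hpos
  exact hT₀T (Subgroup.eq_of_le_of_card_ge inf_le_left c4)

/-- The last step: from a minimal strongly closed subgroup modulo which everything is inner. -/
theorem final [Finite S] {p : ℕ} [Fact p.Prime] (hS : IsPGroup p S) (F : FusionSystem S)
    (hF : F.IsSaturated p) {d : ℕ} (hd : 0 < d) (hdS : p ^ d < Nat.card S) (ha : WEmb F p d)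
    (hb : InnAbove F p d) {T : Subgroup Ω} (hT : MinSC F T)
    (hN : ∀ T₁ : Subgroup Ω, MinSC F T₁ → ∀ U : Subgroup Ω, U ≤ S →
      S ≤ Subgroup.normalizer (U : Set Ω) → T₁ ≤ U → F.StronglyClosed U) :
    ∀ P : Subgroup Ω, F.Hom P ⊆ (innerFusionSystem S).Hom P := by
  have hcardT : Nat.card T ≤ p ^ d := card_minSC_le hS F hd ha hT
  have hTsc := hT.1
  have hTS := hTsc.1
  have hTn := le_normalizer_of_stronglyClosed F hTsc
  obtain ⟨Q₁, hTQ₁, hQ₁S, hQ₁n, hQ₁c⟩ := exists_normal_above hS hTS hTn hcardT hdS.le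
  have hQ₁sc : F.StronglyClosed Q₁ := hN T hT Q₁ hQ₁S hQ₁n hTQ₁
  have hAut : ∀ A : Subgroup Ω, Q₁ ≤ A → ∀ φ ∈ F.Hom A, φ ∈ (innerFusionSystem S).Hom A :=
    hb Q₁ hQ₁sc hQ₁c
  by_cases hTp : Nat.card T = p
  · exact inner_of_normal_top F hQ₁S hAut
      (isNormal_top_of_card_prime hS F hF hTsc hTp (hN T hT))
  · by_cases hTΦ : T ≤ (frattini ↥S).map S.subtype
    · have hΦ : F.StronglyClosed ((frattini ↥S).map S.subtype) :=
        hN T hT _ (by rintro _ ⟨y, -, rfl⟩; exact y.2) (le_normalizer_map _) hTΦ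
      have h := (Cfsg.Agent.S5276.result p hS F hF).mpr ⟨?_, hΦ⟩
      · intro P
        rw [h P]
      · intro N hNs P
        apply Set.Subset.antisymm
        · intro φ hφ
          rw [hNs P] at hφ
          obtain ⟨-, hPN, -, ψ, hψ, hext, -⟩ := hφ
          obtain ⟨-, g, hg, hψg⟩ := hAut (P ⊔ S) (hQ₁S.trans le_sup_right) ψ hψ
          exact ⟨hPN, g, ⟨hg, Subgroup.le_normalizer hg⟩, fun x => by rw [← hext x, hψg]; rfl⟩
        · exact inner_le N P
    · exact (contra_of_not_le_frattini hS F hdS ha hT hcardT hTp hTΦ hN).elim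

theorem core (p : ℕ) [Fact p.Prime] : ∀ n : ℕ, Holds.{u} p n := by
  intro n
  induction n with
  | zero =>
    intro Ω _ S _ hS F hF hn
    exfalso
    have := Nat.card_pos (α := S)
    omega
  | succ n ih =>
    intro Ω _ S _ hS F hF hn d hd hdS ha hb
    have hp : p.Prime := Fact.out
    have hS1 : S ≠ ⊥ := by
      rintro rfl
      rw [Subgroup.card_bot] at hdS
      have := Nat.one_le_pow d p hp.pos
      omega
    obtain ⟨T, hT, -⟩ := exists_minSC F (sc_top F) hS1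
    exact final hS F hF hd hdS ha hb hT (fun T₁ hT₁ U hU hUn hTU =>
      normSC_of_min ih hS F hF hn hd hdS ha hb hT₁ hU hUn hTU)

end Cfsg.Agent.H84.WEmbC
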