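import Mathlib
import Cfsg.Prelude.Def_FusionSystem
import Cfsg.Prelude.Def_FusionComponents
import Cfsg.Agent.Lib.Helper87.FSFactor
import Cfsg.Agent.S5096
import Cfsg.Agent.H84.WEmbA
import Cfsg.Agent.H84.WEmbB
import Cfsg.Agent.H84.WEmbC

set_option autoImplicit false

/-! The two directions of the nilpotency criterion through weakly embedded subgroups of one
order, in the form of the statement. -/

universe u

namespace Cfsg.Agent.H84.WEmbD

open Cfsg Cfsg.FusionSystem
open Cfsg.Agent.Lib.Helper87.FSBasic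
open Cfsg.Agent.Lib.Helper87.FSNormal
open Cfsg.Agent.H84.WEmbA
open Cfsg.Agent.H84.WEmbB
open Cfsg.Agent.H84.WEmbC

variable {Ω : Type u} [Group Ω] {S : Subgroup Ω}

theorem backward (p : ℕ) [Fact p.Prime] [Finite S] (hS : IsPGroup p S) (F : FusionSystem S)
    (hF : F.IsSaturated p) (D : Subgroup Ω) (hD1 : ⊥ < D) (hDS : D < S)
    (ha : ∀ Q : Subgroup Ω, Q ≤ S → Nat.card ↥Q = Nat.card ↥D →
      ∃ P : Subgroup Ω, F.StronglyClosed P ∧ F.StronglyClosed (Q ⊔ P) ∧ F.StronglyClosed (Q ⊓ P))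
    (hb : ∀ H : Subgroup Ω, F.IsFullyNormalized H → Nat.card ↥H = Nat.card ↥D →
      ∀ N : FusionSystem (normalizerIn S H), F.IsNormalizerSystem H N →
        ∀ P : Subgroup Ω, N.Hom P = (innerFusionSystem (normalizerIn S H)).Hom P) :
    ∀ P : Subgroup Ω, F.Hom P = (innerFusionSystem S).Hom P := by
  have hp : p.Prime := Fact.out
  haveI : Finite D := fin_of_le hDS.le
  obtain ⟨d, hd⟩ := (hS.to_le hDS.le).exists_card_eq
  have hd0 : 0 < d := by
    rcases Nat.eq_zero_or_pos d with h | h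
    · exfalso
      rw [h, pow_zero] at hd
      exact hD1.ne' (Subgroup.eq_bot_of_card_eq D hd)
    · exact h
  have hdS : p ^ d < Nat.card S := by
    rw [← hd]
    by_contra hle
    push_neg at hle
    exact hDS.ne (Subgroup.eq_of_le_of_card_ge hDS.le hle)
  have ha' : WEmb F p d := fun Q hQ hQc => ha Q hQ (hQc.trans hd.symm)
  have hb' : InnAbove F p d := by
    intro H hH hHc A hHA φ hφ
    have hHS := hH.1
    have hHn := le_normalizer_of_stronglyClosed F hH
    have hfn : F.IsFullyNormalized H := by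
      refine ⟨hHS, fun Q _ => ?_⟩
      have e : normalizerIn S H = S := inf_eq_left.mpr hHn
      rw [e]
      exact Subgroup.card_le_of_le inf_le_left
    obtain ⟨N, hN⟩ := Cfsg.Agent.S5096.result F H hHS
    have hNin := hb H hfn (hHc.trans hd.symm) N hN A
    have hAS := dom_le F hφ
    have hr := restrict_mem F hφ (sup_le le_rfl hHA : A ⊔ H ≤ A)
    have hφN : φ ∈ N.Hom A := by
      rw [hN A]
      refine ⟨hφ, le_inf hAS (hAS.trans hHn),
        fun x => ⟨map_mem F hφ x, hHn (map_mem F hφ x)⟩,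
        φ.comp (Subgroup.inclusion (sup_le le_rfl hHA)), hr, fun x => ?_, ?_⟩
      · show φ _ = φ x
        congr 1
      · exact map_eq_of_maps_into F hHS hr (fun q => stronglyClosed_maps F hH hφ _ q.2)
    rw [hNin] at hφN
    obtain ⟨-, g, hg, hφg⟩ := hφN
    exact ⟨hAS, g, hg.1, hφg⟩
  intro P
  exact Set.Subset.antisymm (core p (Nat.card S) Ω S hS F hF le_rfl d hd0 hdS ha' hb' P)
    (inner_le F P)

theorem forward (p : ℕ) [Fact p.Prime] [Finite S] (hS : IsPGroup p S) (F : FusionSystem S)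
    (hcard : p ^ 2 ≤ Nat.card S)
    (hin : ∀ P : Subgroup Ω, F.Hom P = (innerFusionSystem S).Hom P) :
    ∃ D : Subgroup Ω, ⊥ < D ∧ D < S ∧
      (∀ Q : Subgroup Ω, Q ≤ S → Nat.card ↥Q = Nat.card ↥D →
        ∃ P : Subgroup Ω, F.StronglyClosed P ∧ F.StronglyClosed (Q ⊔ P) ∧
          F.StronglyClosed (Q ⊓ P)) ∧
      (∀ H : Subgroup Ω, F.IsFullyNormalized H → Nat.card ↥H = Nat.card ↥D →
        ∀ N : FusionSystem (normalizerIn S H), F.IsNormalizerSystem H N →
          ∀ P : Subgroup Ω, N.Hom P = (innerFusionSystem (normalizerIn S H)).Hom P) := by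
  have hp : p.Prime := Fact.out
  obtain ⟨n, hn⟩ := hS.exists_card_eq
  have hn2 : 2 ≤ n := by
    rw [hn] at hcard
    exact (Nat.pow_le_pow_iff_right hp.one_lt).mp hcard
  obtain ⟨D, -, hDS, hDc⟩ := exists_between hS (bot_le : (⊥ : Subgroup Ω) ≤ S) le_rfl
    (m := n - 1) (by rw [Subgroup.card_bot]; exact Nat.one_le_pow _ _ hp.pos)
    (by rw [hn]; exact Nat.pow_le_pow_right hp.pos (Nat.sub_le n 1))
  have hD1 : ⊥ < D := by
    rw [bot_lt_iff_ne_bot]
    rintro rfl
    rw [Subgroup.card_bot] at hDc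
    have h1 : 1 < p ^ (n - 1) := Nat.one_lt_pow (by omega) hp.one_lt
    omega
  have hDlt : D < S := by
    refine lt_of_le_of_ne hDS ?_
    rintro rfl
    rw [hn] at hDc
    have h1 := (Nat.pow_right_injective hp.two_le) hDc
    omega
  have hsc : ∀ Q : Subgroup Ω, Q ≤ S → S ≤ Subgroup.normalizer (Q : Set Ω) →
      F.StronglyClosed Q := by
    intro Q hQ hQn
    refine ⟨hQ, fun R hR φ hφ x => ?_⟩
    rw [hin R] at hφ
    obtain ⟨-, g, hg, hφg⟩ := hφ
    rw [hφg]
    exact ((Subgroup.mem_normalizer_iff.mp (hQn hg)) x).mp (hR x.2)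
  refine ⟨D, hD1, hDlt, ?_, ?_⟩
  · intro Q hQ hQc
    have hQn : S ≤ Subgroup.normalizer (Q : Set Ω) := by
      have hidx : (Q.subgroupOf S).index = p := by
        have h1 := Subgroup.card_mul_index (Q.subgroupOf S)
        rw [card_subgroupOf hQ, hQc, hDc, hn] at h1
        have h2 : p ^ (n - 1) * (Q.subgroupOf S).index = p ^ (n - 1) * p := by
          rw [h1, ← pow_succ]
          congr 1
          omega
        exact Nat.eq_of_mul_eq_mul_left (pow_pos hp.pos _) h2
      have hnorm : (Q.subgroupOf S).Normal := by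
        apply Subgroup.normal_of_index_eq_minFac_card
        rw [hidx, hn, Nat.Prime.pow_minFac hp (by omega)]
      exact (Subgroup.normal_subgroupOf_iff_le_normalizer hQ).mp hnorm
    refine ⟨⊥, sc_bot F, ?_, ?_⟩
    · rw [sup_bot_eq]
      exact hsc Q hQ hQn
    · rw [inf_bot_eq]
      exact sc_bot F
  · intro H hH hHc N hN P
    apply Set.Subset.antisymm
    · intro φ hφ
      rw [hN P] at hφ
      obtain ⟨-, hPN, -, ψ, hψ, hext, hmap⟩ := hφ
      rw [hin] at hψ
      obtain ⟨-, g, hg, hψg⟩ := hψ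
      have hgH : g ∈ Subgroup.normalizer (H : Set Ω) := by
        rw [Subgroup.mem_normalizer_iff]
        intro h
        constructor
        · intro hh
          have h1 : ψ (Subgroup.inclusion le_sup_right ⟨h, hh⟩) ∈
              (H.subgroupOf (P ⊔ H)).map ψ := ⟨_, Subgroup.mem_subgroupOf.mpr hh, rfl⟩
          rw [hmap, hψg] at h1
          exact h1
        · intro hh
          rw [← hmap] at hh
          obtain ⟨z, hz, hzh⟩ := hh
          rw [hψg] at hzh
          have h1 : (z : Ω) = h := mul_left_cancel (mul_right_cancel hzh)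
          rw [← h1]
          exact Subgroup.mem_subgroupOf.mp hz
      exact ⟨hPN, g, ⟨hg, hgH⟩, fun x => by rw [← hext x, hψg]; rfl⟩
    · exact inner_le N P

end Cfsg.Agent.H84.WEmbD
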